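import Cfsg.Agent.H679.HT.SuElt_m3
import Cfsg.Agent.H279.Dl.Two
import Cfsg.Agent.H992.HT.Trace
import Cfsg.Agent.H316.HT.Defs
import Cfsg.Agent.H477.HC.Levi
import Cfsg.Agent.H93.HT.AltRowOut_m3
import Cfsg.Agent.H160.HT.Mu_m3
import Cfsg.Agent.H477.HC.HcPt
import Cfsg.Agent.H477.HC.Arith_m3
import Cfsg.Agent.H766.PQ.A01_m3
import Cfsg.Agent.H40.OC.Cor_m3
import Cfsg.Agent.H37.HT.SpElt_m3
import Cfsg.Agent.H538.GlCyc
import Cfsg.Agent.H113.NormTwoChar
import Cfsg.Agent.H324.AP.Dim_m3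
import Cfsg.Agent.H674.XZ.OddB
import Cfsg.Agent.LieClassical.QuadCount
import Cfsg.Agent.H726.HT.Ab_m3
import Cfsg.Agent.H130.Spn
import Cfsg.Agent.S0246
import Cfsg.Agent.H907.ExtFree
import Cfsg.Agent.H686.CgPsp
import Cfsg.Agent.S0270
import Cfsg.Agent.Schreier.ClassPSp
import Cfsg.Agent.LieClassical.SympCenter
import Cfsg.Agent.H904.McLCent
import Cfsg.Agent.H394.PBTools_m3
import Cfsg.Agent.H894.PQ.Ly
import Cfsg.Agent.H204.Ore.LyFive_m3
import Cfsg.Agent.H681.IP.Sec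
import Cfsg.Agent.H713.HT.FiCx
import Mathlib
import Cfsg.Agent.H143.HT.FiYY
import Cfsg.Agent.H266.M13.Syl
import Cfsg.Agent.H596.Degree
import Cfsg.Agent.Characters.GaloisIrr
import Cfsg.Agent.CharactersDeep.Extraspecial
import Mathlib.GroupTheory.Index
import Cfsg.Agent.H285.Ccp.HNThree_m3
import Cfsg.Agent.H697.EP.PsuWeil_m3
import Cfsg.Agent.Blocks.Osima
import Cfsg.Agent.S0157
import Cfsg.Agent.S1556
import Cfsg.Agent.S0360
import Cfsg.Agent.S2064
import Cfsg.Agent.H715.Fpr.M23_m3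
import Cfsg.Agent.KFacts.M24Two.Out
import Cfsg.Agent.H112.HT.L3Row_m3
import Cfsg.Agent.Characters.Clifford
import Cfsg.Agent.Characters.GaloisBasic
import Cfsg.Agent.H920.HT.M11_mg_m3
import Cfsg.Agent.H34.TI.Defs
import Cfsg.Agent.H735.J4C.Fin
import Cfsg.Agent.H23.FreeAct
import Cfsg.Agent.H608.TI.Final
import Cfsg.Agent.H592.Defect
import Cfsg.Agent.H633.Unique
import Cfsg.Agent.S0908
import Cfsg.Agent.H649.Transport
import Cfsg.Agent.S4710
import Cfsg.Agent.Blocks.PrincipalSection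
import Cfsg.Agent.H35.TI.McLCent
import Cfsg.Agent.H104.EB.COne
import Cfsg.Agent.Characters.ClassMul
import Cfsg.Agent.H849.OZ.Bad_m3
import Cfsg.Agent.BpSpor.CoTwoFive
import Cfsg.Agent.H763.Wk.CoTwoFive
import Cfsg.Agent.H647.SpF.CoNotTwentyFive
import Cfsg.Agent.S0044
import Cfsg.Agent.H678.PV.CoTwoFive
import Cfsg.Agent.CoFive.Dims
import Cfsg.Agent.OddOrderLocal.RankTwoSolvable
import Cfsg.Agent.Characters.DefectZero
import Cfsg.Agent.Blocks.CyclicUpper
import Cfsg.Agent.KFacts.CoTwo.Main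
import Cfsg.Agent.H165.RV.HexLin
import Cfsg.Agent.Cit.HexG2
import Cfsg.Agent.Cit.HexD4
import Cfsg.Agent.S0190
import Cfsg.Agent.H112.HT.Ind_m3
import Cfsg.Agent.S0886
import Cfsg.Agent.H937.SL3Aut
import Cfsg.Agent.H386.PslPts
import Mathlib.NumberTheory.LegendreSymbol.QuadraticChar.Basic
import Cfsg.Agent.H624.HT.RowOf
import Cfsg.Agent.FastGrp
import Cfsg.Agent.Prune
set_option linter.all false

section
prune_inst 0x7f00000000000000000000000000000000000000000000000000000000000000000000000000000000000000000000000000000000000000000000000000000000000000000000000000000000000000003fffffffffdfffffffffffffffffbeffbdfbfeffff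

-- part: H178/HT/Fin
section
prune_inst 0xddeff9bba8fbdfdfff7e3fa6d6cff833828fffe6dff94bffe0e99fabdf230609c52ba509e018fe1ed6601c10b87843fd7eeeffe06bd87ffffd1ff41ffbee4ff5f7b50971d48c340fbc2fff03f0678e6f000000000020000000000000000000000200000000
set_option linter.all false
open scoped Cfsg.Agent.FastGrp

-- part: H501/HT/HX
section
/-!
# The hypothesis `hX` of the trace lemma (helper501, S4933, unitary primes)

`R χ = Ind_Q (α · χ ∘ ρ)`, `ρ : Q → G'` onto, `π` the permutation character of a transitive `G'`-set, `P₁` the stabiliser in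
`Q` of a point.  If `⟨R χ₁, R χ₂⟩ = 2 δ` for the constituents of `π`, and `⟨π, χ⟩ = 1`, then every constituent `X` of `R χ`
satisfies `⟨X|P₁, α|P₁⟩ = 1`.
-/

set_option autoImplicit false

open scoped ComplexConjugate
open Cfsg

namespace Cfsg.Agent.H501.HT

open Cfsg.Agent.OddOrderCharacters.Clifford Cfsg.Agent.Characters MulAction Module

universe u v w

section abs

/-- the sum of a class function weighted by the number of fixed points -/
theorem sum_fix {H : Type*} [Group H] [Fintype H] {Y : Type*} [MulAction H Y] [Finite Y]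
    (htr : ∀ y y' : Y, ∃ g : H, g • y = y') (y₀ : Y) {f : H → ℂ} (hf : IsClassFunction H f)
    [Fintype (stabilizer H y₀)] :
    ∑ x : H, f x * (Nat.card {y : Y // x • y = y} : ℂ) = (Nat.card Y : ℂ) * ∑ x : stabilizer H y₀, f x := by
  classical
  let _ : Fintype Y := Fintype.ofFinite Y
  have h1 : ∀ x : H, f x * (Nat.card {y : Y // x • y = y} : ℂ) = ∑ y : Y, if x • y = y then f x else 0 := by
    intro x
    rw [Nat.card_eq_fintype_card, Fintype.card_subtype, Finset.sum_ite, Finset.sum_const_zero, add_zero, Finset.sum_const,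
      nsmul_eq_mul, mul_comm]
  rw [Finset.sum_congr rfl fun x _ => h1 x, Finset.sum_comm]
  have h2 : ∀ y : Y, ∑ x : H, (if x • y = y then f x else 0) = ∑ x : stabilizer H y₀, f x := by
    intro y
    obtain ⟨g, rfl⟩ := htr y₀ y
    rw [← Equiv.sum_comp (MulAut.conj g).toEquiv]
    have h3 : ∀ x : H, (if (MulAut.conj g).toEquiv x • g • y₀ = g • y₀ then f ((MulAut.conj g).toEquiv x) else 0) =
        if x • y₀ = y₀ then f x else 0 := by
      intro x
      change (if (g * x * g⁻¹) • g • y₀ = g • y₀ then f (g * x * g⁻¹) else 0) = _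
      have h4 : ((g * x * g⁻¹) • g • y₀ = g • y₀) ↔ x • y₀ = y₀ := by
        rw [mul_smul, mul_smul, inv_smul_smul, smul_left_cancel_iff]
      have h5 : f (g * x * g⁻¹) = f x := hf x g
      simp only [h4, h5]
    rw [Finset.sum_congr rfl fun x _ => h3 x, sum_eq_sum_subgroup (stabilizer H y₀)
      (fun x => if x • y₀ = y₀ then f x else 0) (fun x hx => if_neg hx)]
    exact Finset.sum_congr rfl fun x _ => if_pos x.2
  rw [Finset.sum_congr rfl fun y _ => h2 y, Finset.sum_const, Finset.card_univ, nsmul_eq_mul, Nat.card_eq_fintype_card]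

/-- characters with a common constituent are not orthogonal -/
theorem inner_ne_zero {G : Type*} [Group G] [Fintype G] {A B : G → ℂ} (hA : IsCharacter G A) (hB : IsCharacter G B)
    (X : IrrCharacter G) (h1 : classInner (X : G → ℂ) A ≠ 0) (h2 : classInner (X : G → ℂ) B ≠ 0) :
    classInner A B ≠ 0 := by
  classical
  have hX := Core.isIrr_isCharacter X.2
  have h3 : classInner A (X : G → ℂ) ≠ 0 := by
    intro h
    apply h1
    rw [← Core.classInner_conj_symm, h, map_zero]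
  have h4 := isCharacter_sub_irr hA X.2 h3
  obtain ⟨a, ha⟩ := Core.classInner_isNat h4 hB
  obtain ⟨b, hb⟩ := Core.classInner_isNat hX hB
  have h5 : classInner A B = ((a + b : ℕ) : ℂ) := by
    have e : A = (A - (X : G → ℂ)) + (X : G → ℂ) := by rw [sub_add_cancel]
    rw [e, Core.classInner_add_left, ha, hb]
    push_cast
    rfl
  rw [h5]
  intro h
  have h6 : a + b = 0 := by exact_mod_cast h
  apply h2
  rw [hb, show b = 0 by omega, Nat.cast_zero]

/-- a constituent of a character of norm two has multiplicity one -/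
theorem mult_one {G : Type*} [Group G] [Fintype G] {A : G → ℂ} (hA : IsCharacter G A) (h2 : classInner A A = 2)
    (X : IrrCharacter G) (h1 : classInner (X : G → ℂ) A ≠ 0) : classInner (X : G → ℂ) A = 1 := by
  classical
  have hfin := Core.finite_irr (G := G)
  let _ : Fintype (IrrCharacter G) := Fintype.ofFinite _
  obtain ⟨m, hm⟩ := Core.isCharacter_iff.1 hA
  have hm' : A = ∑ ψ : IrrCharacter G, ((m ψ : ℂ)) • (ψ : G → ℂ) := by
    rw [hm]
    exact Finset.sum_congr rfl fun ψ _ => (Nat.cast_smul_eq_nsmul ℂ _ _).symm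
  have h3 : ∑ ψ : IrrCharacter G, m ψ * m ψ = 2 := by
    have h4 : ((∑ ψ : IrrCharacter G, m ψ * m ψ : ℕ) : ℂ) = 2 := by
      rw [← h2, hm', Core.classInner_sum_smul_sum_smul]
      push_cast
      refine Finset.sum_congr rfl fun ψ _ => ?_
      rw [Complex.conj_natCast]
    exact_mod_cast h4
  have h5 : classInner (X : G → ℂ) A = m X := by
    rw [← Core.classInner_conj_symm, hm', Core.classInner_sum_smul_irr, Complex.conj_natCast]
  have h6 : m X * m X ≤ 2 := by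
    rw [← h3]
    exact Finset.single_le_sum (f := fun ψ => m ψ * m ψ) (fun ψ _ => Nat.zero_le _) (Finset.mem_univ X)
  have h7 : m X ≠ 0 := by
    intro h
    apply h1
    rw [h5, h, Nat.cast_zero]
  have h8 : m X = 1 := by nlinarith only [h6, Nat.pos_of_ne_zero h7]
  rw [h5, h8, Nat.cast_one]

/-- **the abstract form** -/
theorem hX_abs {G : Type u} [Group G] [Fintype G] {G' : Type v} [Group G'] [Fintype G'] (Q P₁ : Subgroup G) [Fintype Q]
    [Fintype P₁] (h1Q : P₁ ≤ Q) (ρ : Q →* G') (hρ : Function.Surjective ρ) {Y : Type w} [MulAction G' Y] [Finite Y]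
    (htr : ∀ y y' : Y, ∃ g : G', g • y = y') (y₀ : Y) (hP : ∀ g : Q, ρ g • y₀ = y₀ ↔ (g : G) ∈ P₁)
    {α : Q → ℂ} (hα : IsClassFunction Q α) (R : IrrCharacter G' → G → ℂ) (hRc : ∀ χ, IsCharacter G (R χ))
    (hR : ∀ (X : IrrCharacter G) (χ : IrrCharacter G'), classInner (X : G → ℂ) (R χ) =
      classInner (fun g : Q => (X : G → ℂ) g) (fun g => α g * (χ : G' → ℂ) (ρ g)))
    (hN : ∀ χ₁ χ₂ : IrrCharacter G', classInner (fun g => (Nat.card {y : Y // g • y = y} : ℂ)) (χ₁ : G' → ℂ) ≠ 0 →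
      classInner (fun g => (Nat.card {y : Y // g • y = y} : ℂ)) (χ₂ : G' → ℂ) ≠ 0 →
      classInner (R χ₁) (R χ₂) = if χ₁ = χ₂ then 2 else 0)
    (χ : IrrCharacter G') (hχ : classInner (fun g => (Nat.card {y : Y // g • y = y} : ℂ)) (χ : G' → ℂ) = 1)
    (X : IrrCharacter G)
    (hX : classInner (fun g : Q => (X : G → ℂ) g) (fun g => α g * (χ : G' → ℂ) (ρ g)) ≠ 0) :
    classInner (fun g : P₁ => (X : G → ℂ) g) (fun g => α ⟨g, h1Q g.2⟩) = 1 := by
  classical
  have hfin := Core.finite_irr (G := G')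
  let _ : Fintype (IrrCharacter G') := Fintype.ofFinite _
  set π : G' → ℂ := fun g => (Nat.card {y : Y // g • y = y} : ℂ) with hπ
  have hπc : IsCharacter G' π := by
    let _ : Fintype Y := Fintype.ofFinite Y
    exact S0157.isCharacter_fixedBy Y
  have hπcl := Core.isCharacter_isClassFunction hπc
  have hXcl : IsClassFunction G (X : G → ℂ) := Core.isIrr_isClassFunction X.2
  -- the action of `Q`
  let _ : MulAction Q Y := MulAction.compHom Y ρ
  have hact : ∀ (g : Q) (y : Y), g • y = ρ g • y := fun g y => rfl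
  have htr' : ∀ y y' : Y, ∃ g : Q, g • y = y' := by
    intro y y'
    obtain ⟨g, hg⟩ := htr y y'
    obtain ⟨x, rfl⟩ := hρ g
    exact ⟨x, hg⟩
  let f : Q → ℂ := fun g => (X : G → ℂ) g * conj (α g)
  have hf : IsClassFunction Q f := by
    intro g x
    change (X : G → ℂ) ((x * g * x⁻¹ : Q) : G) * conj (α (x * g * x⁻¹)) = _
    rw [hα g x]
    congr 1
    exact hXcl g x
  have e1 := sum_fix htr' y₀ hf
  have hcard : Nat.card Q = Nat.card Y * Nat.card (stabilizer Q y₀) := by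
    have h1 : Nat.card (orbit Q y₀) = Nat.card Y := by
      refine Nat.card_congr (Equiv.subtypeUnivEquiv fun y => ?_)
      obtain ⟨g, hg⟩ := htr' y₀ y
      exact ⟨g, hg⟩
    rw [← h1, ← Nat.card_prod]
    exact Nat.card_congr (orbitProdStabilizerEquivGroup Q y₀).symm
  -- the stabiliser is `P₁`
  let e : stabilizer Q y₀ ≃ P₁ :=
    { toFun := fun g => ⟨((g : Q) : G), (hP g.1).1 g.2⟩
      invFun := fun g => ⟨⟨g, h1Q g.2⟩, (hP ⟨g, h1Q g.2⟩).2 g.2⟩
      left_inv := fun g => rfl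
      right_inv := fun g => rfl }
  have e2 : ∑ x : stabilizer Q y₀, f x = ∑ x : P₁, (X : G → ℂ) x * conj (α ⟨x, h1Q x.2⟩) :=
    Fintype.sum_equiv e _ _ fun x => rfl
  have hcard' : Nat.card (stabilizer Q y₀) = Nat.card P₁ := Nat.card_congr e
  have hY0 : (Nat.card Y : ℂ) ≠ 0 := by
    have : Nonempty Y := ⟨y₀⟩
    exact_mod_cast Nat.card_pos.ne'
  have hP0 : (Nat.card P₁ : ℂ) ≠ 0 := Core.card_ne_zero_complex
  have e3 : classInner (fun g : P₁ => (X : G → ℂ) g) (fun g => α ⟨g, h1Q g.2⟩) =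
      classInner (fun g : Q => (X : G → ℂ) g) (fun g => α g * π (ρ g)) := by
    rw [Core.classInner_def, Core.classInner_def, hcard, hcard', ← e2]
    have e4 : ∑ g : Q, (X : G → ℂ) g * conj (α g * π (ρ g)) =
        ∑ x : Q, f x * (Nat.card {y : Y // x • y = y} : ℂ) := by
      refine Finset.sum_congr rfl fun g _ => ?_
      have e5 : conj (π (ρ g)) = (Nat.card {y : Y // g • y = y} : ℂ) := Complex.conj_natCast _
      rw [map_mul, e5]
      ring
    rw [e4, e1]
    push_cast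
    field_simp
  -- the decomposition of `π`
  have e6 : (fun g : Q => α g * π (ρ g)) = ∑ χ' : IrrCharacter G', classInner π (χ' : G' → ℂ) •
      (fun g : Q => α g * (χ' : G' → ℂ) (ρ g)) := by
    funext g
    have h1 := congrFun (Core.classFunction_eq_sum hπcl) (ρ g)
    rw [h1, Finset.sum_apply, Finset.sum_apply, Finset.mul_sum]
    refine Finset.sum_congr rfl fun χ' _ => ?_
    rw [Pi.smul_apply, Pi.smul_apply, smul_eq_mul, smul_eq_mul]
    ring
  rw [e3, e6, Core.classInner_sum_right, Finset.sum_eq_single χ]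
  · rw [Core.classInner_smul_right, hχ, map_one, one_mul, ← hR]
    refine mult_one (hRc χ) ?_ X (by rw [hR]; exact hX)
    have h1 : classInner π (χ : G' → ℂ) ≠ 0 := by rw [hχ]; exact one_ne_zero
    rw [hN χ χ h1 h1, if_pos rfl]
  · intro χ' _ hne
    rw [Core.classInner_smul_right]
    by_cases h0 : classInner π (χ' : G' → ℂ) = 0
    · rw [h0, map_zero, zero_mul]
    · have h1 : classInner π (χ : G' → ℂ) ≠ 0 := by rw [hχ]; exact one_ne_zero
      have h2 := hN χ' χ h0 h1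
      rw [if_neg hne] at h2
      have h3 : classInner (X : G → ℂ) (R χ') = 0 := by
        by_contra h4
        exact inner_ne_zero (hRc χ') (hRc χ) X h4 (by rw [hR]; exact hX) h2
      rw [← hR, h3, mul_zero]
  · intro h
    exact absurd (Finset.mem_univ _) h

end abs

section hc

open Cfsg.Agent.H53.HC Cfsg.Agent.H477.HC Cfsg.Agent.H749.Two Cfsg.Agent.H279.Dl

variable {K : Type u} [Field K] {V : Type v} [AddCommGroup V] [Module K V] {F : CForm K V}
  {X' : Type w} [AddCommGroup X'] [Module K X'] {F' : CForm K X'} {j : X' →ₗ[K] V} {W₀ : Submodule K V}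

/-- **Frobenius reciprocity** for `F.hc c ψ` -/
theorem hc_frob [FiniteDimensional K V] [Fintype F.iso] {k : ℕ} [Fintype (F.Om k)]
    {c : GL (Fin k) K → ℂ} (hcf : IsClassFunction _ c) {ψ : F.iso → Submodule K V → ℂ}
    (hcj : ∀ x g W, ψ (x * g * x⁻¹) (W.map (F.iso.subtype x : V →ₗ[K] V)) = ψ g W) (hW₀ : W₀ ∈ F.Om k)
    [iQ : Fintype (stabW F.iso.subtype W₀)] {χ : F.iso → ℂ} (hχ : IsClassFunction F.iso χ) :
    classInner (F.hc c ψ) χ =
      classInner (fun g : stabW F.iso.subtype W₀ => flagTerm F.iso.subtype c g W₀ * ψ g W₀) (fun g => χ g) := by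
  classical
  let _ := subAct F.iso.subtype (F.Om k) F.Om_map
  have := pretrans (F := F) (k := k)
  let φ : F.iso → F.Om k → ℂ := fun g W => flagTerm F.iso.subtype c g W.1 * ψ g W.1
  have hφ : ∀ (x g : F.iso) (W : F.Om k), φ (x * g * x⁻¹) (x • W) = φ g W := fun x g W =>
    congrArg₂ (· * ·) (flagTerm_conj F.iso.subtype hcf x g W.1) (hcj x g W.1)
  have hst : stabilizer F.iso (⟨W₀, hW₀⟩ : F.Om k) = stabW F.iso.subtype W₀ := by
    ext g
    exact ⟨fun h => congrArg Subtype.val (mem_stabilizer_iff.1 h), fun h => mem_stabilizer_iff.2 (Subtype.ext h)⟩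
  have key : ∀ (S : Subgroup F.iso) (_ : S = stabilizer F.iso (⟨W₀, hW₀⟩ : F.Om k)) [Fintype S],
      classInner (indFun (stabilizer F.iso (⟨W₀, hW₀⟩ : F.Om k)) (stabFun φ ⟨W₀, hW₀⟩)) χ =
        classInner (fun g : S => φ g ⟨W₀, hW₀⟩) (fun g : S => χ g) := by
    rintro _ rfl _
    exact classInner_indFun _ _ _ hχ
  rw [CForm.hc_eq_orbSum F]
  change classInner (orbSum φ) χ = _
  rw [orbSum_eq_indFun _ hφ ⟨W₀, hW₀⟩]
  exact key _ hst.symm

/-- the stabiliser of `W₀ ⊔ j s` -/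
theorem stab_iff [FiniteDimensional K V] [FiniteDimensional K X'] (h : Cmp F F' j W₀)
    {ρ : stabW F.iso.subtype W₀ →* F'.iso}
    (hρ1 : ∀ (g : stabW F.iso.subtype W₀) y, ((g : F.iso) : V ≃ₗ[K] V) (j y) - j ((ρ g : X' ≃ₗ[K] X') y) ∈ W₀)
    (g : stabW F.iso.subtype W₀) (U : Submodule K X') :
    U.map (F'.iso.subtype (ρ g) : X' →ₗ[K] X') = U ↔ (g : F.iso) ∈ stabW F.iso.subtype (W₀ ⊔ U.map j) := by
  have hgW : ∀ w ∈ W₀, ((g : F.iso) : V ≃ₗ[K] V) w ∈ W₀ := by
    intro w hw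
    have h1 : W₀.map (F.iso.subtype (g : F.iso) : V →ₗ[K] V) = W₀ := g.2
    have : F.iso.subtype (g : F.iso) w ∈ W₀.map (F.iso.subtype (g : F.iso) : V →ₗ[K] V) := ⟨w, hw, rfl⟩
    rwa [h1] at this
  constructor
  · intro h1
    refine map_eq_of_le F.iso.subtype fun w hw => ?_
    obtain ⟨a, ha, b, hb, rfl⟩ := Submodule.mem_sup.1 hw
    obtain ⟨y, hy, rfl⟩ := hb
    rw [map_add]
    refine Submodule.add_mem _ (Submodule.mem_sup_left (hgW a ha)) ?_
    have h2 : ((g : F.iso) : V ≃ₗ[K] V) (j y) = (((g : F.iso) : V ≃ₗ[K] V) (j y) - j ((ρ g : X' ≃ₗ[K] X') y)) +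
        j ((ρ g : X' ≃ₗ[K] X') y) := by abel
    change ((g : F.iso) : V ≃ₗ[K] V) (j y) ∈ _
    rw [h2]
    refine Submodule.add_mem _ (Submodule.mem_sup_left (hρ1 g y)) (Submodule.mem_sup_right ⟨_, ?_, rfl⟩)
    rw [← h1]
    exact ⟨y, hy, rfl⟩
  · intro h1
    refine map_eq_of_le F'.iso.subtype fun y hy => ?_
    have h2 : (W₀ ⊔ U.map j).map (F.iso.subtype (g : F.iso) : V →ₗ[K] V) = W₀ ⊔ U.map j := h1
    have h3 : ((g : F.iso) : V ≃ₗ[K] V) (j y) ∈ W₀ ⊔ U.map j := by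
      have : F.iso.subtype (g : F.iso) (j y) ∈ (W₀ ⊔ U.map j).map (F.iso.subtype (g : F.iso) : V →ₗ[K] V) :=
        ⟨j y, Submodule.mem_sup_right ⟨y, hy, rfl⟩, rfl⟩
      rwa [h2] at this
    have h4 : j ((ρ g : X' ≃ₗ[K] X') y) ∈ W₀ ⊔ U.map j := by
      have h5 := Submodule.sub_mem _ h3 (Submodule.mem_sup_left (hρ1 g y))
      rwa [sub_sub_cancel] at h5
    obtain ⟨a, ha, b, hb, hab⟩ := Submodule.mem_sup.1 h4
    obtain ⟨y', hy', rfl⟩ := hb
    obtain ⟨r, -, hr, hr0⟩ := h.exists_proj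
    have h6 := congrArg r hab
    rw [map_add, hr0 a ha, zero_add, hr, hr] at h6
    change (ρ g : X' ≃ₗ[K] X') y ∈ U
    rw [← h6]
    exact hy'

/-- **`hX` of the trace lemma**: `P₁` = the stabiliser of `W₀` and of `Lam = W₀ ⊔ j (s y₀)`, `s y₀` maximal totally
singular -/
theorem hX_hc [Finite K] [FiniteDimensional K V] [Finite V] [FiniteDimensional K X'] [Fintype F.iso] [Fintype F'.iso]
    (h : Cmp F F' j W₀) {b : ℕ} [Fintype (F.Om b)] (hW₀ : W₀ ∈ F.Om b) (c : IrrCharacter (GL (Fin b) K))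
    {ρ : stabW F.iso.subtype W₀ →* F'.iso}
    (hρ1 : ∀ (g : stabW F.iso.subtype W₀) y, ((g : F.iso) : V ≃ₗ[K] V) (j y) - j ((ρ g : X' ≃ₗ[K] X') y) ∈ W₀)
    (hρ2 : ∀ g : stabW F.iso.subtype W₀, (g : F.iso) ∈ F.TT W₀ → ρ g = 1) (hρ3 : Function.Surjective ρ)
    {Y : Type*} [MulAction F'.iso Y] [Finite Y] (htr : ∀ y y' : Y, ∃ g : F'.iso, g • y = y')
    (s : Y → Submodule K X')
    (hs : ∀ (g : F'.iso) y, g • y = y ↔ (s y).map (F'.iso.subtype g : X' →ₗ[K] X') = s y) (y₀ : Y)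
    {Lam : Submodule K V} (hLam : Lam = W₀ ⊔ (s y₀).map j)
    (hN : ∀ χ₁ χ₂ : IrrCharacter F'.iso,
      classInner (fun g => (Nat.card {y : Y // g • y = y} : ℂ)) (χ₁ : F'.iso → ℂ) ≠ 0 →
      classInner (fun g => (Nat.card {y : Y // g • y = y} : ℂ)) (χ₂ : F'.iso → ℂ) ≠ 0 →
      classInner (F.hc (c : GL (Fin b) K → ℂ) (psf F W₀ ((χ₁ : F'.iso → ℂ) ∘ ρ)))
        (F.hc (c : GL (Fin b) K → ℂ) (psf F W₀ ((χ₂ : F'.iso → ℂ) ∘ ρ))) = if χ₁ = χ₂ then 2 else 0)
    (χ : IrrCharacter F'.iso)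
    (hχ : classInner (fun g => (Nat.card {y : Y // g • y = y} : ℂ)) (χ : F'.iso → ℂ) = 1)
    [Fintype (stabW F.iso.subtype W₀)] [Fintype ↥(stabW F.iso.subtype W₀ ⊓ stabW F.iso.subtype Lam)]
    (X : IrrCharacter F.iso)
    (hX : classInner (fun x : stabW F.iso.subtype W₀ => (X : F.iso → ℂ) x)
      (fun x => flagTerm F.iso.subtype (c : GL (Fin b) K → ℂ) x W₀ * (χ : F'.iso → ℂ) (ρ x)) ≠ 0) :
    classInner (fun x : ↥(stabW F.iso.subtype W₀ ⊓ stabW F.iso.subtype Lam) => (X : F.iso → ℂ) x)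
      (fun x => flagTerm F.iso.subtype (c : GL (Fin b) K → ℂ) x W₀) = 1 := by
  classical
  subst hLam
  have hcf := Core.isIrr_isClassFunction c.2
  have hpsi : ∀ χ : IrrCharacter F'.iso, IsCharacter (stabW F.iso.subtype W₀) ((χ : F'.iso → ℂ) ∘ ρ) := fun χ =>
    Core.isCharacter_comp ρ (Core.isIrr_isCharacter χ.2)
  have hPsi : ∀ χ : IrrCharacter F'.iso, Psi F b (psf F W₀ ((χ : F'.iso → ℂ) ∘ ρ)) := fun χ =>
    Psi.psf hW₀ (hpsi χ) (fun g hg => by
      rw [Function.comp_apply, Function.comp_apply, hρ2 g hg, map_one])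
  refine hX_abs (stabW F.iso.subtype W₀) (stabW F.iso.subtype W₀ ⊓ stabW F.iso.subtype (W₀ ⊔ (s y₀).map j)) inf_le_left ρ
    hρ3 htr y₀ (fun g => ?_) (α := fun x => flagTerm F.iso.subtype (c : GL (Fin b) K → ℂ) x W₀) ?_
    (fun χ => F.hc (c : GL (Fin b) K → ℂ) (psf F W₀ ((χ : F'.iso → ℂ) ∘ ρ))) (fun χ => hc_chr c.2 (hPsi χ) hW₀)
    (fun X χ => ?_) hN χ hχ X hX
  · rw [hs, stab_iff h hρ1]
    exact ⟨fun h1 => ⟨g.2, h1⟩, fun h1 => h1.2⟩
  · intro g x
    have h1 := flagTerm_conj F.iso.subtype hcf (x : F.iso) (g : F.iso) W₀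
    have h2 : W₀.map (F.iso.subtype (x : F.iso) : V →ₗ[K] V) = W₀ := x.2
    rw [h2] at h1
    exact h1
  · rw [← Core.classInner_conj_symm, hc_frob hcf (hPsi χ).cj hW₀ (Core.isIrr_isClassFunction X.2),
      Core.classInner_conj_symm]
    congr 1
    funext g
    rw [psf_self (Core.isCharacter_isClassFunction (hpsi χ))]
    rfl

end hc

end Cfsg.Agent.H501.HT
end

-- part: H992/HT/Pair
section
/-!
# S4933, the consequence of the trace lemma for two constituents (helper992)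

`pair_degree` : `Ind_Q^G ψ` has exactly the two constituents `X₁ ≠ X₂`, `Ind_{P₂}^M μ₂ = Y₁ + Y₂`: every `X_i(1)` is
`Y_j(1) / (Ind μ₂)(1) * (Ind ψ)(1)` for some `j`.
`pair_vd` : the same for the exponents of `p`, when `p` divides neither `Y₁(1)` nor `Y₂(1)`.
-/

set_option autoImplicit false

namespace Cfsg.Agent.H992.HT

open Cfsg Cfsg.Agent.Characters.Core

universe u

theorem pair_degree {G : Type u} [Group G] [Fintype G] (Q M P₁ P₂ T : Subgroup G)
    [Fintype Q] [Fintype M] [Fintype P₁] [Fintype P₂] [Fintype T] [Fintype ↥(P₁ ⊓ P₂)]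
    (h1Q : P₁ ≤ Q) (h2M : P₂ ≤ M) (h1T : P₁ ≤ T) (h2T : P₂ ≤ T) (hD : Q ⊓ M ≤ P₁ ⊓ P₂)
    (hcard : Nat.card P₁ = Nat.card P₂)
    (μ₁ : IrrCharacter P₁) (μ₂ : IrrCharacter P₂) (ν : IrrCharacter ↥(P₁ ⊓ P₂))
    (hν1 : ∀ d : ↥(P₁ ⊓ P₂), (μ₁ : P₁ → ℂ) ⟨d, d.2.1⟩ = (ν : ↥(P₁ ⊓ P₂) → ℂ) d)
    (hν2 : ∀ d : ↥(P₁ ⊓ P₂), (μ₂ : P₂ → ℂ) ⟨d, d.2.2⟩ = (ν : ↥(P₁ ⊓ P₂) → ℂ) d)
    (κ : IrrCharacter T) (hκ : classInner (fun x : P₁ => (κ : T → ℂ) ⟨x, h1T x.2⟩) (μ₁ : P₁ → ℂ) ≠ 0)
    (hκ1 : (κ : T → ℂ) 1 * Nat.card P₁ = Nat.card T * (μ₁ : P₁ → ℂ) 1)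
    (ψ : IrrCharacter Q) (hψ : classInner (fun x : P₁ => (ψ : Q → ℂ) ⟨x, h1Q x.2⟩) (μ₁ : P₁ → ℂ) = 1)
    (Y₁ Y₂ : IrrCharacter M)
    (hy₁ : classInner (fun x : P₂ => (Y₁ : M → ℂ) ⟨x, h2M x.2⟩) (μ₂ : P₂ → ℂ) = 1)
    (hY : ((Y₁ : M → ℂ) 1 + (Y₂ : M → ℂ) 1) * Nat.card P₂ = Nat.card M * (μ₂ : P₂ → ℂ) 1)
    (hX : ∀ X : IrrCharacter G, classInner (fun x : Q => (X : G → ℂ) x) (ψ : Q → ℂ) ≠ 0 →
      classInner (fun x : P₁ => (X : G → ℂ) x) (μ₁ : P₁ → ℂ) = 1)
    (X₁ X₂ : IrrCharacter G) (hne : X₁ ≠ X₂)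
    (hset : ∀ X : IrrCharacter G, classInner (fun x : Q => (X : G → ℂ) x) (ψ : Q → ℂ) ≠ 0 ↔ X = X₁ ∨ X = X₂)
    (hdeg : ((X₁ : G → ℂ) 1 + (X₂ : G → ℂ) 1) * Nat.card Q = Nat.card G * (ψ : Q → ℂ) 1)
    (X : IrrCharacter G) (hXX : X = X₁ ∨ X = X₂) :
    ∃ Y : IrrCharacter M, (Y = Y₁ ∨ Y = Y₂) ∧
      (X : G → ℂ) 1 * (Nat.card M * (μ₂ : P₂ → ℂ) 1) * Nat.card Q =
        (Y : M → ℂ) 1 * Nat.card P₂ * (Nat.card G * (ψ : Q → ℂ) 1) := by
  classical
  have hP2 : (Nat.card P₂ : ℂ) ≠ 0 := card_ne_zero_complex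
  have hcG : (Nat.card G : ℂ) ≠ 0 := card_ne_zero_complex
  have hcQ : (Nat.card Q : ℂ) ≠ 0 := card_ne_zero_complex
  have hcM : (Nat.card M : ℂ) ≠ 0 := card_ne_zero_complex
  have hm2 : (μ₂ : P₂ → ℂ) 1 ≠ 0 := isIrr_apply_one_ne_zero μ₂.2
  have hps : (ψ : Q → ℂ) 1 ≠ 0 := isIrr_apply_one_ne_zero ψ.2
  have key : ∀ y : IrrCharacter M, classInner (fun x : P₂ => (y : M → ℂ) ⟨x, h2M x.2⟩) (μ₂ : P₂ → ℂ) = 1 →
      ∑ᶠ X ∈ {X : IrrCharacter G | classInner (fun x : Q => (X : G → ℂ) x) (ψ : Q → ℂ) ≠ 0 ∧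
        classInner (fun x : M => (X : G → ℂ) x) (y : M → ℂ) ≠ 0}, (X : G → ℂ) 1 =
      ((y : M → ℂ) 1 * Nat.card P₂ / (Nat.card M * (μ₂ : P₂ → ℂ) 1)) *
        (Nat.card G * (ψ : Q → ℂ) 1 / Nat.card Q) := fun y hy =>
    trace_lemma Q M P₁ P₂ T h1Q h2M h1T h2T hD hcard μ₁ μ₂ ν hν1 hν2 κ hκ hκ1 ψ hψ y hy hX
  have hsum : ∀ y : IrrCharacter M,
      ∑ᶠ X ∈ {X : IrrCharacter G | classInner (fun x : Q => (X : G → ℂ) x) (ψ : Q → ℂ) ≠ 0 ∧
        classInner (fun x : M => (X : G → ℂ) x) (y : M → ℂ) ≠ 0}, (X : G → ℂ) 1 =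
      (if classInner (fun x : M => (X₁ : G → ℂ) x) (y : M → ℂ) ≠ 0 then (X₁ : G → ℂ) 1 else 0) +
      (if classInner (fun x : M => (X₂ : G → ℂ) x) (y : M → ℂ) ≠ 0 then (X₂ : G → ℂ) 1 else 0) := by
    intro y
    have hS : {X : IrrCharacter G | classInner (fun x : Q => (X : G → ℂ) x) (ψ : Q → ℂ) ≠ 0 ∧
        classInner (fun x : M => (X : G → ℂ) x) (y : M → ℂ) ≠ 0} =
        (({X₁, X₂} : Finset (IrrCharacter G)).filter fun X => classInner (fun x : M => (X : G → ℂ) x) (y : M → ℂ) ≠ 0 :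
          Finset (IrrCharacter G)) := by
      ext X
      simp only [Finset.coe_filter, Finset.mem_insert, Finset.mem_singleton]
      exact and_congr_left fun _ => hset X
    rw [hS, finsum_mem_coe_finset, Finset.sum_filter, Finset.sum_pair hne]
  -- the two degrees
  have e1 := (hsum Y₁).symm.trans (key Y₁ hy₁)
  have hY1 : (Y₁ : M → ℂ) 1 ≠ 0 := isIrr_apply_one_ne_zero Y₁.2
  have hY2 : (Y₂ : M → ℂ) 1 ≠ 0 := isIrr_apply_one_ne_zero Y₂.2
  have t1 : (Y₁ : M → ℂ) 1 * Nat.card P₂ / (Nat.card M * (μ₂ : P₂ → ℂ) 1) +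
      (Y₂ : M → ℂ) 1 * Nat.card P₂ / (Nat.card M * (μ₂ : P₂ → ℂ) 1) = 1 := by
    rw [← add_div, ← add_mul, hY, div_self (mul_ne_zero hcM hm2)]
  have hR : (X₁ : G → ℂ) 1 + (X₂ : G → ℂ) 1 = Nat.card G * (ψ : Q → ℂ) 1 / Nat.card Q := by
    rw [← hdeg, mul_div_cancel_right₀ _ hcQ]
  have hRne : (Nat.card G * (ψ : Q → ℂ) 1 / Nat.card Q : ℂ) ≠ 0 := div_ne_zero (mul_ne_zero hcG hps) hcQ
  set R : ℂ := Nat.card G * (ψ : Q → ℂ) 1 / Nat.card Q with hRdef
  set a : ℂ := (Y₁ : M → ℂ) 1 * Nat.card P₂ / (Nat.card M * (μ₂ : P₂ → ℂ) 1) with ha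
  set b : ℂ := (Y₂ : M → ℂ) 1 * Nat.card P₂ / (Nat.card M * (μ₂ : P₂ → ℂ) 1) with hb
  have ha0 : a ≠ 0 := div_ne_zero (mul_ne_zero hY1 hP2) (mul_ne_zero hcM hm2)
  have hb0 : b ≠ 0 := div_ne_zero (mul_ne_zero hY2 hP2) (mul_ne_zero hcM hm2)
  have main : ((X₁ : G → ℂ) 1 = a * R ∧ (X₂ : G → ℂ) 1 = b * R) ∨ ((X₁ : G → ℂ) 1 = b * R ∧ (X₂ : G → ℂ) 1 = a * R) := by
    have hbR : b * R = R - a * R := by
      rw [show b = 1 - a by rw [← t1]; ring]; ring
    split_ifs at e1 with h1 h2 h2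
    · exfalso
      rw [hR] at e1
      have h3 : (1 - a) * R = 0 := by rw [sub_mul, one_mul, ← e1, sub_self]
      rcases mul_eq_zero.1 h3 with h4 | h4
      · exact hb0 (by rw [← h4, ← t1]; ring)
      · exact hRne h4
    · left
      rw [add_zero] at e1
      refine ⟨e1, ?_⟩
      rw [hbR, ← e1, ← hR]
      ring
    · right
      rw [zero_add] at e1
      refine ⟨?_, e1⟩
      rw [hbR, ← e1, ← hR]
      ring
    · exfalso
      rw [add_zero] at e1
      exact mul_ne_zero ha0 hRne e1.symm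
  have fin : ∀ (x : ℂ) (Y : IrrCharacter M),
      x = (Y : M → ℂ) 1 * Nat.card P₂ / (Nat.card M * (μ₂ : P₂ → ℂ) 1) * R →
      x * (Nat.card M * (μ₂ : P₂ → ℂ) 1) * Nat.card Q = (Y : M → ℂ) 1 * Nat.card P₂ * (Nat.card G * (ψ : Q → ℂ) 1) := by
    intro x Y hx
    rw [hx, hRdef]
    field_simp
  rcases hXX with rfl | rfl
  · rcases main with ⟨h1, -⟩ | ⟨h1, -⟩
    · exact ⟨Y₁, Or.inl rfl, fin _ _ h1⟩
    · exact ⟨Y₂, Or.inr rfl, fin _ _ h1⟩
  · rcases main with ⟨-, h1⟩ | ⟨-, h1⟩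
    · exact ⟨Y₂, Or.inr rfl, fin _ _ h1⟩
    · exact ⟨Y₁, Or.inl rfl, fin _ _ h1⟩

theorem cast_charDegree {G : Type u} [Group G] (χ : IrrCharacter G) : ((charDegree (χ : G → ℂ) : ℕ) : ℂ) = (χ : G → ℂ) 1 := by
  obtain ⟨n, -, hn⟩ := isIrr_apply_one χ.2
  unfold charDegree
  rw [hn, Complex.natCast_re, Nat.floor_natCast]

theorem charDegree_ne_zero {G : Type u} [Group G] (χ : IrrCharacter G) : charDegree (χ : G → ℂ) ≠ 0 := by
  intro h
  have h1 := cast_charDegree χ
  rw [h, Nat.cast_zero] at h1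
  exact isIrr_apply_one_ne_zero χ.2 h1.symm

/-- the exponents of `p` -/
theorem pair_vd {G : Type u} [Group G] [Fintype G] (Q M P₁ P₂ T : Subgroup G)
    [Fintype Q] [Fintype M] [Fintype P₁] [Fintype P₂] [Fintype T] [Fintype ↥(P₁ ⊓ P₂)]
    (h1Q : P₁ ≤ Q) (h2M : P₂ ≤ M) (h1T : P₁ ≤ T) (h2T : P₂ ≤ T) (hD : Q ⊓ M ≤ P₁ ⊓ P₂)
    (hcard : Nat.card P₁ = Nat.card P₂)
    (μ₁ : IrrCharacter P₁) (μ₂ : IrrCharacter P₂) (ν : IrrCharacter ↥(P₁ ⊓ P₂))
    (hν1 : ∀ d : ↥(P₁ ⊓ P₂), (μ₁ : P₁ → ℂ) ⟨d, d.2.1⟩ = (ν : ↥(P₁ ⊓ P₂) → ℂ) d)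
    (hν2 : ∀ d : ↥(P₁ ⊓ P₂), (μ₂ : P₂ → ℂ) ⟨d, d.2.2⟩ = (ν : ↥(P₁ ⊓ P₂) → ℂ) d)
    (κ : IrrCharacter T) (hκ : classInner (fun x : P₁ => (κ : T → ℂ) ⟨x, h1T x.2⟩) (μ₁ : P₁ → ℂ) ≠ 0)
    (hκ1 : (κ : T → ℂ) 1 * Nat.card P₁ = Nat.card T * (μ₁ : P₁ → ℂ) 1)
    (ψ : IrrCharacter Q) (hψ : classInner (fun x : P₁ => (ψ : Q → ℂ) ⟨x, h1Q x.2⟩) (μ₁ : P₁ → ℂ) = 1)
    (Y₁ Y₂ : IrrCharacter M)
    (hy₁ : classInner (fun x : P₂ => (Y₁ : M → ℂ) ⟨x, h2M x.2⟩) (μ₂ : P₂ → ℂ) = 1)
    (hY : ((Y₁ : M → ℂ) 1 + (Y₂ : M → ℂ) 1) * Nat.card P₂ = Nat.card M * (μ₂ : P₂ → ℂ) 1)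
    (hX : ∀ X : IrrCharacter G, classInner (fun x : Q => (X : G → ℂ) x) (ψ : Q → ℂ) ≠ 0 →
      classInner (fun x : P₁ => (X : G → ℂ) x) (μ₁ : P₁ → ℂ) = 1)
    (X₁ X₂ : IrrCharacter G) (hne : X₁ ≠ X₂)
    (hset : ∀ X : IrrCharacter G, classInner (fun x : Q => (X : G → ℂ) x) (ψ : Q → ℂ) ≠ 0 ↔ X = X₁ ∨ X = X₂)
    (hdeg : ((X₁ : G → ℂ) 1 + (X₂ : G → ℂ) 1) * Nat.card Q = Nat.card G * (ψ : Q → ℂ) 1)
    {p : ℕ} (hp1 : ¬ p ∣ charDegree (Y₁ : M → ℂ)) (hp2 : ¬ p ∣ charDegree (Y₂ : M → ℂ))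
    {oG oM x : ℕ} (hoG : Nat.card G = Nat.card Q * oG) (hoM : Nat.card M = Nat.card P₂ * oM) (hx : x ≠ 0)
    (hψx : (ψ : Q → ℂ) 1 = (μ₂ : P₂ → ℂ) 1 * x) (X : IrrCharacter G) (hXX : X = X₁ ∨ X = X₂) :
    H316.HT.vd p (X : G → ℂ) + oM.factorization p = x.factorization p + oG.factorization p := by
  obtain ⟨Y, hYY, h1⟩ := pair_degree Q M P₁ P₂ T h1Q h2M h1T h2T hD hcard μ₁ μ₂ ν hν1 hν2 κ hκ hκ1 ψ hψ Y₁ Y₂ hy₁
    hY hX X₁ X₂ hne hset hdeg X hXX
  have hP2 : (Nat.card P₂ : ℂ) ≠ 0 := card_ne_zero_complex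
  have hcQ : (Nat.card Q : ℂ) ≠ 0 := card_ne_zero_complex
  have hm2 : (μ₂ : P₂ → ℂ) 1 ≠ 0 := isIrr_apply_one_ne_zero μ₂.2
  have hpY : ¬ p ∣ charDegree (Y : M → ℂ) := by
    rcases hYY with rfl | rfl
    · exact hp1
    · exact hp2
  have hoG0 : oG ≠ 0 := by
    rintro rfl
    rw [mul_zero] at hoG
    exact Nat.card_pos.ne' hoG
  have hoM0 : oM ≠ 0 := by
    rintro rfl
    rw [mul_zero] at hoM
    exact Nat.card_pos.ne' hoM
  rw [hψx, hoG, hoM, ← cast_charDegree X, ← cast_charDegree Y] at h1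
  push_cast at h1
  have h2 : ((charDegree (X : G → ℂ) * oM : ℕ) : ℂ) = ((charDegree (Y : M → ℂ) * (x * oG) : ℕ) : ℂ) := by
    push_cast
    have h3 : (Nat.card P₂ : ℂ) * (Nat.card Q : ℂ) * (μ₂ : P₂ → ℂ) 1 ≠ 0 := mul_ne_zero (mul_ne_zero hP2 hcQ) hm2
    refine mul_left_cancel₀ h3 ?_
    linear_combination h1
  have h3 : charDegree (X : G → ℂ) * oM = charDegree (Y : M → ℂ) * (x * oG) := by exact_mod_cast h2
  have h4 := congrArg (fun n : ℕ => n.factorization p) h3
  rw [Nat.factorization_mul (charDegree_ne_zero X) hoM0,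
    Nat.factorization_mul (charDegree_ne_zero Y) (mul_ne_zero hx hoG0), Nat.factorization_mul hx hoG0,
    Finsupp.add_apply, Finsupp.add_apply, Finsupp.add_apply, Nat.factorization_eq_zero_of_not_dvd hpY, zero_add] at h4
  exact h4

end Cfsg.Agent.H992.HT
end

-- part: H618/HT/Kappa
section
/-!
# The characters `κ` of the stabiliser of a totally singular subspace (S4933, box hc.K, helper618)

`isIrr_sub` : `ρ : G →* GL(V)`, `Lam` invariant, `G → GL(Lam)` surjective, `c` a cuspidal irreducible character of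
`GL_k(K)`, `k ≥ 2`: the sum of `c (g | W)` over the `g`-invariant `k`-dimensional subspaces `W ≤ Lam` is irreducible.
`CForm.exists_kappa` : the case `G = stabW F.iso.subtype Lam`.
`CForm.isIrr_mu` : `flagTerm c . W₀` is irreducible on `stabW W₀ ⊓ stabW Lam`.
-/

set_option autoImplicit false

open scoped ComplexConjugate
open Cfsg

namespace Cfsg.Agent.H618.HT

open Cfsg.Agent.OddOrderCharacters.Clifford Cfsg.Agent.Characters MulAction Module Cfsg.Agent.H53.HC
  Cfsg.Agent.H477.HC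

universe u v w

section Lin

variable {K : Type u} [Field K] {V : Type v} [AddCommGroup V] [Module K V]

/-- a functional with given values on `W₀`, trivial on `W'` -/
theorem exists_fun {W₀ W' : Submodule K V} (f : W₀ →ₗ[K] K) (hf : ∀ w : W₀, (w : V) ∈ W' → f w = 0) :
    ∃ f' : V →ₗ[K] K, (∀ w : W₀, f' w = f w) ∧ ∀ w' ∈ W', f' w' = 0 := by
  let φ : W₀ →ₗ[K] (V ⧸ W') := (W'.mkQ).comp W₀.subtype
  have h1 : (f : Dual K W₀) ∈ (LinearMap.ker φ).dualAnnihilator := by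
    rw [Submodule.mem_dualAnnihilator]
    intro w hw
    exact hf w (by simpa [φ] using hw)
  rw [← LinearMap.range_dualMap_eq_dualAnnihilator_ker] at h1
  obtain ⟨h, hh⟩ := h1
  refine ⟨h.comp W'.mkQ, fun w => ?_, fun w' hw' => ?_⟩
  · exact LinearMap.congr_fun hh w
  · rw [LinearMap.comp_apply, Submodule.mkQ_apply, (Submodule.Quotient.mk_eq_zero W').2 hw', map_zero]

/-- an automorphism of a subspace extends -/
theorem exists_extE (W : Submodule K V) (a : W ≃ₗ[K] W) : ∃ a' : V ≃ₗ[K] V, ∀ w : W, a' w = a w := by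
  obtain ⟨C, hC⟩ := W.exists_isCompl
  refine ⟨((Submodule.prodEquivOfIsCompl W C hC).symm.trans (a.prodCongr (LinearEquiv.refl K C))).trans
    (Submodule.prodEquivOfIsCompl W C hC), fun w => ?_⟩
  change (Submodule.prodEquivOfIsCompl W C hC) ((a.prodCongr (LinearEquiv.refl K C))
    ((Submodule.prodEquivOfIsCompl W C hC).symm w)) = _
  have : (Submodule.prodEquivOfIsCompl W C hC).symm (w : V) = (w, 0) := by
    rw [LinearEquiv.symm_apply_eq]
    simp
  rw [this]
  simp only [_root_.LinearEquiv.prodCongr_apply, _root_.LinearEquiv.refl_apply, _root_.Submodule.coe_prodEquivOfIsCompl', _root_.ZeroMemClass.coe_zero, _root_.add_zero]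

/-- transport of the inner product -/
theorem inner_equiv {A B : Type*} [Group A] [Group B] [Fintype A] [Fintype B] (e : A ≃* B) (φ ψ : B → ℂ) :
    classInner (fun a => φ (e a)) (fun a => ψ (e a)) = classInner φ ψ := by
  rw [Core.classInner_def, Core.classInner_def, Nat.card_congr e.toEquiv]
  congr 1
  exact Fintype.sum_equiv e.toEquiv _ _ fun _ => rfl

end Lin

section Irr

variable {K : Type u} [Field K] {V : Type v} [AddCommGroup V] [Module K V] {G : Type w} [Group G]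
  (ρ : G →* (V ≃ₗ[K] V))

theorem van [FiniteDimensional K V] [Finite V] {k : ℕ} {c : GL (Fin k) K → ℂ} (hcf : IsClassFunction _ c)
    (hcusp : _root_.Cfsg.Agent.H53.HC.IsCusp c) {W₀ W' : Submodule K V} (hW₀ : finrank K W₀ = k)
    (hW' : finrank K W' = k) (D : Submodule K V) (hD : D ≤ W₀) (hD0 : D ≠ ⊥) (hD1 : D ≠ W₀)
    (hgen : ∀ c ∈ D, ∀ f : W₀ →ₗ[K] K, (∀ w : W₀, (w : V) ∈ D → f w = 0) →
      ∃ g : G, (∀ w' ∈ W', ρ g w' = w') ∧ ∀ w : W₀, ρ g w = w + f w • c) :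
    ∃ L : Subgroup G, L ≤ stabW ρ W₀ ∧ L ≤ stabW ρ W' ∧
      ∀ [Fintype L], ∑ l : L, flagTerm ρ c l W₀ * conj (flagTerm ρ c l W') = 0 := by
  classical
  have b₀ : Basis (Fin k) K W₀ := finBasisOfFinrankEq K W₀ hW₀
  have b₁ : Basis (Fin k) K W' := finBasisOfFinrankEq K W' hW'
  let D₀ : Submodule K W₀ := D.comap W₀.subtype
  have hD₀0 : D₀ ≠ ⊥ := by
    intro h
    apply hD0
    rw [Submodule.eq_bot_iff] at h ⊢
    intro x hx
    have := h ⟨x, hD hx⟩ hx
    exact congrArg Subtype.val this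
  have hD₀1 : D₀ ≠ ⊤ := by
    intro h
    apply hD1
    apply le_antisymm hD
    intro x hx
    have : (⟨x, hx⟩ : W₀) ∈ D₀ := by rw [h]; trivial
    exact this
  let L : Subgroup G :=
    { carrier := {g | (∀ w' ∈ W', ρ g w' = w') ∧ (∀ w ∈ W₀, ρ g w - w ∈ D) ∧ ∀ d ∈ D, ρ g d = d}
      one_mem' := ⟨fun _ _ => by rw [map_one]; rfl, fun w _ => by
        rw [map_one]
        change w - w ∈ D
        rw [sub_self]; exact D.zero_mem, fun _ _ => by rw [map_one]; rfl⟩
      mul_mem' := by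
        rintro x y ⟨hx1, hx2, hx3⟩ ⟨hy1, hy2, hy3⟩
        refine ⟨fun w' hw' => ?_, fun w hw => ?_, fun d hd => ?_⟩
        · rw [map_mul, LinearEquiv.mul_apply, hy1 w' hw', hx1 w' hw']
        · have h1 : ρ y w ∈ W₀ := by
            have := W₀.add_mem (hD (hy2 w hw)) hw
            rwa [sub_add_cancel] at this
          have : ρ (x * y) w - w = (ρ x (ρ y w) - ρ y w) + (ρ y w - w) := by
            rw [map_mul, LinearEquiv.mul_apply]; abel
          rw [this]
          exact D.add_mem (hx2 _ h1) (hy2 w hw)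
        · rw [map_mul, LinearEquiv.mul_apply, hy3 d hd, hx3 d hd]
      inv_mem' := by
        rintro x ⟨hx1, hx2, hx3⟩
        have hxx : ∀ v, ρ x⁻¹ (ρ x v) = v := fun v => by
          rw [← LinearEquiv.mul_apply, ← map_mul, inv_mul_cancel, map_one]; rfl
        have key : ∀ v, ρ x v = v → ρ x⁻¹ v = v := by
          intro v hv
          have h1 := hxx v
          rwa [hv] at h1
        refine ⟨fun w' hw' => key _ (hx1 w' hw'), fun w hw => ?_, fun d hd => key _ (hx3 d hd)⟩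
        have h1 := hx2 w hw
        have h2 := key _ (hx3 _ h1)
        rw [map_sub, hxx] at h2
        have h4 : ρ x⁻¹ w - w = -(ρ x w - w) := by rw [← h2]; abel
        rw [h4]
        exact D.neg_mem h1 }
  have hL0 : ∀ l ∈ L, W₀.map (ρ l : V →ₗ[K] V) = W₀ := fun l hl => map_eq_of_le ρ fun w hw => by
    have := W₀.add_mem (hD (hl.2.1 w hw)) hw
    rwa [sub_add_cancel] at this
  have hL1 : ∀ l ∈ L, W'.map (ρ l : V →ₗ[K] V) = W' := fun l hl => map_eq_of_le ρ fun w hw => by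
    have := hl.1 w hw
    rw [this]; exact hw
  refine ⟨L, fun l hl => hL0 l hl, fun l hl => hL1 l hl, fun {_} => ?_⟩
  have hfinW : Finite (W₀ ≃ₗ[K] W₀) :=
    Finite.of_injective (fun e : W₀ ≃ₗ[K] W₀ => (e : W₀ → W₀)) DFunLike.coe_injective
  let _ : Fintype (radU D₀) := Fintype.ofFinite _
  let f : L →* radU D₀ :=
    { toFun := fun l => ⟨res (ρ l) W₀ (hL0 l l.2), fun w => l.2.2.1 w w.2, fun d hd => by
          apply Subtype.ext
          exact l.2.2.2 d hd⟩
      map_one' := by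
        apply Subtype.ext
        ext w
        change ρ ((1 : L) : G) w = w
        rw [OneMemClass.coe_one, map_one]
        rfl
      map_mul' := fun x y => by
        apply Subtype.ext
        ext w
        change ρ ((x * y : L) : G) w = ρ x (ρ y w)
        rw [MulMemClass.coe_mul, map_mul]
        rfl }
  have hf : Function.Surjective f := by
    have h1 := mem_of_transv D₀ (f.range.map (radU D₀).subtype) (by
      intro c hc f' hf'
      obtain ⟨g, hg1, hg2⟩ := hgen c hc f' (fun w hw => hf' w hw)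
      have hgL : g ∈ L := by
        refine ⟨hg1, fun w hw => ?_, fun d hd => ?_⟩
        · rw [hg2 ⟨w, hw⟩, add_sub_cancel_left]
          exact D.smul_mem _ hc
        · rw [hg2 ⟨d, hD hd⟩, hf' _ hd, zero_smul, add_zero]
      refine ⟨_, ⟨f ⟨g, hgL⟩, ⟨⟨g, hgL⟩, rfl⟩, rfl⟩, fun w => ?_⟩
      apply Subtype.ext
      exact hg2 w)
    rintro ⟨u, hu⟩
    obtain ⟨_, ⟨l, rfl⟩, h2⟩ := h1 hu
    exact ⟨l, Subtype.ext h2⟩
  have e1 : ∀ l : L, flagTerm ρ c l W₀ * conj (flagTerm ρ c l W') =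
      (fun u : radU D₀ => cl c (u : W₀ ≃ₗ[K] W₀) * conj (c 1)) (f l) := by
    intro l
    rw [flagTerm_of ρ c (hL0 l l.2), flagTerm_of ρ c (hL1 l l.2)]
    have e2 : res (ρ (l : G)) W' (hL1 l l.2) = 1 := by
      ext w
      exact l.2.1 w w.2
    rw [e2, cl_one hcf b₁]
    rfl
  rw [Finset.sum_congr rfl fun l _ => e1 l,
    sum_comp_hom f hf (fun u : radU D₀ => cl c (u : W₀ ≃ₗ[K] W₀) * conj (c 1)), ← Finset.sum_mul,
    hcusp.sum_eq hcf b₀ D₀ hD₀0 hD₀1, zero_mul, mul_zero]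

/-- the `k`-dimensional subspaces of `Lam` -/
def Subs (Lam : Submodule K V) (k : ℕ) : Set (Submodule K V) := {W | W ≤ Lam ∧ finrank K W = k}

variable {ρ}

theorem Subs_map {Lam : Submodule K V} (hLam : ∀ g : G, Lam.map (ρ g : V →ₗ[K] V) = Lam) {k : ℕ} (g : G)
    (W : Submodule K V) (hW : W ∈ Subs Lam k) : W.map (ρ g : V →ₗ[K] V) ∈ Subs Lam k :=
  ⟨by rw [← hLam g]; exact Submodule.map_mono hW.1, by rw [← hW.2]; exact LinearEquiv.finrank_map_eq (ρ g) W⟩

/-- transitivity -/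
theorem trans_Subs [FiniteDimensional K V] {Lam : Submodule K V}
    (hsurj : ∀ a : Lam ≃ₗ[K] Lam, ∃ g : G, ∀ w : Lam, ρ g w = a w) {k : ℕ} {W W' : Submodule K V}
    (hW : W ∈ Subs Lam k) (hW' : W' ∈ Subs Lam k) : ∃ g : G, W.map (ρ g : V →ₗ[K] V) = W' := by
  have e1 : finrank K (W.comap Lam.subtype) = finrank K (W'.comap Lam.subtype) := by
    rw [LinearEquiv.finrank_eq (Submodule.comapSubtypeEquivOfLe hW.1),
      LinearEquiv.finrank_eq (Submodule.comapSubtypeEquivOfLe hW'.1), hW.2, hW'.2]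
  obtain ⟨a, ha⟩ := CForm.exists_map_eq _ _ e1
  obtain ⟨g, hg⟩ := hsurj a
  refine ⟨g, ?_⟩
  apply Submodule.eq_of_le_of_finrank_eq
  · rintro _ ⟨w, hw, rfl⟩
    change ρ g w ∈ W'
    rw [hg ⟨w, hW.1 hw⟩]
    have : a ⟨w, hW.1 hw⟩ ∈ (W.comap Lam.subtype).map (a : Lam →ₗ[K] _) := ⟨_, hw, rfl⟩
    rw [ha] at this
    exact this
  · rw [hW'.2, ← hW.2]
    exact LinearEquiv.finrank_map_eq (ρ g) W

/-- the vanishing at the pairs of distinct subspaces -/
theorem van_Subs [FiniteDimensional K V] [Finite V] {Lam : Submodule K V}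
    (hsurj : ∀ a : Lam ≃ₗ[K] Lam, ∃ g : G, ∀ w : Lam, ρ g w = a w) {k : ℕ} (hk : 2 ≤ k)
    {c : GL (Fin k) K → ℂ} (hcf : IsClassFunction _ c) (hcusp : _root_.Cfsg.Agent.H53.HC.IsCusp c) {W₀ W' : Submodule K V}
    (hW₀ : W₀ ∈ Subs Lam k) (hW' : W' ∈ Subs Lam k) (hne : W' ≠ W₀) :
    ∃ L : Subgroup G, L ≤ stabW ρ W₀ ∧ L ≤ stabW ρ W' ∧
      ∀ [Fintype L], ∑ l : L, flagTerm ρ c l W₀ * conj (flagTerm ρ c l W') = 0 := by
  classical
  -- the transvections
  have key : ∀ D : Submodule K V, D ≤ W₀ → W₀ ⊓ W' ≤ D → ∀ d ∈ D, ∀ f : W₀ →ₗ[K] K,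
      (∀ w : W₀, (w : V) ∈ D → f w = 0) →
      ∃ g : G, (∀ w' ∈ W', ρ g w' = w') ∧ ∀ w : W₀, ρ g w = w + f w • d := by
    intro D hD hD' d hd f hf
    obtain ⟨f', hf1, hf2⟩ := exists_fun (W₀ := W₀) (W' := W') f (fun w hw => hf w (hD' ⟨w.2, hw⟩))
    have hdL : d ∈ Lam := hW₀.1 (hD hd)
    have hfd : f' d = 0 := by
      have := hf1 ⟨d, hD hd⟩
      rw [hf ⟨d, hD hd⟩ hd] at this
      exact this
    let a : Lam →ₗ[K] Lam := (f'.comp Lam.subtype).smulRight (⟨d, hdL⟩ : Lam)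
    have ha : ∀ w : Lam, a w = f' w • (⟨d, hdL⟩ : Lam) := fun w => rfl
    have h1 : ∀ w, a w ∈ Submodule.span K {(⟨d, hdL⟩ : Lam)} := fun w => by
      rw [ha]
      exact Submodule.smul_mem _ _ (Submodule.mem_span_singleton_self _)
    have h2 : ∀ x ∈ Submodule.span K {(⟨d, hdL⟩ : Lam)}, a x = 0 := by
      intro x hx
      obtain ⟨t, rfl⟩ := Submodule.mem_span_singleton.1 hx
      rw [ha]
      change f' (t • d) • _ = _
      rw [map_smul, hfd, smul_zero, zero_smul]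
    obtain ⟨g, hg⟩ := hsurj (oneAdd _ a h1 h2)
    have hg' : ∀ w : Lam, ρ g w = w + f' w • d := fun w => by
      rw [hg w, oneAdd_apply, ha]
      rfl
    refine ⟨g, fun w' hw' => ?_, fun w => ?_⟩
    · rw [hg' ⟨w', hW'.1 hw'⟩]
      change w' + f' w' • d = w'
      rw [hf2 w' hw', zero_smul, add_zero]
    · rw [hg' ⟨w, hW₀.1 w.2⟩]
      change (w : V) + f' w • d = _
      rw [hf1]
  by_cases h0 : W₀ ⊓ W' = ⊥
  · obtain ⟨x, hx, hx0⟩ : ∃ x ∈ W₀, x ≠ 0 := by
      by_contra h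
      push Not at h
      have : W₀ = ⊥ := (Submodule.eq_bot_iff _).2 h
      have h2 := hW₀.2
      rw [this, finrank_bot] at h2
      omega
    have hD : (K ∙ x) ≤ W₀ := (Submodule.span_singleton_le_iff_mem _ _).2 hx
    refine van ρ hcf hcusp hW₀.2 hW'.2 (K ∙ x) hD
      (fun h => hx0 (Submodule.span_singleton_eq_bot.1 h)) (fun h => ?_)
      (key _ hD (by rw [h0]; exact bot_le))
    have h2 := hW₀.2
    rw [← h, finrank_span_singleton hx0] at h2
    omega
  · refine van ρ hcf hcusp hW₀.2 hW'.2 (W₀ ⊓ W') inf_le_left h0 (fun h => hne ?_) (key _ inf_le_left le_rfl)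
    symm
    apply Submodule.eq_of_le_of_finrank_eq
    · rw [← h]; exact inf_le_right
    · rw [hW₀.2, hW'.2]

/-- the local term is irreducible on the stabiliser -/
theorem isIrr_stabW [FiniteDimensional K V] [Finite V] [Finite G] {Lam : Submodule K V}
    (hsurj : ∀ a : Lam ≃ₗ[K] Lam, ∃ g : G, ∀ w : Lam, ρ g w = a w) {k : ℕ}
    {c : GL (Fin k) K → ℂ} (hc : IsIrrCharacter _ c) {W₀ : Submodule K V} (hW₀ : W₀ ∈ Subs Lam k) :
    IsIrrCharacter (stabW ρ W₀) (fun g => flagTerm ρ c g W₀) := by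
  classical
  have hcf := Core.isIrr_isClassFunction hc
  have b₀ : Basis (Fin k) K W₀ := finBasisOfFinrankEq K W₀ hW₀.2
  let f : stabW ρ W₀ →* GL (Fin k) K := (glE b₀).toMonoidHom.comp (resHom ρ W₀)
  have hf : Function.Surjective f := by
    intro A
    obtain ⟨a, rfl⟩ := (glE b₀).surjective A
    obtain ⟨a', ha'⟩ := exists_extE (W₀.comap Lam.subtype)
      (((Submodule.comapSubtypeEquivOfLe hW₀.1).trans a).trans (Submodule.comapSubtypeEquivOfLe hW₀.1).symm)
    obtain ⟨g, hg⟩ := hsurj a'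
    have hg0 : ∀ w : W₀, ρ g w = a w := by
      intro w
      rw [hg ⟨w, hW₀.1 w.2⟩]
      have h1 := ha' ⟨⟨w, hW₀.1 w.2⟩, w.2⟩
      exact congrArg (fun x : Lam => (x : V)) h1
    have hg1 : W₀.map (ρ g : V →ₗ[K] V) = W₀ := map_eq_of_le ρ fun w hw => by
      rw [hg0 ⟨w, hw⟩]; exact (a ⟨w, hw⟩).2
    refine ⟨⟨g, hg1⟩, ?_⟩
    change glE b₀ (res (ρ g) W₀ hg1) = glE b₀ a
    congr 1
    ext w
    exact hg0 w
  have e1 : (fun g : stabW ρ W₀ => flagTerm ρ c g W₀) = c ∘ f := by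
    ext g
    rw [flagTerm_of ρ c g.2, cl_eq hcf b₀]
    rfl
  rw [e1]
  exact Core.isIrr_comp f hf hc

/-- **irreducibility of the sum over the `k`-subspaces of `Lam`** -/
theorem isIrr_sub [Fintype G] [FiniteDimensional K V] [Finite V] {Lam : Submodule K V}
    (hLam : ∀ g : G, Lam.map (ρ g : V →ₗ[K] V) = Lam)
    (hsurj : ∀ a : Lam ≃ₗ[K] Lam, ∃ g : G, ∀ w : Lam, ρ g w = a w) {k : ℕ} (hk : 2 ≤ k)
    {c : GL (Fin k) K → ℂ} (hc : IsIrrCharacter _ c) (hcusp : _root_.Cfsg.Agent.H53.HC.IsCusp c) {W₀ : Submodule K V}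
    (hW₀ : W₀ ∈ Subs Lam k) [Fintype (Subs Lam k)] :
    IsIrrCharacter G (flagChar ρ (Subs Lam k) c) ∧
      flagChar ρ (Subs Lam k) c 1 * Nat.card (stabW ρ W₀) = Nat.card G * c 1 ∧
      ∀ [Fintype (stabW ρ W₀)], classInner (fun x : stabW ρ W₀ => flagChar ρ (Subs Lam k) c (x : G))
        (fun x : stabW ρ W₀ => flagTerm ρ c (x : G) W₀) = 1 := by
  classical
  have hcf := Core.isIrr_isClassFunction hc
  have hΩ : ∀ g : G, ∀ W ∈ Subs Lam k, W.map (ρ g : V →ₗ[K] V) ∈ Subs Lam k := Subs_map hLam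
  let _ := subAct ρ (Subs Lam k) hΩ
  have hpre : IsPretransitive G (Subs Lam k) := by
    refine ⟨fun W W' => ?_⟩
    obtain ⟨g, hg⟩ := trans_Subs hsurj W.2 W'.2
    exact ⟨g, Subtype.ext hg⟩
  have hst : ∀ g : G, g ∈ stabilizer G (⟨W₀, hW₀⟩ : Subs Lam k) ↔ g ∈ stabW ρ W₀ := fun g =>
    ⟨fun h => congrArg Subtype.val (mem_stabilizer_iff.1 h), fun h => mem_stabilizer_iff.2 (Subtype.ext h)⟩
  have hst' : stabilizer G (⟨W₀, hW₀⟩ : Subs Lam k) = stabW ρ W₀ := Subgroup.ext hst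
  have hconj : ∀ (x g : G) (W : Subs Lam k), flagTerm ρ c (x * g * x⁻¹) (x • W).1 = flagTerm ρ c g W.1 :=
    fun x g W => flagTerm_conj ρ hcf x g W.1
  have hμ := isIrr_stabW (ρ := ρ) hsurj hc hW₀
  have hμ' : IsIrrCharacter (stabilizer G (⟨W₀, hW₀⟩ : Subs Lam k))
      (stabFun (fun g (W : Subs Lam k) => flagTerm ρ c g W.1) ⟨W₀, hW₀⟩) := by
    let f : stabilizer G (⟨W₀, hW₀⟩ : Subs Lam k) →* stabW ρ W₀ :=
      { toFun := fun g => ⟨g, (hst _).1 g.2⟩
        map_one' := rfl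
        map_mul' := fun _ _ => rfl }
    have hf : Function.Surjective f := fun g => ⟨⟨g, (hst _).2 g.2⟩, rfl⟩
    exact Core.isIrr_comp f hf hμ
  have hirr : IsIrrCharacter G (flagChar ρ (Subs Lam k) c) := by
    rw [flagChar_eq_orbSum ρ (Subs Lam k) hΩ]
    refine isIrr_orbSum (fun g (W : Subs Lam k) => flagTerm ρ c g W.1) hconj ⟨W₀, hW₀⟩ hμ' ?_
    rintro ⟨W', hW'⟩ hne
    have hne' : W' ≠ W₀ := fun e => hne (Subtype.ext e)
    obtain ⟨L, hL1, hL2, hL3⟩ := van_Subs (ρ := ρ) hsurj hk hcf hcusp hW₀ hW' hne'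
    exact ⟨L, fun l hl => (hst l).2 (hL1 hl), fun l hl => mem_stabilizer_iff.2 (Subtype.ext (hL2 hl)),
      fun {_} => hL3⟩
  have hcard : Nat.card (Subs Lam k) * Nat.card (stabW ρ W₀) = Nat.card G := by
    have h1 : (stabW ρ W₀).index = Nat.card (Subs Lam k) := by
      rw [← hst', MulAction.index_stabilizer_of_transitive]
    rw [← h1, mul_comm, Subgroup.card_mul_index]
  refine ⟨hirr, ?_, ?_⟩
  · rw [flagChar_one ρ (Subs Lam k) hcf (fun W hW => hW.2), ← hcard, Nat.cast_mul]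
    ring
  · intro _
    let _ : Fintype (stabilizer G (⟨W₀, hW₀⟩ : Subs Lam k)) := Fintype.ofFinite _
    have e1 : indFun (stabilizer G (⟨W₀, hW₀⟩ : Subs Lam k))
        (stabFun (fun g (W : Subs Lam k) => flagTerm ρ c g W.1) ⟨W₀, hW₀⟩) = flagChar ρ (Subs Lam k) c :=
      (orbSum_eq_indFun (fun g (W : Subs Lam k) => flagTerm ρ c g W.1) hconj ⟨W₀, hW₀⟩).symm.trans
        (flagChar_eq_orbSum ρ (Subs Lam k) hΩ c).symm
    have e2 := classInner_indFun (stabilizer G (⟨W₀, hW₀⟩ : Subs Lam k))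
      (stabFun (fun g (W : Subs Lam k) => flagTerm ρ c g W.1) ⟨W₀, hW₀⟩) (flagChar ρ (Subs Lam k) c)
      (Core.isIrr_isClassFunction hirr)
    rw [e1, Core.classInner_irr_self hirr] at e2
    let e : stabW ρ W₀ ≃* stabilizer G (⟨W₀, hW₀⟩ : Subs Lam k) :=
      { toFun := fun g => ⟨g, (hst _).2 g.2⟩
        invFun := fun g => ⟨g, (hst _).1 g.2⟩
        left_inv := fun _ => rfl
        right_inv := fun _ => rfl
        map_mul' := fun _ _ => rfl }
    have e3 := inner_equiv e (stabFun (fun g (W : Subs Lam k) => flagTerm ρ c g W.1) ⟨W₀, hW₀⟩)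
      (fun h : stabilizer G (⟨W₀, hW₀⟩ : Subs Lam k) => flagChar ρ (Subs Lam k) c (h : G))
    rw [← e2] at e3
    have e4 := congrArg (starRingEnd ℂ) e3
    rw [Core.classInner_conj_symm, map_one] at e4
    exact e4

end Irr

section Form

variable {K : Type u} [Field K] {V : Type v} [AddCommGroup V] [Module K V] (F : CForm K V)

/-- the action of the stabiliser of `Lam` -/
def rhoT (Lam : Submodule K V) : stabW F.iso.subtype Lam →* (V ≃ₗ[K] V) :=
  F.iso.subtype.comp (stabW F.iso.subtype Lam).subtype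

/-- `P₁ ≃ stab_T (W₀)` -/
def eP (W₀ Lam : Submodule K V) : (stabW F.iso.subtype W₀ ⊓ stabW F.iso.subtype Lam : Subgroup F.iso) ≃*
    stabW (rhoT F Lam) W₀ where
  toFun x := ⟨⟨x, x.2.2⟩, x.2.1⟩
  invFun x := ⟨(x : stabW F.iso.subtype Lam), x.2, (x : stabW F.iso.subtype Lam).2⟩
  left_inv _ := rfl
  right_inv _ := rfl
  map_mul' _ _ := rfl

variable {F}

theorem surj_T [FiniteDimensional K V] {Lam : Submodule K V} (hL : F.TS Lam) (a : Lam ≃ₗ[K] Lam) :
    ∃ g : stabW F.iso.subtype Lam, ∀ w : Lam, rhoT F Lam g w = a w := by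
  obtain ⟨g, hg⟩ := F.exists_levi' hL a
  refine ⟨⟨g, map_eq_of_le F.iso.subtype fun w hw => ?_⟩, hg⟩
  change (g : V ≃ₗ[K] V) w ∈ Lam
  rw [hg ⟨w, hw⟩]
  exact (a ⟨w, hw⟩).2

/-- **(K1)** `κ`, with its values (fields K, V finite) -/
theorem exists_kappa' [Finite K] [FiniteDimensional K V] [Finite V] {k : ℕ} (hk : 2 ≤ k)
    {c : GL (Fin k) K → ℂ} (hc : IsIrrCharacter _ c) (hcusp : _root_.Cfsg.Agent.H53.HC.IsCusp c) {Lam W₀ : Submodule K V}
    (hL : F.TS Lam) (hW : W₀ ≤ Lam) (hWk : finrank K W₀ = k) :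
    ∃ κ : IrrCharacter (stabW F.iso.subtype Lam),
      (κ : stabW F.iso.subtype Lam → ℂ) 1 *
          Nat.card (stabW F.iso.subtype W₀ ⊓ stabW F.iso.subtype Lam : Subgroup F.iso) =
        Nat.card (stabW F.iso.subtype Lam) * c 1 ∧
      (∀ [Fintype (stabW F.iso.subtype W₀ ⊓ stabW F.iso.subtype Lam : Subgroup F.iso)],
        classInner (fun x : (stabW F.iso.subtype W₀ ⊓ stabW F.iso.subtype Lam : Subgroup F.iso) =>
            (κ : stabW F.iso.subtype Lam → ℂ) ⟨x, x.2.2⟩)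
          (fun x : (stabW F.iso.subtype W₀ ⊓ stabW F.iso.subtype Lam : Subgroup F.iso) =>
            flagTerm F.iso.subtype c (x : F.iso) W₀) = 1) ∧
      ∀ [Fintype (Subs Lam k)] (t : stabW F.iso.subtype Lam),
        (κ : stabW F.iso.subtype Lam → ℂ) t = ∑ W : Subs Lam k, flagTerm F.iso.subtype c (t : F.iso) W.1 := by
  classical
  have hfinG : Finite (V ≃ₗ[K] V) :=
    Finite.of_injective (fun e : V ≃ₗ[K] V => (e : V → V)) DFunLike.coe_injective
  have hG : Finite F.iso := inferInstance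
  let _ : Fintype (stabW F.iso.subtype Lam) := Fintype.ofFinite _
  let i0 : Fintype (Subs Lam k) := Fintype.ofFinite _
  obtain ⟨h1, h2, h3⟩ := isIrr_sub (ρ := rhoT F Lam) (Lam := Lam) (fun g => g.2) (surj_T hL) hk hc hcusp
    (W₀ := W₀) ⟨hW, hWk⟩
  refine ⟨⟨_, h1⟩, ?_, fun {_} => ?_, fun {i1} t => ?_⟩
  · rw [Nat.card_congr (eP F W₀ Lam).toEquiv]
    exact h2
  · let _ : Fintype (stabW (rhoT F Lam) W₀) := Fintype.ofFinite _
    have h4 := inner_equiv (eP F W₀ Lam)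
      (fun x : stabW (rhoT F Lam) W₀ => flagChar (rhoT F Lam) (Subs Lam k) c (x : stabW F.iso.subtype Lam))
      (fun x : stabW (rhoT F Lam) W₀ => flagTerm (rhoT F Lam) c (x : stabW F.iso.subtype Lam) W₀)
    simp only [h3] at h4
    exact h4
  · have : i1 = i0 := Subsingleton.elim _ _
    subst this
    rfl

/-- **(K1)** the statement of the box -/
theorem exists_kappa [Finite K] [FiniteDimensional K V] [Finite V] {k : ℕ} (hk : 2 ≤ k)
    {c : GL (Fin k) K → ℂ} (hc : IsIrrCharacter _ c) (hcusp : _root_.Cfsg.Agent.H53.HC.IsCusp c) {Lam W₀ : Submodule K V}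
    (hL : F.TS Lam) (hW : W₀ ≤ Lam) (hWk : finrank K W₀ = k) :
    ∃ κ : IrrCharacter (stabW F.iso.subtype Lam),
      (κ : stabW F.iso.subtype Lam → ℂ) 1 *
          Nat.card (stabW F.iso.subtype W₀ ⊓ stabW F.iso.subtype Lam : Subgroup F.iso) =
        Nat.card (stabW F.iso.subtype Lam) * c 1 ∧
      ∀ [Fintype (stabW F.iso.subtype W₀ ⊓ stabW F.iso.subtype Lam : Subgroup F.iso)],
        classInner (fun x : (stabW F.iso.subtype W₀ ⊓ stabW F.iso.subtype Lam : Subgroup F.iso) =>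
            (κ : stabW F.iso.subtype Lam → ℂ) ⟨x, x.2.2⟩)
          (fun x : (stabW F.iso.subtype W₀ ⊓ stabW F.iso.subtype Lam : Subgroup F.iso) =>
            flagTerm F.iso.subtype c (x : F.iso) W₀) ≠ 0 := by
  obtain ⟨κ, h1, h2, -⟩ := exists_kappa' hk hc hcusp hL hW hWk
  exact ⟨κ, h1, fun {_} => by rw [h2]; exact one_ne_zero⟩

end Form

end Cfsg.Agent.H618.HT
end

-- part: H18/HT/Inst
section
/-!
# S4933, unitary primes: the trace lemma for the double frame (helper18, box M3)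

`hc_pair_vd` : `R = R_L^G(c ⊗ χ) = X₁ + X₂`, `R₀ = R_{GL_b}^{G_b}(c) = Y₁ + Y₂`, `p ∤ Y₁(1), Y₂(1)`:
`v_p(X_i(1)) + v_p |Om_b(F₂)| = v_p(χ(1)) + v_p |Om_b(F)|`.
-/

set_option autoImplicit false
set_option linter.style.haveILetI false

open scoped ComplexConjugate
open Cfsg

namespace Cfsg.Agent.H18.HT

open Module MulAction Cfsg.Agent.H53.HC Cfsg.Agent.H477.HC Cfsg.Agent.H749.Two Cfsg.Agent.Characters
  Cfsg.Agent.H279.Dl

universe u v w w'

/-- **Frobenius reciprocity** for the permutation character -/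
theorem inner_stab {H : Type*} [Group H] [Fintype H] {Y : Type*} [MulAction H Y] [Finite Y]
    (htr : ∀ y y' : Y, ∃ g : H, g • y = y') (y₀ : Y) {χ : H → ℂ} (hχ : IsClassFunction H χ) (S : Subgroup H)
    (hS : ∀ g : H, g ∈ S ↔ g • y₀ = y₀) [Fintype S]
    (h1 : classInner (fun g => (Nat.card {y : Y // g • y = y} : ℂ)) χ = 1) :
    classInner (fun s : S => χ s) (fun _ => 1) = 1 := by
  classical
  have hSe : S = stabilizer H y₀ := by
    ext g
    rw [hS, mem_stabilizer_iff]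
  subst hSe
  have hf : IsClassFunction H fun g => conj (χ g) := fun g x => congrArg conj (hχ g x)
  have e1 := H501.HT.sum_fix htr y₀ hf
  have hcard : Nat.card H = Nat.card Y * Nat.card (stabilizer H y₀) := by
    have h2 : Nat.card (orbit H y₀) = Nat.card Y := by
      refine Nat.card_congr (Equiv.subtypeUnivEquiv fun y => ?_)
      obtain ⟨g, hg⟩ := htr y₀ y
      exact ⟨g, hg⟩
    rw [← h2, ← Nat.card_prod]
    exact Nat.card_congr (orbitProdStabilizerEquivGroup H y₀).symm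
  have hY0 : (Nat.card Y : ℂ) ≠ 0 := by
    have : Nonempty Y := ⟨y₀⟩
    exact_mod_cast Nat.card_pos.ne'
  have hS0 : (Nat.card (stabilizer H y₀) : ℂ) ≠ 0 := Core.card_ne_zero_complex
  rw [Core.classInner_def] at h1
  have e2 : ∑ g : H, (Nat.card {y : Y // g • y = y} : ℂ) * conj (χ g) =
      ∑ g : H, conj (χ g) * (Nat.card {y : Y // g • y = y} : ℂ) :=
    Finset.sum_congr rfl fun g _ => mul_comm _ _
  rw [e2, e1, hcard, Nat.cast_mul] at h1
  have h3 : ∑ x : stabilizer H y₀, conj (χ x) = (Nat.card (stabilizer H y₀) : ℂ) := by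
    field_simp at h1
    exact h1
  have h4 := congrArg conj h3
  rw [map_sum, Complex.conj_natCast] at h4
  have h5 : ∑ x : stabilizer H y₀, conj (conj (χ x)) = ∑ x : stabilizer H y₀, χ x :=
    Finset.sum_congr rfl fun x _ => Complex.conj_conj _
  rw [h5] at h4
  rw [Core.classInner_def]
  have h6 : ∑ s : stabilizer H y₀, χ s * conj 1 = ∑ s : stabilizer H y₀, χ s :=
    Finset.sum_congr rfl fun x _ => by rw [map_one, mul_one]
  rw [h6, h4, inv_mul_cancel₀ hS0]

variable {K : Type u} [Field K] {V : Type v} [AddCommGroup V] [Module K V] {X' : Type w} [AddCommGroup X']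
  [Module K X'] {X₂ : Type w'} [AddCommGroup X₂] [Module K X₂]
variable {F : CForm K V} {F' : CForm K X'} {F₂ : CForm K X₂} {j : X' →ₗ[K] V} {j₂ : X₂ →ₗ[K] V}
  {W₀ Z₀ : Submodule K V} {W₂ : Submodule K X₂} {Z' : Submodule K X'} {b k : ℕ}

theorem flagTerm_one [FiniteDimensional K V] {c : GL (Fin b) K → ℂ} (hc : IsClassFunction _ c) (hW₀ : W₀ ∈ F.Om b)
    {g : F.iso} (hg : g = 1) : flagTerm F.iso.subtype c g W₀ = c 1 := by
  subst hg
  have h : W₀.map (F.iso.subtype 1 : V →ₗ[K] V) = W₀ := Submodule.map_id _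
  rw [flagTerm_of F.iso.subtype c h]
  have e2 : res (F.iso.subtype 1) W₀ h = 1 := by
    ext w
    rfl
  rw [e2, cl_one hc (finBasisOfFinrankEq K W₀ hW₀.2)]

/-- the inner product of an irreducible character with a sum of two -/
theorem inner_add {G : Type*} [Group G] [Fintype G] [DecidableEq (IrrCharacter G)] (X X₁ X₂ : IrrCharacter G) :
    classInner (X : G → ℂ) (fun g => (X₁ : G → ℂ) g + (X₂ : G → ℂ) g) =
      (if X = X₁ then 1 else 0) + if X = X₂ then 1 else 0 := by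
  have h : ∀ A B : IrrCharacter G, classInner (A : G → ℂ) (B : G → ℂ) = if A = B then 1 else 0 := by
    intro A B
    split_ifs with hAB
    · rw [hAB]; exact Core.classInner_irr_self B.2
    · exact Core.classInner_irr_ne A.2 B.2 fun e => hAB (Subtype.ext e)
  have e : (fun g => (X₁ : G → ℂ) g + (X₂ : G → ℂ) g) = (X₁ : G → ℂ) + (X₂ : G → ℂ) := rfl
  rw [e, Core.classInner_add_right, h, h]

/-- **M3** -/
theorem hc_pair_vd [Finite K] [FiniteDimensional K V] [Finite V] [FiniteDimensional K X'] [Finite X']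
    [FiniteDimensional K X₂] [Finite X₂] [Fintype F.iso] [Fintype F'.iso] [Fintype F₂.iso]
    [Fintype (F.Om b)] [Fintype (F₂.Om b)] (h : Dbl F F' F₂ j j₂ W₀ Z₀ W₂ Z' b k) (hb : 2 ≤ b)
    (c : IrrCharacter (GL (Fin b) K)) (hcusp : _root_.Cfsg.Agent.H53.HC.IsCusp (c : GL (Fin b) K → ℂ))
    {ρ : stabW F.iso.subtype W₀ →* F'.iso}
    (hρ1 : ∀ (g : stabW F.iso.subtype W₀) x, ((g : F.iso) : V ≃ₗ[K] V) (j x) - j ((ρ g : X' ≃ₗ[K] X') x) ∈ W₀)
    (hρ2 : ∀ g : stabW F.iso.subtype W₀, (g : F.iso) ∈ F.TT W₀ → ρ g = 1)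
    (hρ3 : ∀ (a : W₀ ≃ₗ[K] W₀) (b : F'.iso), ∃ g : stabW F.iso.subtype W₀, ρ g = b ∧
        ∀ w : W₀, ((g : F.iso) : V ≃ₗ[K] V) w = a w)
    {Y : Type*} [MulAction F'.iso Y] [Finite Y] (htr : ∀ y y' : Y, ∃ g : F'.iso, g • y = y')
    (s : Y → Submodule K X')
    (hs : ∀ (g : F'.iso) y, g • y = y ↔ (s y).map (F'.iso.subtype g : X' →ₗ[K] X') = s y) (y₀ : Y) (hy₀ : s y₀ = Z')
    (hN : ∀ χ₁ χ₂ : IrrCharacter F'.iso,
      classInner (fun g => (Nat.card {y : Y // g • y = y} : ℂ)) (χ₁ : F'.iso → ℂ) ≠ 0 →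
      classInner (fun g => (Nat.card {y : Y // g • y = y} : ℂ)) (χ₂ : F'.iso → ℂ) ≠ 0 →
      classInner (F.hc (c : GL (Fin b) K → ℂ) (psf F W₀ ((χ₁ : F'.iso → ℂ) ∘ ρ)))
        (F.hc (c : GL (Fin b) K → ℂ) (psf F W₀ ((χ₂ : F'.iso → ℂ) ∘ ρ))) = if χ₁ = χ₂ then 2 else 0)
    (χ : IrrCharacter F'.iso)
    (hχ : classInner (fun g => (Nat.card {y : Y // g • y = y} : ℂ)) (χ : F'.iso → ℂ) = 1)
    (Y₁ Y₂ : IrrCharacter F₂.iso) (hYne : Y₁ ≠ Y₂)
    (hYs : F₂.hc (c : GL (Fin b) K → ℂ) (fun _ _ => 1) = fun g => (Y₁ : F₂.iso → ℂ) g + (Y₂ : F₂.iso → ℂ) g)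
    (X₁ X₂' : IrrCharacter F.iso) (hXne : X₁ ≠ X₂')
    (hXs : F.hc (c : GL (Fin b) K → ℂ) (psf F W₀ ((χ : F'.iso → ℂ) ∘ ρ)) =
      fun g => (X₁ : F.iso → ℂ) g + (X₂' : F.iso → ℂ) g)
    {p : ℕ} (hp1 : ¬ p ∣ charDegree (Y₁ : F₂.iso → ℂ)) (hp2 : ¬ p ∣ charDegree (Y₂ : F₂.iso → ℂ))
    (X : IrrCharacter F.iso) (hX : X = X₁ ∨ X = X₂') :
    H316.HT.vd p (X : F.iso → ℂ) + (Nat.card (F₂.Om b)).factorization p =
      H316.HT.vd p (χ : F'.iso → ℂ) + (Nat.card (F.Om b)).factorization p := by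
  classical
  obtain ⟨κ, hκ1, hκ⟩ := H618.HT.exists_kappa hb c.2 hcusp h.ts (le_sup_left : W₀ ≤ W₀ ⊔ Z₀) h.W₀_mem.2
  obtain ⟨ρ₂, hσ1, hσ2, hσ3⟩ := h.cmp₂.exists_rho
  have hcl := Core.isIrr_isClassFunction c.2
  let bas : Basis (Fin b) K W₀ := finBasisOfFinrankEq K W₀ h.W₀_mem.2
  have hLam1 : W₀ ⊔ Z₀ = W₀ ⊔ Z'.map j := by rw [h.Z'_map]
  have hLam2 : W₀ ⊔ Z₀ = Z₀ ⊔ W₂.map j₂ := by rw [h.W₂_map, sup_comm]
  have hLam3 : W₀ ⊔ Z₀ = Z₀ ⊔ W₀ := sup_comm _ _
  letI : Fintype (stabW F.iso.subtype W₀) := Fintype.ofFinite _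
  letI : Fintype (stabW F.iso.subtype Z₀) := Fintype.ofFinite _
  letI : Fintype (stabW F.iso.subtype (W₀ ⊔ Z₀)) := Fintype.ofFinite _
  letI : Fintype ↥(stabW F.iso.subtype W₀ ⊓ stabW F.iso.subtype (W₀ ⊔ Z₀)) := Fintype.ofFinite _
  letI : Fintype ↥(stabW F.iso.subtype Z₀ ⊓ stabW F.iso.subtype (W₀ ⊔ Z₀)) := Fintype.ofFinite _
  letI : Fintype ↥((stabW F.iso.subtype W₀ ⊓ stabW F.iso.subtype (W₀ ⊔ Z₀)) ⊓
    (stabW F.iso.subtype Z₀ ⊓ stabW F.iso.subtype (W₀ ⊔ Z₀))) := Fintype.ofFinite _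
  letI : Fintype (stabW F'.iso.subtype Z') := Fintype.ofFinite _
  letI : Fintype (stabW F₂.iso.subtype W₂) := Fintype.ofFinite _
  let μ₁ : IrrCharacter ↥(stabW F.iso.subtype W₀ ⊓ stabW F.iso.subtype (W₀ ⊔ Z₀)) :=
    ⟨_, H160.HT.Mu.isIrr_mu h.cmp hρ1 c.2 bas hρ3 hLam1⟩
  let μ₂ : IrrCharacter ↥(stabW F.iso.subtype Z₀ ⊓ stabW F.iso.subtype (W₀ ⊔ Z₀)) :=
    ⟨_, H160.HT.Mu.isIrr_mu₂ h.cmp₂ hσ1 hσ3 h.W₂_mem c.2 hLam2⟩
  let ν : IrrCharacter ↥((stabW F.iso.subtype W₀ ⊓ stabW F.iso.subtype (W₀ ⊔ Z₀)) ⊓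
      (stabW F.iso.subtype Z₀ ⊓ stabW F.iso.subtype (W₀ ⊔ Z₀))) :=
    ⟨_, H160.HT.Mu.isIrr_nu h.cmp₂ h.W₂_mem.1 h.W₂_map.symm h.W₀_mem c.2 rfl⟩
  let ψ : IrrCharacter (stabW F.iso.subtype W₀) := ⟨_, H160.HT.Mu.isIrr_psi c.2 bas hρ3 χ.2⟩
  let y₁ : IrrCharacter (stabW F.iso.subtype Z₀) := ⟨_, H160.HT.Mu.isIrr_comp_rho hσ3 Y₁.2⟩
  let y₂ : IrrCharacter (stabW F.iso.subtype Z₀) := ⟨_, H160.HT.Mu.isIrr_comp_rho hσ3 Y₂.2⟩
  -- values at `1`
  have m1 : (μ₁ : ↥(stabW F.iso.subtype W₀ ⊓ stabW F.iso.subtype (W₀ ⊔ Z₀)) → ℂ) 1 =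
      (c : GL (Fin b) K → ℂ) 1 := flagTerm_one hcl h.W₀_mem rfl
  have m2 : (μ₂ : ↥(stabW F.iso.subtype Z₀ ⊓ stabW F.iso.subtype (W₀ ⊔ Z₀)) → ℂ) 1 =
      (c : GL (Fin b) K → ℂ) 1 := flagTerm_one hcl h.W₂_mem (map_one ρ₂)
  have p1 : (ψ : stabW F.iso.subtype W₀ → ℂ) 1 = (c : GL (Fin b) K → ℂ) 1 * (χ : F'.iso → ℂ) 1 := by
    change flagTerm F.iso.subtype (c : GL (Fin b) K → ℂ) (1 : F.iso) W₀ * (χ : F'.iso → ℂ) (ρ 1) = _
    rw [flagTerm_one hcl h.W₀_mem rfl, map_one]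
  -- Frobenius
  have hΨ : Psi F b (psf F W₀ ((χ : F'.iso → ℂ) ∘ ρ)) := Psi.psf h.W₀_mem
    (Core.isCharacter_comp ρ (Core.isIrr_isCharacter χ.2)) (fun g hg => by
      rw [Function.comp_apply, Function.comp_apply, hρ2 g hg, map_one])
  have hfrob : ∀ X : IrrCharacter F.iso, classInner (fun x : stabW F.iso.subtype W₀ => (X : F.iso → ℂ) x)
      (ψ : stabW F.iso.subtype W₀ → ℂ) =
        classInner (X : F.iso → ℂ) (F.hc (c : GL (Fin b) K → ℂ) (psf F W₀ ((χ : F'.iso → ℂ) ∘ ρ))) := by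
    intro X
    have e1 := H501.HT.hc_frob hcl hΨ.cj h.W₀_mem (Core.isIrr_isClassFunction X.2)
    have e2 := congrArg conj e1
    rw [Core.classInner_conj_symm, Core.classInner_conj_symm] at e2
    rw [e2]
    congr 1
    funext g
    rw [psf_self (Core.isCharacter_isClassFunction (Core.isCharacter_comp ρ (Core.isIrr_isCharacter χ.2)))]
    rfl
  have hset : ∀ X : IrrCharacter F.iso, classInner (fun x : stabW F.iso.subtype W₀ => (X : F.iso → ℂ) x)
      (ψ : stabW F.iso.subtype W₀ → ℂ) ≠ 0 ↔ X = X₁ ∨ X = X₂' := by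
    intro X
    rw [hfrob, hXs, inner_add]
    by_cases h1 : X = X₁
    · simp [h1, hXne]
    · by_cases h2 : X = X₂'
      · simp [h2, Ne.symm hXne]
      · simp [h1, h2]
  have hdeg : ((X₁ : F.iso → ℂ) 1 + (X₂' : F.iso → ℂ) 1) * Nat.card (stabW F.iso.subtype W₀) =
      Nat.card F.iso * (ψ : stabW F.iso.subtype W₀ → ℂ) 1 := by
    have e1 := congrFun hXs 1
    have e2 : ∀ W ∈ F.Om b, psf F W₀ ((χ : F'.iso → ℂ) ∘ ρ) 1 W = (χ : F'.iso → ℂ) 1 := by
      intro W hW
      obtain ⟨x, hx⟩ := F.trans_Om h.W₀_mem hW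
      have h2 : x⁻¹ * 1 * x ∈ stabW F.iso.subtype W₀ := by
        rw [mul_one, inv_mul_cancel]; exact Subgroup.one_mem _
      rw [psf_eq (Core.isCharacter_isClassFunction (Core.isCharacter_comp ρ (Core.isIrr_isCharacter χ.2))) hx h2,
        Function.comp_apply]
      congr 1
      have : (⟨x⁻¹ * 1 * x, h2⟩ : stabW F.iso.subtype W₀) = 1 := Subtype.ext (by
        change x⁻¹ * 1 * x = 1
        group)
      rw [this, map_one]
    rw [F.hc_one hcl _ e2] at e1
    rw [← e1, F.card_iso_eq h.W₀_mem, p1]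
    push_cast
    ring
  -- `R₀`
  have hy₁ : classInner (fun x : ↥(stabW F.iso.subtype Z₀ ⊓ stabW F.iso.subtype (W₀ ⊔ Z₀)) =>
      (y₁ : stabW F.iso.subtype Z₀ → ℂ) ⟨x, x.2.1⟩)
        (μ₂ : ↥(stabW F.iso.subtype Z₀ ⊓ stabW F.iso.subtype (W₀ ⊔ Z₀)) → ℂ) = 1 := by
    have e0 := H160.HT.Mu.classInner_y_mu₂ h.cmp₂ hσ1 hσ3 hLam2 (Y₁ : F₂.iso → ℂ) (c : GL (Fin b) K → ℂ)
    have e1 := H501.HT.hc_frob (F := F₂) (ψ := fun _ _ => (1 : ℂ)) hcl (fun _ _ _ => rfl) h.W₂_mem
      (Core.isIrr_isClassFunction Y₁.2)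
    have e2 := congrArg conj e1
    rw [Core.classInner_conj_symm, Core.classInner_conj_symm, hYs, inner_add] at e2
    refine e0.trans ?_
    have e3 : (fun g : stabW F₂.iso.subtype W₂ => flagTerm F₂.iso.subtype (c : GL (Fin b) K → ℂ) g W₂ * (1 : ℂ)) =
        fun g : stabW F₂.iso.subtype W₂ => flagTerm F₂.iso.subtype (c : GL (Fin b) K → ℂ) g W₂ := by
      funext g
      rw [mul_one]
    rw [e3] at e2
    rw [← e2, if_pos rfl, if_neg hYne, add_zero]
  have hM := H160.HT.Mu.card_stab h.cmp₂ hσ1 hσ3 h.W₂_mem hLam2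
  have hY : ((y₁ : stabW F.iso.subtype Z₀ → ℂ) 1 + (y₂ : stabW F.iso.subtype Z₀ → ℂ) 1) *
      Nat.card ↥(stabW F.iso.subtype Z₀ ⊓ stabW F.iso.subtype (W₀ ⊔ Z₀)) =
        Nat.card (stabW F.iso.subtype Z₀) *
          (μ₂ : ↥(stabW F.iso.subtype Z₀ ⊓ stabW F.iso.subtype (W₀ ⊔ Z₀)) → ℂ) 1 := by
    have e1 := congrFun hYs 1
    rw [F₂.hc_one hcl (fun _ _ => 1) (fun _ _ => rfl)] at e1
    have e2 : (y₁ : stabW F.iso.subtype Z₀ → ℂ) 1 = (Y₁ : F₂.iso → ℂ) 1 := by
      change (Y₁ : F₂.iso → ℂ) (ρ₂ 1) = _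
      rw [map_one]
    have e3 : (y₂ : stabW F.iso.subtype Z₀ → ℂ) 1 = (Y₂ : F₂.iso → ℂ) 1 := by
      change (Y₂ : F₂.iso → ℂ) (ρ₂ 1) = _
      rw [map_one]
    rw [e2, e3, ← e1, m2, hM]
    push_cast
    ring
  -- `ψ`
  have hψ : classInner (fun x : ↥(stabW F.iso.subtype W₀ ⊓ stabW F.iso.subtype (W₀ ⊔ Z₀)) =>
      (ψ : stabW F.iso.subtype W₀ → ℂ) ⟨x, x.2.1⟩)
        (μ₁ : ↥(stabW F.iso.subtype W₀ ⊓ stabW F.iso.subtype (W₀ ⊔ Z₀)) → ℂ) = 1 := by
    have e0 := H160.HT.Mu.classInner_psi_mu h.cmp hρ1 c.2 bas hρ3 hLam1 (χ : F'.iso → ℂ)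
    refine e0.trans (inner_stab htr y₀ (Core.isIrr_isClassFunction χ.2) _ (fun g => ?_) hχ)
    rw [hs, hy₀]
    rfl
  have hdY₁ : charDegree (y₁ : stabW F.iso.subtype Z₀ → ℂ) = charDegree (Y₁ : F₂.iso → ℂ) := by
    unfold charDegree
    change ⌊((Y₁ : F₂.iso → ℂ) (ρ₂ 1)).re⌋₊ = _
    rw [map_one]
  have hdY₂ : charDegree (y₂ : stabW F.iso.subtype Z₀ → ℂ) = charDegree (Y₂ : F₂.iso → ℂ) := by
    unfold charDegree
    change ⌊((Y₂ : F₂.iso → ℂ) (ρ₂ 1)).re⌋₊ = _
    rw [map_one]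
  exact H992.HT.pair_vd (stabW F.iso.subtype W₀) (stabW F.iso.subtype Z₀)
    (stabW F.iso.subtype W₀ ⊓ stabW F.iso.subtype (W₀ ⊔ Z₀)) (stabW F.iso.subtype Z₀ ⊓ stabW F.iso.subtype (W₀ ⊔ Z₀))
    (stabW F.iso.subtype (W₀ ⊔ Z₀)) inf_le_left inf_le_left inf_le_right inf_le_right
    (H160.HT.Mu.inf_le_inf rfl) h.card_inf μ₁ μ₂ ν (fun _ => rfl)
    (fun d => H160.HT.Mu.mu_eq_nu h.cmp₂ hσ1 hcl h.W₂_map.symm hLam3 d) κ hκ (by rw [m1]; exact hκ1) ψ hψ y₁ y₂ hy₁ hY
    (fun X hX => H501.HT.hX_hc h.cmp h.W₀_mem c hρ1 hρ2 (fun b => by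
      obtain ⟨g, hg, -⟩ := hρ3 1 b
      exact ⟨g, hg⟩) htr s hs y₀ (by rw [hy₀, h.Z'_map]) hN χ hχ X hX)
    X₁ X₂' hXne hset hdeg (by rw [hdY₁]; exact hp1) (by rw [hdY₂]; exact hp2)
    (by rw [F.card_iso_eq h.W₀_mem, mul_comm]) hM (H992.HT.charDegree_ne_zero χ)
    (by rw [p1, m2, H992.HT.cast_charDegree]) X hX

end Cfsg.Agent.H18.HT
end

-- part: H428/HT/VanMax
section
/-!
# S4933, unitary primes: vanishing for the permutation character on the maximal totally singular subspaces (helper428)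

* `van_of_root_S` : `van_of_root` with `L ≤ S`;
* `Mx` : maximal totally singular subspaces; **`van_max`** : the vanishing at an orthogonal disjoint pair on the common
  stabiliser with two maximal totally singular subspaces;
* `pm` : the number of the `g`-invariant maximal totally singular subspaces above `W`; **`sum_max`**, **`van_pm`**.
-/

set_option autoImplicit false

open scoped ComplexConjugate
open Cfsg

namespace Cfsg.Agent.H428.HT

open Cfsg.Agent.OddOrderCharacters.Clifford Cfsg.Agent.Characters MulAction Module Cfsg.Agent.H53.HC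
open Cfsg.Agent.H477.HC Cfsg.Agent.H477.HC.CForm

universe u v w

variable {K : Type u} [Field K] {V : Type v} [AddCommGroup V] [Module K V] {F : CForm K V}

/-- the sum over a subgroup of a function which is cut off -/
theorem sum_inf_eq {G : Type*} [Group G] (L S : Subgroup G) [Fintype L] [Fintype ↥(L ⊓ S)] (f : G → ℂ)
    (hf : ∀ g ∈ L, g ∉ S → f g = 0) : ∑ l : L, f l = ∑ l : ↥(L ⊓ S), f l := by
  classical
  let T : Subgroup L := S.subgroupOf L
  let _ : Fintype T := Fintype.ofFinite _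
  rw [sum_eq_sum_subgroup T (fun l : L => f l) (fun g hg => hf g g.2 hg)]
  exact Fintype.sum_equiv
    { toFun := fun t : T => (⟨t.1.1, t.1.2, t.2⟩ : ↥(L ⊓ S))
      invFun := fun s => ⟨⟨s.1, s.2.1⟩, s.2.2⟩
      left_inv := fun _ => rfl
      right_inv := fun _ => rfl } _ _ fun _ => rfl

/-- `van_of_root` with `L ≤ S` -/
theorem van_of_root_S [FiniteDimensional K V] [Finite V] {k : ℕ} {c : GL (Fin k) K → ℂ}
    (hcf : IsClassFunction _ c) (hcusp : _root_.Cfsg.Agent.H53.HC.IsCusp c) {W₀ W' : Submodule K V} (hW₀ : finrank K W₀ = k)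
    (hW' : finrank K W' = k) (D : Submodule K V) (hD : D ≤ W₀) (hD0 : D ≠ ⊥) (hD1 : D ≠ W₀) (S : Subgroup F.iso)
    (hgen : ∀ c ∈ D, ∀ f : W₀ →ₗ[K] K, (∀ w : W₀, (w : V) ∈ D → f w = 0) →
      ∃ g ∈ S, (∀ w' ∈ W', (g : V ≃ₗ[K] V) w' = w') ∧ ∀ w : W₀, (g : V ≃ₗ[K] V) w = w + f w • c) :
    ∃ L : Subgroup F.iso, L ≤ stabW F.iso.subtype W₀ ∧ L ≤ stabW F.iso.subtype W' ∧ L ≤ S ∧
      ∀ [Fintype L], ∑ l : L, flagTerm F.iso.subtype c l W₀ * conj (flagTerm F.iso.subtype c l W') = 0 := by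
  classical
  let ψ : F.iso → Submodule K V → ℂ := fun g _ => if g ∈ S then 1 else 0
  have hψ : ∀ g ∈ S, ∀ W, ψ g W = 1 := fun g hg W => if_pos hg
  obtain ⟨L, h1, h2, h3⟩ := van_of_root (F := F) hcf hcusp (ψ := ψ) hW₀ hW' D hD hD0 hD1 S
    (fun g hg => ⟨(hψ g hg W₀).trans (hψ 1 S.one_mem W₀).symm, (hψ g hg W').trans (hψ 1 S.one_mem W').symm⟩) hgen
  have hfinV : Finite (V ≃ₗ[K] V) := Finite.of_injective (fun e : V ≃ₗ[K] V => (e : V → V)) DFunLike.coe_injective
  refine ⟨L ⊓ S, inf_le_left.trans h1, inf_le_left.trans h2, inf_le_right, fun {_} => ?_⟩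
  let _ : Fintype L := Fintype.ofFinite _
  have h4 := h3
  rw [sum_inf_eq L S (fun l => (flagTerm F.iso.subtype c l W₀ * ψ l W₀) * conj (flagTerm F.iso.subtype c l W' * ψ l W'))
    (fun g _ hg => by
      have : ψ g W₀ = 0 := if_neg hg
      rw [this, mul_zero, zero_mul])] at h4
  rw [← h4]
  refine Finset.sum_congr rfl fun l _ => ?_
  rw [hψ l l.2.2 W₀, mul_one, mul_one]

/-- maximal totally singular subspaces -/
def Mx (F : CForm K V) (U : Submodule K V) : Prop := F.TS U ∧ ∀ U', F.TS U' → U ≤ U' → U' = U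

/-- a singular vector orthogonal to a maximal totally singular subspace belongs to it -/
theorem Mx.mem {U : Submodule K V} (hU : Mx F U) {v : V} (hv : F.Sing v) (h : v ∈ F.perp U) : v ∈ U := by
  have h1 : F.TS (U ⊔ (K ∙ v)) := by
    refine ⟨?_, ?_⟩
    · intro w hw
      obtain ⟨u, hu, y, hy, rfl⟩ := Submodule.mem_sup.1 hw
      obtain ⟨t, rfl⟩ := Submodule.mem_span_singleton.1 hy
      rw [F.Q_add, F.Q_smul, hU.1.1 u hu, hv.1, F.B_smul_right, F.B_eq_zero (h u hu), mul_zero, mul_zero, T_zero,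
        add_zero, add_zero]
    · intro w hw w' hw'
      obtain ⟨u, hu, y, hy, rfl⟩ := Submodule.mem_sup.1 hw
      obtain ⟨t, rfl⟩ := Submodule.mem_span_singleton.1 hy
      obtain ⟨u', hu', y', hy', rfl⟩ := Submodule.mem_sup.1 hw'
      obtain ⟨t', rfl⟩ := Submodule.mem_span_singleton.1 hy'
      rw [F.B_add_left, F.B_add_right, F.B_add_right, F.B_smul_left, F.B_smul_left, F.B_smul_right, F.B_smul_right,
        hU.1.2 u hu u' hu', hv.2, h u' hu', F.B_eq_zero (h u hu)]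
      ring
  have h2 := hU.2 _ h1 le_sup_left
  rw [← h2]
  exact Submodule.mem_sup_right (Submodule.mem_span_singleton_self v)

/-- the main case: `W₀` is not contained in `Lam'` -/
theorem van_max_aux [FiniteDimensional K V] [Finite V] {k : ℕ} (hk : 2 ≤ k) {c : GL (Fin k) K → ℂ}
    (hcf : IsClassFunction _ c) (hcusp : _root_.Cfsg.Agent.H53.HC.IsCusp c) {W₀ W' Lam Lam' : Submodule K V} (hW₀ : W₀ ∈ F.Om k)
    (hW' : W' ∈ F.Om k) (hperp : W₀ ≤ F.perp W') (hL : Mx F Lam) (hL' : Mx F Lam')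
    (h1 : W₀ ≤ Lam) (h2 : W' ≤ Lam') (hnot : ¬ W₀ ≤ Lam') :
    ∃ L : Subgroup F.iso, L ≤ stabW F.iso.subtype W₀ ∧ L ≤ stabW F.iso.subtype W' ∧
      L ≤ stabW F.iso.subtype Lam ⊓ stabW F.iso.subtype Lam' ∧
      ∀ [Fintype L], ∑ l : L, flagTerm F.iso.subtype c l W₀ * conj (flagTerm F.iso.subtype c l W') = 0 := by
  classical
  -- functionals on `W₀` killing `W₀ ⊓ Lam'`
  have hfun : ∀ f : W₀ →ₗ[K] K, (∀ w : W₀, (w : V) ∈ Lam' → f w = 0) → ∃ b ∈ Lam', ∀ w : W₀, f w = F.B w b := by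
    intro f hf
    exact F.exists_pair W₀ Lam' f fun a ha => hf a (hL'.mem (hW₀.1.sing a.2) fun b hb => ha b hb)
  have root : ∀ x ∈ W₀, ∀ b ∈ Lam', F.B x b = 0 → ∃ g ∈ stabW F.iso.subtype Lam ⊓ stabW F.iso.subtype Lam',
      (∀ w' ∈ W', (g : V ≃ₗ[K] V) w' = w') ∧ ∀ w : W₀, (g : V ≃ₗ[K] V) w = w + F.B w b • x := by
    intro x hx b hb hxb
    obtain ⟨g, hg⟩ := F.exists_root (hW₀.1.sing hx) (hL'.1.sing hb) hxb
    refine ⟨g, ⟨map_eq_of_le F.iso.subtype fun v hv => ?_, map_eq_of_le F.iso.subtype fun v hv => ?_⟩,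
      fun w' hw' => ?_, fun w => ?_⟩
    · change (g : V ≃ₗ[K] V) v ∈ Lam
      rw [hg, hL.1.2 v hv x (h1 hx)]
      have : v + F.B v b • x - (F.ε⁻¹ * 0) • b = v + F.B v b • x := by module
      rw [this]
      exact Lam.add_mem hv (Lam.smul_mem _ (h1 hx))
    · change (g : V ≃ₗ[K] V) v ∈ Lam'
      rw [hg, hL'.1.2 v hv b hb]
      have : v + (0 : K) • x - (F.ε⁻¹ * F.B v x) • b = v + (-(F.ε⁻¹ * F.B v x)) • b := by module
      rw [this]
      exact Lam'.add_mem hv (Lam'.smul_mem _ hb)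
    · rw [hg, hL'.1.2 w' (h2 hw') b hb, F.B_eq_zero (hperp hx w' hw')]
      module
    · rw [hg, hW₀.1.2 w w.2 x hx]
      module
  by_cases hA : W₀ ⊓ Lam' = ⊥
  · obtain ⟨x, hx, hx0⟩ : ∃ x ∈ W₀, x ≠ 0 := by
      by_contra h
      push Not at h
      have : W₀ = ⊥ := (Submodule.eq_bot_iff _).2 h
      have h2 := hW₀.2
      rw [this, finrank_bot] at h2
      omega
    refine van_of_root_S hcf hcusp hW₀.2 hW'.2 (K ∙ x) ((Submodule.span_singleton_le_iff_mem _ _).2 hx)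
      (fun h => hx0 (Submodule.span_singleton_eq_bot.1 h)) (fun h => ?_) _ fun y hy f hf => ?_
    · have h2 := hW₀.2
      rw [← h, finrank_span_singleton hx0] at h2
      omega
    · have hyW : y ∈ W₀ := ((Submodule.span_singleton_le_iff_mem _ _).2 hx) hy
      obtain ⟨b, hb, hfb⟩ := hfun f fun w hw => by
        have : (w : V) ∈ W₀ ⊓ Lam' := ⟨w.2, hw⟩
        rw [hA] at this
        have e : w = 0 := Subtype.ext ((Submodule.mem_bot K).1 this)
        rw [e, map_zero]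
      obtain ⟨g, hg1, hg2, hg3⟩ := root y hyW b hb (by rw [← hfb ⟨y, hyW⟩, hf ⟨y, hyW⟩ hy])
      exact ⟨g, hg1, hg2, fun w => by rw [hg3, hfb]⟩
  · refine van_of_root_S hcf hcusp hW₀.2 hW'.2 (W₀ ⊓ Lam') inf_le_left hA (fun h => hnot (inf_eq_left.1 h)) _
      fun y hy f hf => ?_
    obtain ⟨b, hb, hfb⟩ := hfun f fun w hw => hf w ⟨w.2, hw⟩
    obtain ⟨g, hg1, hg2, hg3⟩ := root y hy.1 b hb (hL'.1.2 y hy.2 b hb)
    exact ⟨g, hg1, hg2, fun w => by rw [hg3, hfb]⟩

/-- **the vanishing at an orthogonal disjoint pair**, on the stabiliser of two maximal totally singular subspaces -/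
theorem van_max [FiniteDimensional K V] [Finite V] {k : ℕ} (hk : 2 ≤ k) {c : GL (Fin k) K → ℂ}
    (hcf : IsClassFunction _ c) (hcusp : _root_.Cfsg.Agent.H53.HC.IsCusp c) {W₀ W' Lam Lam' : Submodule K V} (hW₀ : W₀ ∈ F.Om k)
    (hW' : W' ∈ F.Om k) (hperp : W₀ ≤ F.perp W') (h0 : W₀ ⊓ W' = ⊥) (hL : Mx F Lam) (hL' : Mx F Lam')
    (h1 : W₀ ≤ Lam) (h2 : W' ≤ Lam') :
    ∃ L : Subgroup F.iso, L ≤ stabW F.iso.subtype W₀ ∧ L ≤ stabW F.iso.subtype W' ∧
      L ≤ stabW F.iso.subtype Lam ∧ L ≤ stabW F.iso.subtype Lam' ∧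
      ∀ [Fintype L], ∑ l : L, flagTerm F.iso.subtype c l W₀ * conj (flagTerm F.iso.subtype c l W') = 0 := by
  classical
  by_cases hn : W₀ ≤ Lam'
  swap
  · obtain ⟨L, e1, e2, e3, e4⟩ := van_max_aux hk hcf hcusp hW₀ hW' hperp hL hL' h1 h2 hn
    exact ⟨L, e1, e2, e3.trans inf_le_left, e3.trans inf_le_right, e4⟩
  by_cases hn' : W' ≤ Lam
  swap
  · have hperp' : W' ≤ F.perp W₀ := fun w hw w0 hw0 => F.B_eq_zero (hperp hw0 w hw)
    obtain ⟨L, e1, e2, e3, e4⟩ := van_max_aux hk hcf hcusp hW' hW₀ hperp' hL' hL h2 h1 hn'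
    refine ⟨L, e2, e1, e3.trans inf_le_right, e3.trans inf_le_left, fun {_} => ?_⟩
    have h5 := congrArg conj e4
    rw [map_sum, map_zero] at h5
    rw [← h5]
    refine Finset.sum_congr rfl fun l _ => ?_
    rw [map_mul, Complex.conj_conj, mul_comm]
  obtain ⟨x, hx, hx0⟩ : ∃ x ∈ W₀, x ≠ 0 := by
    by_contra h
    push Not at h
    have : W₀ = ⊥ := (Submodule.eq_bot_iff _).2 h
    have h2 := hW₀.2
    rw [this, finrank_bot] at h2
    omega
  obtain ⟨L, e1, e2, e3, e4⟩ := van_of_root_S (F := F) hcf hcusp hW₀.2 hW'.2 (K ∙ x)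
    ((Submodule.span_singleton_le_iff_mem _ _).2 hx) (fun h => hx0 (Submodule.span_singleton_eq_bot.1 h)) (fun h => by
      have h2 := hW₀.2
      rw [← h, finrank_span_singleton hx0] at h2
      omega) (stabW F.iso.subtype Lam ⊓ stabW F.iso.subtype Lam') (fun y hy f hf => by
    have hyW : y ∈ W₀ := ((Submodule.span_singleton_le_iff_mem _ _).2 hx) hy
    by_cases hf0 : f = 0
    · refine ⟨1, Subgroup.one_mem _, fun _ _ => rfl, fun w => ?_⟩
      rw [hf0, LinearMap.zero_apply, zero_smul, add_zero]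
      rfl
    obtain ⟨b, hb, hb1, hb2⟩ := exists_sing_dual hW₀.1 hperp f (fun w hw => by
      have : (w : V) ∈ W₀ ⊓ W' := ⟨w.2, hw⟩
      rw [h0] at this
      have e : w = 0 := Subtype.ext ((Submodule.mem_bot K).1 this)
      rw [e, map_zero]) hf0
    have hyb : F.B y b = 0 := by rw [← hb1 ⟨y, hyW⟩, hf ⟨y, hyW⟩ hy]
    obtain ⟨g, hg⟩ := F.exists_root (hW₀.1.sing hyW) hb hyb
    have hst : ∀ U : Submodule K V, F.TS U → W₀ ≤ U → g ∈ stabW F.iso.subtype U := by
      intro U hU hWU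
      refine map_eq_of_le F.iso.subtype fun v hv => ?_
      change (g : V ≃ₗ[K] V) v ∈ U
      rw [hg, hU.2 v hv y (hWU hyW)]
      have : v + F.B v b • y - (F.ε⁻¹ * 0) • b = v + F.B v b • y := by module
      rw [this]
      exact U.add_mem hv (U.smul_mem _ (hWU hyW))
    refine ⟨g, ⟨hst _ hL.1 h1, hst _ hL'.1 hn⟩, fun w' hw' => ?_, fun w => ?_⟩
    · rw [hg, hb2 w' hw', F.B_eq_zero (hperp hyW w' hw')]
      module
    · rw [hg, hb1, hW₀.1.2 w w.2 y hyW]
      module)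
  exact ⟨L, e1, e2, e3.trans inf_le_left, e3.trans inf_le_right, e4⟩

/-! ### The permutation character -/

/-- the number of the `g`-invariant maximal totally singular subspaces above `W` -/
noncomputable def pm (F : CForm K V) (g : F.iso) (W : Submodule K V) : ℂ :=
  (Nat.card {U : Submodule K V // Mx F U ∧ W ≤ U ∧ U.map (F.iso.subtype g : V →ₗ[K] V) = U} : ℂ)

theorem finite_sub [Finite V] : Finite (Submodule K V) :=
  Finite.of_injective (fun W : Submodule K V => (W : Set V)) SetLike.coe_injective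

open Classical in
theorem pm_eq [Finite V] [Fintype {U : Submodule K V // Mx F U}] (g : F.iso) (W : Submodule K V) :
    pm F g W = ∑ U : {U : Submodule K V // Mx F U},
      if W ≤ U.1 ∧ U.1.map (F.iso.subtype g : V →ₗ[K] V) = U.1 then (1 : ℂ) else 0 := by
  rw [Finset.sum_ite, Finset.sum_const_zero, add_zero, Finset.sum_const, nsmul_eq_mul, mul_one, pm]
  congr 1
  rw [← Fintype.card_subtype, ← Nat.card_eq_fintype_card]
  exact Nat.card_congr
    { toFun := fun U => ⟨⟨U.1, U.2.1⟩, U.2.2⟩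
      invFun := fun U => ⟨U.1.1, U.1.2, U.2⟩
      left_inv := fun _ => rfl
      right_inv := fun _ => rfl }

/-- orthogonality on the common stabiliser, from a subgroup -/
theorem sum_stab [FiniteDimensional K V] [Finite V] {k : ℕ} {c : GL (Fin k) K → ℂ} (hc : IsCharacter _ c)
    {W₀ W' : Submodule K V} (hW₀ : W₀ ∈ F.Om k) (hW' : W' ∈ F.Om k) (S : Subgroup F.iso) [Fintype S]
    (hS : S ≤ stabW F.iso.subtype W₀) (hS' : S ≤ stabW F.iso.subtype W') (L : Subgroup F.iso) (hL : L ≤ S)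
    (h : ∀ [Fintype L], ∑ l : L, flagTerm F.iso.subtype c l W₀ * conj (flagTerm F.iso.subtype c l W') = 0) :
    ∑ l : S, flagTerm F.iso.subtype c l W₀ * conj (flagTerm F.iso.subtype c l W') = 0 := by
  classical
  have hfinV : Finite (V ≃ₗ[K] V) := Finite.of_injective (fun e : V ≃ₗ[K] V => (e : V → V)) DFunLike.coe_injective
  let _ : Fintype L := Fintype.ofFinite _
  have h1 := classInner_eq_zero_of_comp (Subgroup.inclusion hL) (isCharacter_cl hc hW₀.2 S hS)
    (isCharacter_cl hc hW'.2 S hS') (by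
      rw [Core.classInner_def]
      rw [show (∑ l : L, ((fun l : S => flagTerm F.iso.subtype c (l : F.iso) W₀) ∘ (Subgroup.inclusion hL)) l *
        conj (((fun l : S => flagTerm F.iso.subtype c (l : F.iso) W') ∘ (Subgroup.inclusion hL)) l)) = 0 from h,
        mul_zero])
  rw [Core.classInner_def] at h1
  rcases mul_eq_zero.1 h1 with h3 | h3
  · exact absurd h3 (inv_ne_zero card_ne_zero')
  · exact h3

/-- **the vanishing for the permutation character** -/
theorem sum_max [FiniteDimensional K V] [Finite V] {k : ℕ} (hk : 2 ≤ k) {c : GL (Fin k) K → ℂ}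
    (hc : IsCharacter _ c) (hcusp : _root_.Cfsg.Agent.H53.HC.IsCusp c) {W₀ W' : Submodule K V} (hW₀ : W₀ ∈ F.Om k)
    (hW' : W' ∈ F.Om k) (hperp : W₀ ≤ F.perp W') (h0 : W₀ ⊓ W' = ⊥)
    [iT : Fintype ↥(stabW F.iso.subtype W₀ ⊓ stabW F.iso.subtype W')] :
    ∑ g : ↥(stabW F.iso.subtype W₀ ⊓ stabW F.iso.subtype W'), (flagTerm F.iso.subtype c g W₀ * pm F g W₀) *
      conj (flagTerm F.iso.subtype c g W' * pm F g W') = 0 := by
  classical
  have hfinV : Finite (V ≃ₗ[K] V) := Finite.of_injective (fun e : V ≃ₗ[K] V => (e : V → V)) DFunLike.coe_injective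
  have hfs : Finite (Submodule K V) := finite_sub
  let _ : Fintype {U : Submodule K V // Mx F U} := Fintype.ofFinite _
  let T : Subgroup F.iso := stabW F.iso.subtype W₀ ⊓ stabW F.iso.subtype W'
  let _ : Fintype T := iT
  have hcf := Core.isCharacter_isClassFunction hc
  have key : ∀ U U' : {U : Submodule K V // Mx F U}, ∑ g : T,
      (if (W₀ ≤ U.1 ∧ U.1.map (F.iso.subtype (g : F.iso) : V →ₗ[K] V) = U.1) ∧
        (W' ≤ U'.1 ∧ U'.1.map (F.iso.subtype (g : F.iso) : V →ₗ[K] V) = U'.1) then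
        flagTerm F.iso.subtype c g W₀ * conj (flagTerm F.iso.subtype c g W') else 0) = 0 := by
    intro U U'
    by_cases hU : W₀ ≤ U.1 ∧ W' ≤ U'.1
    swap
    · refine Finset.sum_eq_zero fun g _ => if_neg fun h => hU ⟨h.1.1, h.2.1⟩
    let S : Subgroup F.iso := stabW F.iso.subtype U.1 ⊓ stabW F.iso.subtype U'.1
    let _ : Fintype ↥(T ⊓ S) := Fintype.ofFinite _
    rw [sum_inf_eq T S (fun g => if (W₀ ≤ U.1 ∧ U.1.map (F.iso.subtype (g : F.iso) : V →ₗ[K] V) = U.1) ∧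
        (W' ≤ U'.1 ∧ U'.1.map (F.iso.subtype (g : F.iso) : V →ₗ[K] V) = U'.1) then
        flagTerm F.iso.subtype c g W₀ * conj (flagTerm F.iso.subtype c g W') else 0)
      (fun g _ hg => if_neg fun h => hg ⟨h.1.2, h.2.2⟩)]
    obtain ⟨L, e1, e2, e3, e4, e5⟩ := van_max hk hcf hcusp hW₀ hW' hperp h0 U.2 U'.2 hU.1 hU.2
    rw [← sum_stab hc hW₀ hW' (T ⊓ S) (inf_le_left.trans inf_le_left) (inf_le_left.trans inf_le_right) L
      (le_inf (le_inf e1 e2) (le_inf e3 e4)) e5]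
    refine Finset.sum_congr rfl fun g _ => if_pos ⟨⟨hU.1, g.2.2.1⟩, ⟨hU.2, g.2.2.2⟩⟩
  calc ∑ g : T, (flagTerm F.iso.subtype c g W₀ * pm F g W₀) * conj (flagTerm F.iso.subtype c g W' * pm F g W')
      = ∑ g : T, ∑ U : {U : Submodule K V // Mx F U}, ∑ U' : {U : Submodule K V // Mx F U},
          (if (W₀ ≤ U.1 ∧ U.1.map (F.iso.subtype (g : F.iso) : V →ₗ[K] V) = U.1) ∧
            (W' ≤ U'.1 ∧ U'.1.map (F.iso.subtype (g : F.iso) : V →ₗ[K] V) = U'.1) then
            flagTerm F.iso.subtype c g W₀ * conj (flagTerm F.iso.subtype c g W') else 0) := by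
        refine Finset.sum_congr rfl fun g _ => ?_
        ((conv => enter [@2, @5, @6]; rw [pm_eq]); simp only [pm_eq]; simp only [map_mul]; simp only [map_sum]; (conv => enter [@2]; rw [mul_mul_mul_comm]); simp only [Finset.sum_mul_sum]; simp +singlePass only [Finset.mul_sum])
        refine Finset.sum_congr rfl fun U _ => ?_
        rw [Finset.mul_sum]
        refine Finset.sum_congr rfl fun U' _ => ?_
        simp only [apply_ite conj, map_one, map_zero]
        by_cases hP : W₀ ≤ U.1 ∧ U.1.map (F.iso.subtype (g : F.iso) : V →ₗ[K] V) = U.1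
        · by_cases hQ : W' ≤ U'.1 ∧ U'.1.map (F.iso.subtype (g : F.iso) : V →ₗ[K] V) = U'.1
          · rw [if_pos hP, if_pos hQ, if_pos ⟨hP, hQ⟩, mul_one, mul_one]
          · rw [if_neg hQ, mul_zero, mul_zero]
            exact (if_neg fun h => hQ h.2).symm
        · rw [if_neg hP, zero_mul, mul_zero]
          exact (if_neg fun h => hP h.1).symm
    _ = 0 := by
        rw [Finset.sum_comm]
        refine Finset.sum_eq_zero fun U _ => ?_
        rw [Finset.sum_comm]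
        exact Finset.sum_eq_zero fun U' _ => key U U'

end Cfsg.Agent.H428.HT
end

-- part: H428/HT/Opp
section
/-!
# S4933, unitary primes: the opposite subspaces and the correspondence with the smaller space (helper428)

* `unip_trans` : the unipotent radical of the stabiliser of `W₀` is transitive on the opposites of `W₀`;
* `lift`, `card_lift`, **`pm_eq_card`** : the maximal totally singular subspaces above `W₀` are those of the smaller space.
-/

set_option autoImplicit false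

open scoped ComplexConjugate
open Cfsg

namespace Cfsg.Agent.H428.HT

open Cfsg.Agent.OddOrderCharacters.Clifford Cfsg.Agent.Characters MulAction Module Cfsg.Agent.H53.HC
open Cfsg.Agent.H477.HC Cfsg.Agent.H477.HC.CForm Cfsg.Agent.H749.Two

universe u v w

section Unip

variable {K : Type u} [Field K] {V : Type v} [AddCommGroup V] [Module K V] {F : CForm K V}

theorem sd {ι : Type*} [Fintype ι] [DecidableEq ι] {R : Type*} [Semiring R] (c : ι → R) (l : ι) :
    ∑ i, c i * (if i = l then 1 else 0) = c l := by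
  rw [Finset.sum_eq_single l]
  · rw [if_pos rfl, mul_one]
  · intro i _ hi
    rw [if_neg hi, mul_zero]
  · intro h; exact absurd (Finset.mem_univ _) h

theorem sde {ι : Type*} [Fintype ι] [DecidableEq ι] {R : Type*} [Semiring R] (c : ι → R) (ε : R) (l : ι) :
    ∑ i, c i * (if i = l then ε else 0) = c l * ε := by
  rw [Finset.sum_eq_single l]
  · rw [if_pos rfl]
  · intro i _ hi
    rw [if_neg hi, mul_zero]
  · intro h; exact absurd (Finset.mem_univ _) h

variable {k : ℕ}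

/-- the coordinates with respect to a frame -/
def cmb' (e : Fin k → V) (F : CForm K V) (a : Fin k → V) (c : K) : V →ₗ[K] V :=
  ∑ i, (c • F.lf (a i)).smulRight (e i)

theorem cmb'_apply (e : Fin k → V) (a : Fin k → V) (c : K) (v : V) :
    cmb' e F a c v = ∑ i, (c * F.B v (a i)) • e i := by
  unfold cmb'
  rw [LinearMap.sum_apply]
  rfl

theorem cmb'_mem (e : Fin k → V) (a : Fin k → V) (c : K) (v : V) : cmb' e F a c v ∈ Submodule.span K (Set.range e) := by
  rw [cmb'_apply]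
  exact (Submodule.mem_span_range_iff_exists_fun K).2 ⟨_, rfl⟩

/-- **the unipotent element carrying `f` to the opposite frame `y`** -/
theorem exists_unip' [FiniteDimensional K V] {e f y : Fin k → V} (hee : ∀ i l, F.B (e i) (e l) = 0)
    (hff : ∀ i l, F.B (f i) (f l) = 0)
    (hef : ∀ i l, F.B (e i) (f l) = if i = l then 1 else 0) (hQe : ∀ i, F.Q (e i) = 0) (hQf : ∀ i, F.Q (f i) = 0)
    (hey : ∀ i l, F.B (e i) (y l) = if i = l then 1 else 0) (hyy : ∀ i l, F.B (y i) (y l) = 0)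
    (hQy : ∀ i, F.Q (y i) = 0) :
    ∃ u : F.iso, (∀ i, (u : V ≃ₗ[K] V) (e i) = e i) ∧ (∀ i, (u : V ≃ₗ[K] V) (f i) = y i) ∧
      ∀ v, (∀ i, F.B v (e i) = 0) → (u : V ≃ₗ[K] V) v = v - ∑ i, F.B v (y i - f i) • e i := by
  have hfe : ∀ i l, F.B (f i) (e l) = if i = l then F.ε else 0 := by
    intro i l
    rw [F.B_symm, hef]
    by_cases hij : i = l
    · rw [if_pos hij, if_pos hij.symm, map_one, mul_one]
    · rw [if_neg hij, if_neg (Ne.symm hij), map_zero, mul_zero]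
  have hε := F.ε_ne
  let P : V →ₗ[K] V := cmb' f F e F.ε⁻¹
  let Y : V →ₗ[K] V := cmb' y F e F.ε⁻¹
  let r : V →ₗ[K] V := LinearMap.id - P
  let H : V →ₗ[K] V := (cmb' e F (fun i => y i - f i) 1).comp r
  have hP : ∀ v, P v = ∑ i, (F.ε⁻¹ * F.B v (e i)) • f i := cmb'_apply _ _ _
  have hY : ∀ v, Y v = ∑ i, (F.ε⁻¹ * F.B v (e i)) • y i := cmb'_apply _ _ _
  have hH : ∀ v, H v = ∑ i, (1 * F.B (r v) (y i - f i)) • e i := fun v => cmb'_apply _ _ _ _
  have hr : ∀ v, r v = v - P v := fun v => rfl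
  have tsf := F.TS_span hff hQf
  have tse := F.TS_span hee hQe
  have tsy := F.TS_span hyy hQy
  have Pm : ∀ v, P v ∈ Submodule.span K (Set.range f) := fun v => cmb'_mem _ _ _ _
  have Ym : ∀ v, Y v ∈ Submodule.span K (Set.range y) := fun v => cmb'_mem _ _ _ _
  have Hm : ∀ v, H v ∈ Submodule.span K (Set.range e) := fun v => cmb'_mem _ _ _ _
  have re : ∀ v l, F.B (r v) (e l) = 0 := by
    intro v l
    rw [hr, F.B_sub_left, hP, B_sum_left]
    simp only [hfe]
    rw [sde (fun i => F.ε⁻¹ * F.B v (e i)) F.ε l]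
    field_simp
    ring
  have rH : ∀ u v, F.B (r u) (H v) = 0 := by
    intro u v
    rw [hH, B_sum_right]
    exact Finset.sum_eq_zero fun i _ => by rw [re, mul_zero]
  have Hy : ∀ u m, F.B (H u) (y m) = F.B (r u) (y m - f m) := by
    intro u m
    rw [hH, B_sum_left]
    simp only [hey]
    rw [sd (fun i => 1 * F.B (r u) (y i - f i)) m, one_mul]
  have key : ∀ u v, F.B (r u - H u) (Y v) = F.B (r u) (P v) := by
    intro u v
    rw [hY, hP, B_sum_right, B_sum_right]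
    refine Finset.sum_congr rfl fun i _ => ?_
    rw [F.B_sub_left, Hy, F.B_sub_right]
    ring
  have key' : ∀ u v, F.B (Y v) (r u - H u) = F.B (P v) (r u) := by
    intro u v
    rw [F.B_symm, key, F.B_symm (P v)]
  let g : V →ₗ[K] V := r - H + Y
  have hg : ∀ v, g v = (r v - H v) + Y v := fun v => rfl
  have hv : ∀ v, v = r v + P v := fun v => by rw [hr]; abel
  have HH : ∀ u v, F.B (H u) (H v) = 0 := fun u v => tse.2 _ (Hm u) _ (Hm v)
  have YY : ∀ u v, F.B (Y u) (Y v) = 0 := fun u v => tsy.2 _ (Ym u) _ (Ym v)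
  have PP : ∀ u v, F.B (P u) (P v) = 0 := fun u v => tsf.2 _ (Pm u) _ (Pm v)
  have Hr : ∀ u v, F.B (H u) (r v) = 0 := fun u v => F.B_eq_zero (rH v u)
  obtain ⟨u, hu⟩ := F.exists_iso g (fun x z => by
    rw [hg, hg, F.B_add_left, F.B_add_right, F.B_add_right, key, key', YY, F.B_sub_left, F.B_sub_right, F.B_sub_right,
      HH, rH, Hr]
    conv_rhs => rw [hv x, hv z]
    rw [F.B_add_left, F.B_add_right, F.B_add_right, PP]
    ring) (fun v => by
    rw [hg, F.Q_add, key, tsy.1 _ (Ym v), sub_eq_add_neg, F.Q_add, F.B_neg_right, rH, neg_zero, F.T_zero]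
    have : -H v = (-1 : K) • H v := by rw [neg_one_smul]
    rw [this, F.Q_smul, tse.1 _ (Hm v)]
    conv_rhs => rw [hv v, F.Q_add, tsf.1 _ (Pm v)]
    ring)
  have P0 : ∀ v, (∀ i, F.B v (e i) = 0) → P v = 0 := by
    intro v hv
    rw [hP]
    exact Finset.sum_eq_zero fun i _ => by rw [hv, mul_zero, zero_smul]
  have Y0 : ∀ v, (∀ i, F.B v (e i) = 0) → Y v = 0 := by
    intro v hv
    rw [hY]
    exact Finset.sum_eq_zero fun i _ => by rw [hv, mul_zero, zero_smul]
  have u1 : ∀ v, (∀ i, F.B v (e i) = 0) → (u : V ≃ₗ[K] V) v = v - ∑ i, F.B v (y i - f i) • e i := by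
    intro v hv
    rw [hu, hg, Y0 v hv, hH, hr, P0 v hv, sub_zero, add_zero]
    congr 1
    exact Finset.sum_congr rfl fun i _ => by rw [one_mul]
  refine ⟨u, fun i => ?_, fun l => ?_, u1⟩
  · rw [u1 _ (hee i), Finset.sum_eq_zero, sub_zero]
    intro l _
    rw [F.B_sub_right, hey, hef, sub_self, zero_smul]
  · have rl : r (f l) = 0 := by
      rw [hr, hP, Finset.sum_eq_single l]
      · rw [hfe, if_pos rfl, inv_mul_cancel₀ hε, one_smul, sub_self]
      · intro i _ hi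
        rw [hfe, if_neg (Ne.symm hi), mul_zero, zero_smul]
      · intro h; exact absurd (Finset.mem_univ _) h
    rw [hu, hg, hH, rl, Finset.sum_eq_zero (fun i _ => by rw [F.B_zero_left, mul_zero, zero_smul]), sub_zero, zero_add,
      hY, Finset.sum_eq_single l]
    · rw [hfe, if_pos rfl, inv_mul_cancel₀ hε, one_smul]
    · intro i _ hi
      rw [hfe, if_neg (Ne.symm hi), mul_zero, zero_smul]
    · intro h; exact absurd (Finset.mem_univ _) h

/-- **the unipotent radical is transitive on the opposites** -/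
theorem unip_trans [FiniteDimensional K V] {W₀ W' W'' : Submodule K V} (hW₀ : W₀ ∈ F.Om k) (hW' : W' ∈ F.Om k)
    (hW'' : W'' ∈ F.Om k) (h' : W₀ ⊓ F.perp W' = ⊥) (h'' : W₀ ⊓ F.perp W'' = ⊥) :
    ∃ u : F.iso, (∀ w ∈ W₀, (u : V ≃ₗ[K] V) w = w) ∧ W'.map (F.iso.subtype u : V →ₗ[K] V) = W'' ∧
      ∀ v ∈ F.perp W₀, (u : V ≃ₗ[K] V) v - v ∈ W₀ := by
  classical
  obtain ⟨b, b', hb⟩ := exists_dual_basis (F := F) hW₀.2 hW'.2 h'
  have key : ∀ j, ∃ z ∈ W'', ∀ w : W₀, b.coord j w = F.B w z := by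
    intro j
    exact F.exists_pair W₀ W'' (b.coord j) (fun w hw => by
      have : (w : V) ∈ W₀ ⊓ F.perp W'' := ⟨w.2, hw⟩
      rw [h''] at this
      have e : w = 0 := Subtype.ext ((Submodule.mem_bot K).1 this)
      rw [e, map_zero])
  choose y hy hy' using key
  have hby : ∀ i j, F.B (b i) (y j) = if i = j then 1 else 0 := by
    intro i j
    rw [← hy', Basis.coord_apply, Basis.repr_self, Finsupp.single_apply]
  obtain ⟨u, hu1, hu2, hu3⟩ := exists_unip' (F := F) (e := fun i => (b i : V)) (f := fun i => (b' i : V)) (y := y)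
    (fun i l => hW₀.1.2 _ (b i).2 _ (b l).2) (fun i l => hW'.1.2 _ (b' i).2 _ (b' l).2) hb
    (fun i => hW₀.1.1 _ (b i).2) (fun i => hW'.1.1 _ (b' i).2) hby
    (fun i l => hW''.1.2 _ (hy i) _ (hy l)) (fun i => hW''.1.1 _ (hy i))
  refine ⟨u, fun w hw => ?_, ?_, fun v hv => ?_⟩
  · have e0 : (w : V) = ∑ i, b.repr ⟨w, hw⟩ i • (b i : V) := by
      conv_lhs => rw [show w = ((⟨w, hw⟩ : W₀) : V) from rfl, ← b.sum_repr ⟨w, hw⟩, Submodule.coe_sum]
      rfl
    conv_rhs => rw [e0]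
    conv_lhs => rw [e0, map_sum]
    refine Finset.sum_congr rfl fun i _ => ?_
    rw [map_smul, hu1]
  · apply Submodule.eq_of_le_of_finrank_eq
    · rintro _ ⟨w, hw, rfl⟩
      change (u : V ≃ₗ[K] V) w ∈ W''
      have e0 : (w : V) = ∑ i, b'.repr ⟨w, hw⟩ i • (b' i : V) := by
        conv_lhs => rw [show w = ((⟨w, hw⟩ : W') : V) from rfl, ← b'.sum_repr ⟨w, hw⟩, Submodule.coe_sum]
        rfl
      rw [e0, map_sum]
      refine Submodule.sum_mem _ fun i _ => ?_
      rw [map_smul, hu2]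
      exact W''.smul_mem _ (hy i)
    · rw [hW''.2, ← hW'.2]
      exact LinearEquiv.finrank_map_eq (u : V ≃ₗ[K] V) W'
  · rw [hu3 v fun i => hv _ (b i).2, sub_sub_cancel_left]
    exact W₀.neg_mem (Submodule.sum_mem _ fun i _ => W₀.smul_mem _ (b i).2)

end Unip

section Lift

variable {K : Type u} [Field K] {V : Type v} [AddCommGroup V] [Module K V] {X : Type w} [AddCommGroup X] [Module K X]
variable {F : CForm K V} {F' : CForm K X} {j : X →ₗ[K] V} {W₀ : Submodule K V}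

theorem Cmp_inj (h : Cmp F F' j W₀) [FiniteDimensional K X] {x : X} (hx : j x ∈ W₀) : x = 0 := by
  obtain ⟨r, hr, hrj, hrW⟩ := h.exists_proj
  rw [← hrj x, hrW _ hx]

theorem Cmp_TS_lift (h : Cmp F F' j W₀) {U : Submodule K X} (hU : F'.TS U) : F.TS (W₀ ⊔ U.map j) := by
  refine TS_sup F h.ts ⟨?_, ?_⟩ ?_
  · rintro _ ⟨x, hx, rfl⟩
    rw [h.jQ, hU.1 x hx]
  · rintro _ ⟨x, hx, rfl⟩ _ ⟨y, hy, rfl⟩
    rw [h.jB, hU.2 x hx y hy]
  · rintro w hw _ ⟨x, hx, rfl⟩
    exact F.B_eq_zero (h.j1 x w hw)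

theorem Cmp_comap_lift (h : Cmp F F' j W₀) [FiniteDimensional K X] (U : Submodule K X) :
    (W₀ ⊔ U.map j).comap j = U := by
  ext x
  constructor
  · intro hx
    obtain ⟨w, hw, y, hy, e⟩ := Submodule.mem_sup.1 (show j x ∈ W₀ ⊔ U.map j from hx)
    obtain ⟨u, hu, rfl⟩ := hy
    have h1 : j (x - u) ∈ W₀ := by
      rw [map_sub, ← e, add_sub_cancel_right]
      exact hw
    have h2 := Cmp_inj h h1
    rw [sub_eq_zero.1 h2]
    exact hu
  · intro hx
    exact (le_sup_right : U.map j ≤ W₀ ⊔ U.map j) ⟨x, hx, rfl⟩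

theorem Cmp_lift_comap (h : Cmp F F' j W₀) {L : Submodule K V} (hL : F.TS L) (hW : W₀ ≤ L) :
    W₀ ⊔ (L.comap j).map j = L := by
  apply le_antisymm
  · refine sup_le hW ?_
    rintro _ ⟨x, hx, rfl⟩
    exact hx
  · intro v hv
    obtain ⟨w, hw, x, rfl⟩ := h.j2 v (fun w hw => hL.2 v hv w (hW hw))
    refine Submodule.add_mem_sup hw ⟨x, ?_, rfl⟩
    have := L.sub_mem hv (hW hw)
    rwa [add_sub_cancel_left] at this

theorem Cmp_TS_comap (h : Cmp F F' j W₀) {L : Submodule K V} (hL : F.TS L) : F'.TS (L.comap j) := by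
  refine ⟨fun x hx => ?_, fun x hx y hy => ?_⟩
  · rw [← h.jQ]
    exact hL.1 _ hx
  · rw [← h.jB]
    exact hL.2 _ hx _ hy

theorem Mx_lift (h : Cmp F F' j W₀) [FiniteDimensional K X] {U : Submodule K X} (hU : Mx F' U) :
    Mx F (W₀ ⊔ U.map j) := by
  refine ⟨Cmp_TS_lift h hU.1, fun L hL hle => ?_⟩
  have h1 : L.comap j = U := hU.2 _ (Cmp_TS_comap h hL) (by
    rw [← Cmp_comap_lift h U]
    exact Submodule.comap_mono hle)
  rw [← Cmp_lift_comap h hL (le_sup_left.trans hle), h1]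

theorem Mx_comap (h : Cmp F F' j W₀) [FiniteDimensional K X] {L : Submodule K V} (hL : Mx F L) (hW : W₀ ≤ L) :
    Mx F' (L.comap j) := by
  refine ⟨Cmp_TS_comap h hL.1, fun U hU hle => ?_⟩
  have h1 : W₀ ⊔ U.map j = L := hL.2 _ (Cmp_TS_lift h hU) (by
    conv_lhs => rw [← Cmp_lift_comap h hL.1 hW]
    exact sup_le_sup_left (Submodule.map_mono hle) _)
  rw [← h1, Cmp_comap_lift h]

/-- the action on the lifted subspaces -/
theorem map_lift (_ : Cmp F F' j W₀) {g : stabW F.iso.subtype W₀} {b : F'.iso}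
    (hg : ∀ x, ((g : F.iso) : V ≃ₗ[K] V) (j x) - j ((b : X ≃ₗ[K] X) x) ∈ W₀) (U : Submodule K X) :
    (W₀ ⊔ U.map j).map (F.iso.subtype (g : F.iso) : V →ₗ[K] V) =
      W₀ ⊔ (U.map (F'.iso.subtype b : X →ₗ[K] X)).map j := by
  have h0 : W₀.map (F.iso.subtype (g : F.iso) : V →ₗ[K] V) = W₀ := g.2
  rw [Submodule.map_sup, h0]
  apply le_antisymm
  · refine sup_le le_sup_left ?_
    rintro _ ⟨_, ⟨x, hx, rfl⟩, rfl⟩
    change ((g : F.iso) : V ≃ₗ[K] V) (j x) ∈ _
    have : ((g : F.iso) : V ≃ₗ[K] V) (j x) =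
        (((g : F.iso) : V ≃ₗ[K] V) (j x) - j ((b : X ≃ₗ[K] X) x)) + j ((b : X ≃ₗ[K] X) x) := by abel
    rw [this]
    exact Submodule.add_mem_sup (hg x) ⟨_, ⟨x, hx, rfl⟩, rfl⟩
  · refine sup_le le_sup_left ?_
    rintro _ ⟨_, ⟨x, hx, rfl⟩, rfl⟩
    change j ((b : X ≃ₗ[K] X) x) ∈ _
    have : j ((b : X ≃ₗ[K] X) x) =
        -(((g : F.iso) : V ≃ₗ[K] V) (j x) - j ((b : X ≃ₗ[K] X) x)) + ((g : F.iso) : V ≃ₗ[K] V) (j x) := by abel
    rw [this]
    exact Submodule.add_mem_sup (W₀.neg_mem (hg x)) ⟨_, ⟨x, hx, rfl⟩, rfl⟩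

theorem map_lift_eq (h : Cmp F F' j W₀) [FiniteDimensional K X] {g : stabW F.iso.subtype W₀} {b : F'.iso}
    (hg : ∀ x, ((g : F.iso) : V ≃ₗ[K] V) (j x) - j ((b : X ≃ₗ[K] X) x) ∈ W₀) (U : Submodule K X) :
    (W₀ ⊔ U.map j).map (F.iso.subtype (g : F.iso) : V →ₗ[K] V) = W₀ ⊔ U.map j ↔
      U.map (F'.iso.subtype b : X →ₗ[K] X) = U := by
  rw [map_lift h hg U]
  constructor
  · intro e
    have := congrArg (Submodule.comap j) e
    rwa [Cmp_comap_lift h, Cmp_comap_lift h] at this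
  · intro e
    rw [e]

/-- **the maximal totally singular subspaces above `W₀`** -/
theorem pm_eq_card (h : Cmp F F' j W₀) [FiniteDimensional K X] (g : stabW F.iso.subtype W₀) {b : F'.iso}
    (hg : ∀ x, ((g : F.iso) : V ≃ₗ[K] V) (j x) - j ((b : X ≃ₗ[K] X) x) ∈ W₀) :
    pm F g W₀ = (Nat.card {U : Submodule K X // Mx F' U ∧ U.map (F'.iso.subtype b : X →ₗ[K] X) = U} : ℂ) := by
  unfold pm
  congr 1
  refine Nat.card_congr
    { toFun := fun L => ⟨L.1.comap j, Mx_comap h L.2.1 L.2.2.1, ?_⟩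
      invFun := fun U => ⟨W₀ ⊔ U.1.map j, Mx_lift h U.2.1, le_sup_left, (map_lift_eq h hg U.1).2 U.2.2⟩
      left_inv := fun L => Subtype.ext (Cmp_lift_comap h L.2.1.1 L.2.2.1)
      right_inv := fun U => Subtype.ext (Cmp_comap_lift h U.1) }
  rw [← map_lift_eq h hg, Cmp_lift_comap h L.2.1.1 L.2.2.1]
  exact L.2.2.2

/-- the permutation character at another point -/
theorem pm_conj (x g : F.iso) (W : Submodule K V) :
    pm F (x * g * x⁻¹) (W.map (F.iso.subtype x : V →ₗ[K] V)) = pm F g W := by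
  have hx : ∀ U : Submodule K V, (U.map (F.iso.subtype x⁻¹ : V →ₗ[K] V)).map (F.iso.subtype x : V →ₗ[K] V) = U := by
    intro U
    rw [← map_mul_apply, mul_inv_cancel, map_one]
    exact Submodule.map_id _
  have hx' : ∀ U : Submodule K V, (U.map (F.iso.subtype x : V →ₗ[K] V)).map (F.iso.subtype x⁻¹ : V →ₗ[K] V) = U := by
    intro U
    rw [← map_mul_apply, inv_mul_cancel, map_one]
    exact Submodule.map_id _
  have hM : ∀ (y : F.iso) (U : Submodule K V), Mx F U → Mx F (U.map (F.iso.subtype y : V →ₗ[K] V)) := by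
    intro y U hU
    refine ⟨hU.1.map y, fun U' hU' hle => ?_⟩
    have h1 : (U.map (F.iso.subtype y : V →ₗ[K] V)).map (F.iso.subtype y⁻¹ : V →ₗ[K] V) = U := by
      rw [← map_mul_apply, inv_mul_cancel, map_one]
      exact Submodule.map_id _
    have h2 := hU.2 _ (hU'.map y⁻¹) (by
      conv_lhs => rw [← h1]
      exact Submodule.map_mono hle)
    have h3 : (U'.map (F.iso.subtype y⁻¹ : V →ₗ[K] V)).map (F.iso.subtype y : V →ₗ[K] V) = U' := by
      rw [← map_mul_apply, mul_inv_cancel, map_one]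
      exact Submodule.map_id _
    rw [← h3]
    exact congrArg _ h2
  unfold pm
  congr 1
  refine Nat.card_congr
    { toFun := fun U => ⟨U.1.map (F.iso.subtype x⁻¹ : V →ₗ[K] V), hM _ _ U.2.1, ?_, ?_⟩
      invFun := fun U => ⟨U.1.map (F.iso.subtype x : V →ₗ[K] V), hM _ _ U.2.1, Submodule.map_mono U.2.2.1, ?_⟩
      left_inv := fun U => Subtype.ext (hx _)
      right_inv := fun U => Subtype.ext (hx' _) }
  · have := Submodule.map_mono (f := (F.iso.subtype x⁻¹ : V →ₗ[K] V)) U.2.2.1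
    rwa [hx'] at this
  · conv_rhs => rw [← U.2.2.2]
    rw [← map_mul_apply, ← map_mul_apply]
    congr 3
    group
  · conv_rhs => rw [← U.2.2.2]
    rw [← map_mul_apply, ← map_mul_apply]
    congr 3
    group

end Lift

end Cfsg.Agent.H428.HT
end

-- part: H428/HT/Norm
section
/-!
# S4933, unitary primes: the inner products of the Harish-Chandra induced characters (helper428)

`inner_hc_psf` : for `c` cuspidal, `c ∘ ι = c`, and `χ₁`, `χ₂` summands of the permutation character of `F'.iso` on the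
maximal totally singular subspaces, `⟨R(c ⊗ χ₁), R(c ⊗ χ₂)⟩ = 2 ⟨χ₁, χ₂⟩`.
-/

set_option autoImplicit false

open scoped ComplexConjugate
open Cfsg

namespace Cfsg.Agent.H428.HT

open Cfsg.Agent.OddOrderCharacters.Clifford Cfsg.Agent.Characters MulAction Module Cfsg.Agent.H53.HC
open Cfsg.Agent.H477.HC Cfsg.Agent.H477.HC.CForm Cfsg.Agent.H749.Two

universe u v w

section General

open Classical in
/-- **the inner product of two orbit sums** -/
theorem inner_orbSum {G : Type u} [Group G] {Ω : Type v} [MulAction G Ω] [Fintype G] [Fintype Ω] [IsPretransitive G Ω]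
    (φ₁ φ₂ : G → Ω → ℂ) (h₁ : ∀ (x g : G) (ω : Ω), φ₁ (x * g * x⁻¹) (x • ω) = φ₁ g ω)
    (h₂ : ∀ (x g : G) (ω : Ω), φ₂ (x * g * x⁻¹) (x • ω) = φ₂ g ω) (ω₀ : Ω) (T : Subgroup G) [Fintype T]
    (hT : ∀ g, g ∈ T ↔ g • ω₀ = ω₀) :
    (Nat.card T : ℂ) * classInner (orbSum φ₁) (orbSum φ₂) =
      ∑ ω : Ω, ∑ t : T, φ₁ t ω₀ * conj (if (t : G) • ω = ω then φ₂ t ω else 0) := by
  have e : T = stabilizer G ω₀ := by
    ext g
    rw [hT, mem_stabilizer_iff]
  subst e
  have hcl : IsClassFunction G (orbSum φ₂) := by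
    rw [orbSum_eq_indFun φ₂ h₂ ω₀]
    exact isClassFunction_indFun _ _
  rw [orbSum_eq_indFun φ₁ h₁ ω₀, classInner_indFun _ _ _ hcl, classInner_apply, mul_inv_cancel_left₀ card_ne_zero',
    Finset.sum_comm]
  refine Finset.sum_congr rfl fun t _ => ?_
  rw [← Finset.mul_sum]
  unfold orbSum
  rw [map_sum]
  rfl

open Classical in
/-- the fixed points of a transitive group -/
theorem sum_fix {P : Type u} [Group P] {O : Type v} [MulAction P O] [Fintype P] [Fintype O] [IsPretransitive P O]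
    (ω₀ : O) : ∑ ω : O, ∑ t : P, (if t • ω = ω then (1 : ℂ) else 0) = Nat.card P := by
  have h1 : orbSum (fun (_ : P) (_ : O) => (1 : ℂ)) = indFun (stabilizer P ω₀) (stabFun (fun _ _ => 1) ω₀) :=
    orbSum_eq_indFun _ (fun _ _ _ => rfl) ω₀
  have h2 := classInner_indFun (stabilizer P ω₀) (stabFun (fun _ _ => (1 : ℂ)) ω₀) (1 : P → ℂ) (fun _ _ => rfl)
  rw [← h1, classInner_apply, classInner_apply] at h2
  have h3 : ∑ h : stabilizer P ω₀, stabFun (fun _ _ => (1 : ℂ)) ω₀ h * conj ((1 : P → ℂ) h) =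
      Nat.card (stabilizer P ω₀) := by
    rw [Nat.card_eq_fintype_card]
    simp only [stabFun, _root_.Cfsg.Agent.H53.HC.stabFun, _root_.Pi.one_apply, _root_.map_one, _root_.mul_one, _root_.Finset.sum_const, _root_.Finset.card_univ, _root_.MulAction.mem_stabilizer_iff, _root_.nsmul_eq_mul]
  rw [h3, inv_mul_cancel₀ card_ne_zero'] at h2
  have h4 : ∑ g : P, orbSum (fun (_ : P) (_ : O) => (1 : ℂ)) g * conj ((1 : P → ℂ) g) = Nat.card P := by
    have h5 := congrArg (fun z => (Nat.card P : ℂ) * z) h2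
    simp only [mul_inv_cancel_left₀ (card_ne_zero' (G := P)), mul_one] at h5
    exact h5
  rw [Finset.sum_comm, ← h4]
  refine Finset.sum_congr rfl fun t _ => ?_
  rw [Pi.one_apply, map_one, mul_one]
  rfl

theorem sum_eq_inner {L : Type*} [Group L] [Fintype L] (α β : L → ℂ) :
    ∑ l, α l * conj (β l) = (Nat.card L : ℂ) * classInner α β := by
  rw [classInner_apply, mul_inv_cancel_left₀ card_ne_zero']

/-- the inner product over a group mapping onto a product -/
theorem sum_prod_inner {L : Type*} [Group L] [Fintype L] {A B : Type*} [Group A] [Group B] [Fintype A] [Fintype B]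
    (f : L →* A) (g : L →* B) (hs : ∀ a b, ∃ l, f l = a ∧ g l = b) {c : A → ℂ} (hc : IsIrrCharacter A c)
    (χ₁ χ₂ : B → ℂ) :
    ∑ l : L, (c (f l) * χ₁ (g l)) * conj (c (f l) * χ₂ (g l)) = (Nat.card L : ℂ) * classInner χ₁ χ₂ := by
  classical
  have hsurj : Function.Surjective (f.prod g) := by
    rintro ⟨a, b⟩
    obtain ⟨l, h1, h2⟩ := hs a b
    exact ⟨l, Prod.ext h1 h2⟩
  have h1 := sum_comp_hom (f.prod g) hsurj (fun p => (c p.1 * χ₁ p.2) * conj (c p.1 * χ₂ p.2))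
  have h2 : ∑ u : A × B, (c u.1 * χ₁ u.2) * conj (c u.1 * χ₂ u.2) =
      (∑ a, c a * conj (c a)) * ∑ b, χ₁ b * conj (χ₂ b) := by
    rw [Fintype.sum_prod_type, Finset.sum_mul_sum]
    refine Finset.sum_congr rfl fun a _ => Finset.sum_congr rfl fun b _ => ?_
    rw [map_mul]
    ring
  have h3 : (∑ a, c a * conj (c a)) = (Nat.card A : ℂ) := by
    rw [sum_eq_inner, Core.classInner_irr_self hc, mul_one]
  have h4 : (Nat.card (f.prod g).ker : ℂ) * ((Nat.card A : ℂ) * Nat.card B) = Nat.card L := by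
    rw [← Nat.cast_mul, ← Nat.cast_mul, ← Nat.card_prod,
      ← Nat.card_congr (QuotientGroup.quotientKerEquivOfSurjective (f.prod g) hsurj).toEquiv, mul_comm,
      ← Subgroup.card_eq_card_quotient_mul_card_subgroup]
  have h5 : ∑ l : L, (c (f l) * χ₁ (g l)) * conj (c (f l) * χ₂ (g l)) =
      (Nat.card (f.prod g).ker : ℂ) * ∑ u : A × B, (c u.1 * χ₁ u.2) * conj (c u.1 * χ₂ u.2) := h1
  rw [h5, h2, h3, sum_eq_inner, ← h4]
  ring

/-- positivity -/
theorem inner_zero_of_add {D : Type*} [Group D] [Fintype D] {A₁ B₁ A₂ B₂ : D → ℂ} (h1 : IsCharacter D A₁)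
    (h2 : IsCharacter D B₁) (h3 : IsCharacter D A₂) (h4 : IsCharacter D B₂)
    (h : classInner (A₁ + B₁) (A₂ + B₂) = 0) : classInner A₁ A₂ = 0 := by
  rw [Core.classInner_add_left, Core.classInner_add_right, Core.classInner_add_right] at h
  obtain ⟨a, ea⟩ := Core.classInner_isNat h1 h3
  obtain ⟨b, eb⟩ := Core.classInner_isNat h1 h4
  obtain ⟨c, ec⟩ := Core.classInner_isNat h2 h3
  obtain ⟨d, ed⟩ := Core.classInner_isNat h2 h4
  rw [ea, eb, ec, ed] at h
  have h5 : a + b + (c + d) = 0 := by exact_mod_cast h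
  have h6 : a = 0 := by omega
  rw [ea, h6, Nat.cast_zero]

end General

section Pair

variable {K : Type u} [Field K] {V : Type v} [AddCommGroup V] [Module K V] {X : Type w} [AddCommGroup X] [Module K X]
variable {F : CForm K V} {F' : CForm K X} {j : X →ₗ[K] V} {W₀ : Submodule K V} {k : ℕ}

/-- the inner product as a sum over the pairs -/
theorem inner_hc [FiniteDimensional K V] [Fintype F.iso] [Fintype (F.Om k)] {c : GL (Fin k) K → ℂ}
    (hcf : IsClassFunction _ c) {ψ₁ ψ₂ : F.iso → Submodule K V → ℂ}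
    (hψ₁ : ∀ x g W, ψ₁ (x * g * x⁻¹) (W.map (F.iso.subtype x : V →ₗ[K] V)) = ψ₁ g W)
    (hψ₂ : ∀ x g W, ψ₂ (x * g * x⁻¹) (W.map (F.iso.subtype x : V →ₗ[K] V)) = ψ₂ g W)
    (hW₀ : W₀ ∈ F.Om k) [Fintype (stabW F.iso.subtype W₀)] :
    (Nat.card (stabW F.iso.subtype W₀) : ℂ) * classInner (F.hc c ψ₁) (F.hc c ψ₂) =
      ∑ W' : F.Om k, ∑ t : stabW F.iso.subtype W₀, (flagTerm F.iso.subtype c t W₀ * ψ₁ t W₀) *
        conj (flagTerm F.iso.subtype c t W'.1 * ψ₂ t W'.1) := by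
  classical
  let _ := subAct F.iso.subtype (F.Om k) F.Om_map
  have : IsPretransitive F.iso (F.Om k) := by
    refine ⟨fun W W' => ?_⟩
    obtain ⟨g, hg⟩ := F.trans_Om hW₀ W.2
    obtain ⟨g', hg'⟩ := F.trans_Om hW₀ W'.2
    refine ⟨g' * g⁻¹, ?_⟩
    have e1 : g • (⟨W₀, hW₀⟩ : F.Om k) = W := Subtype.ext hg
    have e2 : g' • (⟨W₀, hW₀⟩ : F.Om k) = W' := Subtype.ext hg'
    rw [← e1, mul_smul, inv_smul_smul, e2]
  have hinv : ∀ {ψ : F.iso → Submodule K V → ℂ},
      (∀ x g W, ψ (x * g * x⁻¹) (W.map (F.iso.subtype x : V →ₗ[K] V)) = ψ g W) →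
      ∀ (x g : F.iso) (W : F.Om k), (fun g (W : F.Om k) => flagTerm F.iso.subtype c g W.1 * ψ g W.1) (x * g * x⁻¹)
        (x • W) = (fun g (W : F.Om k) => flagTerm F.iso.subtype c g W.1 * ψ g W.1) g W := by
    intro ψ hψ x g W
    exact congrArg₂ (· * ·) (flagTerm_conj F.iso.subtype hcf x g W.1) (hψ x g W.1)
  rw [hc_eq_orbSum F, hc_eq_orbSum F]
  rw [inner_orbSum (fun g (W : F.Om k) => flagTerm F.iso.subtype c g W.1 * ψ₁ g W.1)
    (fun g (W : F.Om k) => flagTerm F.iso.subtype c g W.1 * ψ₂ g W.1) (hinv hψ₁) (hinv hψ₂) ⟨W₀, hW₀⟩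
    (stabW F.iso.subtype W₀) (fun g => ⟨fun h => Subtype.ext h, fun h => congrArg Subtype.val h⟩)]
  refine Finset.sum_congr rfl fun W' _ => Finset.sum_congr rfl fun t _ => ?_
  congr 2
  split_ifs with h
  · rfl
  · unfold flagTerm
    rw [dif_neg, zero_mul]
    intro h'
    exact h (Subtype.ext h')

theorem opp_map {g : F.iso} (hg : g ∈ stabW F.iso.subtype W₀) {W' : Submodule K V} (h0 : W₀ ⊓ F.perp W' = ⊥) :
    W₀ ⊓ F.perp (W'.map (F.iso.subtype g : V →ₗ[K] V)) = ⊥ := by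
  rw [Submodule.eq_bot_iff]
  rintro x ⟨hx, hx'⟩
  have hg' : W₀.map (F.iso.subtype g : V →ₗ[K] V) = W₀ := hg
  rw [← hg'] at hx
  obtain ⟨y, hy, rfl⟩ := hx
  have h1 : y ∈ W₀ ⊓ F.perp W' := by
    refine ⟨hy, fun w hw => ?_⟩
    exact (F.iso_B g y w).symm.trans (hx' _ ⟨w, hw, rfl⟩)
  rw [h0] at h1
  rw [(Submodule.mem_bot K).1 h1, map_zero]

/-- the two actions on the middle space of an opposite pair agree -/
theorem rho_conj (h : Cmp F F' j W₀) [FiniteDimensional K V] [FiniteDimensional K X]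
    {ρ : stabW F.iso.subtype W₀ →* F'.iso}
    (hρ1 : ∀ (g : stabW F.iso.subtype W₀) x, ((g : F.iso) : V ≃ₗ[K] V) (j x) - j ((ρ g : X ≃ₗ[K] X) x) ∈ W₀)
    (hW₀ : W₀ ∈ F.Om k) {W' : Submodule K V} (hW' : W' ∈ F.Om k) (h0 : W₀ ⊓ F.perp W' = ⊥) :
    ∃ x : F.iso, W₀.map (F.iso.subtype x : V →ₗ[K] V) = W' ∧
      ∀ l (hl : l ∈ stabW F.iso.subtype W₀), l ∈ stabW F.iso.subtype W' →
        ∃ hg : x⁻¹ * l * x ∈ stabW F.iso.subtype W₀, ρ ⟨x⁻¹ * l * x, hg⟩ = ρ ⟨l, hl⟩ := by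
  classical
  obtain ⟨x, hx, hx'⟩ := exists_swap (F := F) hW₀.1 hW'.1 (by rw [hW₀.2, hW'.2]) h0
  have h0' := opp_symm (F := F) hW₀.2 hW'.2 h0
  refine ⟨x, hx, fun l hl hl' => ?_⟩
  have hl0 : W₀.map (F.iso.subtype l : V →ₗ[K] V) = W₀ := hl
  have hl1 : W'.map (F.iso.subtype l : V →ₗ[K] V) = W' := hl'
  have hxi : W'.map (F.iso.subtype x⁻¹ : V →ₗ[K] V) = W₀ := by
    rw [← hx, ← map_mul_apply, inv_mul_cancel, map_one]
    exact Submodule.map_id _
  have hg : x⁻¹ * l * x ∈ stabW F.iso.subtype W₀ := by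
    change W₀.map (F.iso.subtype (x⁻¹ * l * x) : V →ₗ[K] V) = W₀
    rw [map_mul_apply, map_mul_apply, hx, hl1, hxi]
  refine ⟨hg, ?_⟩
  obtain ⟨P, hP⟩ := F.exists_proj (W₀ := W₀) (W' := W')
    (fun w hw hw' => by
      have : w ∈ W₀ ⊓ F.perp W' := ⟨hw, hw'⟩
      rw [h0] at this
      exact (Submodule.mem_bot K).1 this)
    (fun w hw hw' => by
      have : w ∈ W' ⊓ F.perp W₀ := ⟨hw, fun w' hw'' => F.B_eq_zero (hw' w' hw'')⟩
      rw [h0'] at this
      exact (Submodule.mem_bot K).1 this)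
  have hst : ∀ {g : F.iso} {W : Submodule K V}, W.map (F.iso.subtype g : V →ₗ[K] V) = W → ∀ w ∈ W,
      (g : V ≃ₗ[K] V) w ∈ W := by
    intro g W hgW w hw
    have : (F.iso.subtype g : V →ₗ[K] V) w ∈ W.map (F.iso.subtype g : V →ₗ[K] V) := ⟨w, hw, rfl⟩
    rwa [hgW] at this
  have hpp : ∀ {g : F.iso} {W : Submodule K V}, W.map (F.iso.subtype g : V →ₗ[K] V) = W → ∀ v,
      (∀ w ∈ W, F.B v w = 0) → ∀ w ∈ W, F.B ((g : V ≃ₗ[K] V) v) w = 0 := by
    intro g W hgW v hv w hw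
    rw [← hgW] at hw
    obtain ⟨w', hw', rfl⟩ := hw
    exact (F.iso_B g v w').trans (hv w' hw')
  apply Subtype.ext
  ext x'
  -- decomposition
  let y : V := j x' - P (j x')
  have hy0 : ∀ w ∈ W₀, F.B y w = 0 := by
    intro w hw
    change F.B (j x' - P (j x')) w = 0
    rw [F.B_sub_left, h.j1 x' w hw, hW₀.1.2 _ (P (j x')).2 w hw, sub_zero]
  have hy1 : ∀ w ∈ W', F.B y w = 0 := by
    intro w hw
    change F.B (j x' - P (j x')) w = 0
    rw [F.B_sub_left, hP _ w hw, sub_self]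
  have hxy : (x : V ≃ₗ[K] V) y = y := hx' y hy0 hy1
  have hly : (x : V ≃ₗ[K] V) ((l : V ≃ₗ[K] V) y) = (l : V ≃ₗ[K] V) y :=
    hx' _ (hpp hl0 y hy0) (hpp hl1 y hy1)
  have e1 : ((x⁻¹ * l * x : F.iso) : V ≃ₗ[K] V) y = (l : V ≃ₗ[K] V) y := by
    change ((x⁻¹ : F.iso) : V ≃ₗ[K] V) ((l : V ≃ₗ[K] V) ((x : V ≃ₗ[K] V) y)) = _
    rw [hxy]
    conv_lhs => rw [← hly]
    exact (x : V ≃ₗ[K] V).symm_apply_apply _
  have e2 : j x' = (P (j x') : V) + y := by
    change j x' = (P (j x') : V) + (j x' - P (j x'))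
    abel
  have e3 : ((x⁻¹ * l * x : F.iso) : V ≃ₗ[K] V) (j x') - (l : V ≃ₗ[K] V) (j x') ∈ W₀ := by
    rw [e2, map_add, map_add, e1, add_sub_add_right_eq_sub]
    exact W₀.sub_mem (hst hg _ (P (j x')).2) (hst hl0 _ (P (j x')).2)
  have e4 : j ((ρ ⟨x⁻¹ * l * x, hg⟩ : X ≃ₗ[K] X) x' - (ρ ⟨l, hl⟩ : X ≃ₗ[K] X) x') ∈ W₀ := by
    rw [map_sub]
    have h1 := hρ1 ⟨x⁻¹ * l * x, hg⟩ x'
    have h2 := hρ1 ⟨l, hl⟩ x'
    have h3 := W₀.add_mem (W₀.add_mem (W₀.neg_mem h1) e3) h2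
    have e5 : -(((x⁻¹ * l * x : F.iso) : V ≃ₗ[K] V) (j x') - j ((ρ ⟨x⁻¹ * l * x, hg⟩ : X ≃ₗ[K] X) x')) +
        (((x⁻¹ * l * x : F.iso) : V ≃ₗ[K] V) (j x') - (l : V ≃ₗ[K] V) (j x')) +
        ((l : V ≃ₗ[K] V) (j x') - j ((ρ ⟨l, hl⟩ : X ≃ₗ[K] X) x')) =
        j ((ρ ⟨x⁻¹ * l * x, hg⟩ : X ≃ₗ[K] X) x') - j ((ρ ⟨l, hl⟩ : X ≃ₗ[K] X) x') := by abel
    rw [← e5]
    exact h3
  exact sub_eq_zero.1 (Cmp_inj h e4)

open Classical in
/-- **the opposite pairs** -/
theorem sum_opp (h : Cmp F F' j W₀) [FiniteDimensional K V] [FiniteDimensional K X] [Finite V] [Finite K]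
    {c : GL (Fin k) K → ℂ} (hc : IsIrrCharacter _ c) (hdual : c ∘ F.iota k = c)
    {ρ : stabW F.iso.subtype W₀ →* F'.iso}
    (hρ1 : ∀ (g : stabW F.iso.subtype W₀) x, ((g : F.iso) : V ≃ₗ[K] V) (j x) - j ((ρ g : X ≃ₗ[K] X) x) ∈ W₀)
    (hρ2 : ∀ g : stabW F.iso.subtype W₀, (g : F.iso) ∈ F.TT W₀ → ρ g = 1)
    (hρ3 : ∀ (a : W₀ ≃ₗ[K] W₀) (b : F'.iso), ∃ g : stabW F.iso.subtype W₀, ρ g = b ∧
        ∀ w : W₀, ((g : F.iso) : V ≃ₗ[K] V) w = a w)
    [Fintype F'.iso] {χ₁ χ₂ : F'.iso → ℂ} (hχ₁ : IsClassFunction _ χ₁) (hχ₂ : IsClassFunction _ χ₂)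
    (hW₀ : W₀ ∈ F.Om k) {W' : Submodule K V} (hW' : W' ∈ F.Om k) (h0 : W₀ ⊓ F.perp W' = ⊥)
    [Fintype (stabW F.iso.subtype W₀)] :
    ∑ t : stabW F.iso.subtype W₀, (flagTerm F.iso.subtype c t W₀ * psf F W₀ (χ₁ ∘ ρ) t W₀) *
        conj (flagTerm F.iso.subtype c t W' * psf F W₀ (χ₂ ∘ ρ) t W') =
      (∑ t : stabW F.iso.subtype W₀,
        (if W'.map (F.iso.subtype (t : F.iso) : V →ₗ[K] V) = W' then (1 : ℂ) else 0)) * classInner χ₁ χ₂ := by
  have hcf := Core.isIrr_isClassFunction hc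
  let L : Subgroup F.iso := stabW F.iso.subtype W₀ ⊓ stabW F.iso.subtype W'
  have hfinV : Finite (V ≃ₗ[K] V) := Finite.of_injective (fun e : V ≃ₗ[K] V => (e : V → V)) DFunLike.coe_injective
  let _ : Fintype ↥(stabW F.iso.subtype W₀ ⊓ stabW F.iso.subtype W') := Fintype.ofFinite _
  let _ : Fintype (GL (Fin k) K) := Fintype.ofFinite _
  have hcl1 : IsClassFunction _ (χ₁ ∘ ρ) := fun g x => by
    have := hχ₁ (ρ g) (ρ x)
    simp only [Function.comp_apply, Function.comp_apply, map_mul, map_mul, map_inv]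
    exact this
  have hcl2 : IsClassFunction _ (χ₂ ∘ ρ) := fun g x => by
    have := hχ₂ (ρ g) (ρ x)
    simp only [Function.comp_apply, Function.comp_apply, map_mul, map_mul, map_inv]
    exact this
  rw [sum_inf_eq (stabW F.iso.subtype W₀) (stabW F.iso.subtype W')
      (fun t => (flagTerm F.iso.subtype c t W₀ * psf F W₀ (χ₁ ∘ ρ) t W₀) *
        conj (flagTerm F.iso.subtype c t W' * psf F W₀ (χ₂ ∘ ρ) t W')) (fun g _ hg => by
        have : flagTerm F.iso.subtype c g W' = 0 := dif_neg hg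
        rw [this, zero_mul, map_zero, mul_zero]),
    sum_inf_eq (stabW F.iso.subtype W₀) (stabW F.iso.subtype W')
      (fun t => (if W'.map (F.iso.subtype (t : F.iso) : V →ₗ[K] V) = W' then (1 : ℂ) else 0))
      (fun g _ hg => if_neg hg)]
  have hcard : ∑ t : ↥(stabW F.iso.subtype W₀ ⊓ stabW F.iso.subtype W'),
      (if W'.map (F.iso.subtype (t : F.iso) : V →ₗ[K] V) = W' then (1 : ℂ) else 0) =
      Nat.card ↥(stabW F.iso.subtype W₀ ⊓ stabW F.iso.subtype W') := by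
    rw [Finset.sum_congr rfl fun t _ => if_pos t.2.2, Finset.sum_const, Finset.card_univ, ← Nat.card_eq_fintype_card,
      nsmul_eq_mul, mul_one]
  rw [hcard]
  obtain ⟨b, b', hb⟩ := exists_dual_basis (F := F) hW₀.2 hW'.2 h0
  obtain ⟨x, hx, hρx⟩ := rho_conj h hρ1 hW₀ hW' h0
  let f : ↥(stabW F.iso.subtype W₀ ⊓ stabW F.iso.subtype W') →* GL (Fin k) K :=
    (glE b).toMonoidHom.comp ((resHom F.iso.subtype W₀).comp (Subgroup.inclusion inf_le_left))
  let g : ↥(stabW F.iso.subtype W₀ ⊓ stabW F.iso.subtype W') →* F'.iso := ρ.comp (Subgroup.inclusion inf_le_left)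
  have hs : ∀ A B, ∃ l, f l = A ∧ g l = B := by
    intro A B
    obtain ⟨a, rfl⟩ := (glE b).surjective A
    obtain ⟨g₀, hg₀, hg₀'⟩ := hρ3 a B
    obtain ⟨u, hu1, hu2, hu3⟩ := unip_trans (F := F) hW₀ (F.Om_map (g₀ : F.iso) W' hW') hW' (opp_map g₀.2 h0) h0
    have huT : u ∈ F.TT W₀ := F.mem_TT_of hW₀.1 hu3
    have h1 : u * (g₀ : F.iso) ∈ stabW F.iso.subtype W₀ := Subgroup.mul_mem _ huT.1 g₀.2
    have h2 : u * (g₀ : F.iso) ∈ stabW F.iso.subtype W' := by
      change W'.map (F.iso.subtype (u * (g₀ : F.iso)) : V →ₗ[K] V) = W'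
      rw [map_mul_apply, hu2]
    refine ⟨⟨u * (g₀ : F.iso), h1, h2⟩, ?_, ?_⟩
    · change glE b (res (F.iso.subtype (u * (g₀ : F.iso))) W₀ _) = glE b a
      congr 1
      ext w
      change (u : V ≃ₗ[K] V) (((g₀ : F.iso) : V ≃ₗ[K] V) w) = _
      rw [hg₀', hu1 _ (a w).2]
    · change ρ ⟨u * (g₀ : F.iso), h1⟩ = B
      have : (⟨u * (g₀ : F.iso), h1⟩ : stabW F.iso.subtype W₀) = ⟨u, huT.1⟩ * g₀ := rfl
      rw [this, map_mul, hρ2 _ huT, one_mul, hg₀]
  rw [← sum_prod_inner f g hs hc χ₁ χ₂]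
  refine Finset.sum_congr rfl fun l _ => ?_
  obtain ⟨hg, hρl⟩ := hρx l l.2.1 l.2.2
  have e1 : flagTerm F.iso.subtype c (l : F.iso) W₀ = c (f l) := by
    rw [flagTerm_of F.iso.subtype c l.2.1, cl_eq hcf b]
    rfl
  have e2 : flagTerm F.iso.subtype c (l : F.iso) W' = c (f l) := by
    rw [flagTerm_of F.iso.subtype c l.2.2, cl_eq hcf b', glE_opp hb l.2.1 l.2.2]
    exact congrFun hdual _
  have e3 : psf F W₀ (χ₁ ∘ ρ) l W₀ = χ₁ (g l) := psf_self hcl1 ⟨(l : F.iso), l.2.1⟩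
  have e4 : psf F W₀ (χ₂ ∘ ρ) l W' = χ₂ (g l) := by
    rw [psf_eq hcl2 hx hg]
    change χ₂ (ρ _) = χ₂ (ρ _)
    rw [hρl]
    rfl
  simp only [e1, e2, e3, e4]

/-- the orthogonality on the common stabiliser, from a subgroup -/
theorem sum_zero_of_sub [Finite V] {A₁ A₂ : F.iso → ℂ} (D : Subgroup F.iso) [Fintype D]
    (h1 : IsCharacter D (fun l => A₁ l)) (h2 : IsCharacter D (fun l => A₂ l)) (L : Subgroup F.iso) (hL : L ≤ D)
    (h : ∀ [Fintype L], ∑ l : L, A₁ l * conj (A₂ l) = 0) : ∑ l : D, A₁ l * conj (A₂ l) = 0 := by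
  classical
  have hfinV : Finite (V ≃ₗ[K] V) := Finite.of_injective (fun e : V ≃ₗ[K] V => (e : V → V)) DFunLike.coe_injective
  let _ : Fintype L := Fintype.ofFinite _
  have h3 := classInner_eq_zero_of_comp (Subgroup.inclusion hL) h1 h2 (by
    rw [Core.classInner_def]
    rw [show (∑ l : L, ((fun l : D => A₁ l) ∘ (Subgroup.inclusion hL)) l *
        conj (((fun l : D => A₂ l) ∘ (Subgroup.inclusion hL)) l)) = 0 from h, mul_zero])
  rw [sum_eq_inner (fun l : D => A₁ l) (fun l : D => A₂ l), h3, mul_zero]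

/-- **the other pairs** -/
theorem sum_rest (h : Cmp F F' j W₀) [FiniteDimensional K V] [FiniteDimensional K X] [Finite V] [Finite K]
    (hk : 2 ≤ k) {c : GL (Fin k) K → ℂ} (hc : IsCharacter _ c) (hcusp : _root_.Cfsg.Agent.H53.HC.IsCusp c)
    {ρ : stabW F.iso.subtype W₀ →* F'.iso}
    (hρ1 : ∀ (g : stabW F.iso.subtype W₀) x, ((g : F.iso) : V ≃ₗ[K] V) (j x) - j ((ρ g : X ≃ₗ[K] X) x) ∈ W₀)
    (hρ2 : ∀ g : stabW F.iso.subtype W₀, (g : F.iso) ∈ F.TT W₀ → ρ g = 1)
    {χ₁ χ₂ θ₁ θ₂ : F'.iso → ℂ} (hχ₁ : IsCharacter _ χ₁) (hχ₂ : IsCharacter _ χ₂)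
    (hθ₁ : IsCharacter _ θ₁) (hθ₂ : IsCharacter _ θ₂)
    (h₁ : ∀ g : F'.iso, χ₁ g + θ₁ g =
      (Nat.card {U : Submodule K X // Mx F' U ∧ U.map (F'.iso.subtype g : X →ₗ[K] X) = U} : ℂ))
    (h₂ : ∀ g : F'.iso, χ₂ g + θ₂ g =
      (Nat.card {U : Submodule K X // Mx F' U ∧ U.map (F'.iso.subtype g : X →ₗ[K] X) = U} : ℂ))
    (hW₀ : W₀ ∈ F.Om k) {W' : Submodule K V} (hW' : W' ∈ F.Om k) (h0 : W₀ ⊓ F.perp W' ≠ ⊥) (hne : W' ≠ W₀)
    [Fintype (stabW F.iso.subtype W₀)] :
    ∑ t : stabW F.iso.subtype W₀, (flagTerm F.iso.subtype c t W₀ * psf F W₀ (χ₁ ∘ ρ) t W₀) *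
        conj (flagTerm F.iso.subtype c t W' * psf F W₀ (χ₂ ∘ ρ) t W') = 0 := by
  classical
  have hcf := Core.isCharacter_isClassFunction hc
  have hfinV : Finite (V ≃ₗ[K] V) := Finite.of_injective (fun e : V ≃ₗ[K] V => (e : V → V)) DFunLike.coe_injective
  let _ : Fintype ↥(stabW F.iso.subtype W₀ ⊓ stabW F.iso.subtype W') := Fintype.ofFinite _
  have hcl1 : IsClassFunction _ (χ₁ ∘ ρ) := Core.isCharacter_isClassFunction (Core.isCharacter_comp ρ hχ₁)
  have hcl2 : IsClassFunction _ (χ₂ ∘ ρ) := Core.isCharacter_isClassFunction (Core.isCharacter_comp ρ hχ₂)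
  rw [sum_inf_eq (stabW F.iso.subtype W₀) (stabW F.iso.subtype W')
      (fun t => (flagTerm F.iso.subtype c t W₀ * psf F W₀ (χ₁ ∘ ρ) t W₀) *
        conj (flagTerm F.iso.subtype c t W' * psf F W₀ (χ₂ ∘ ρ) t W')) (fun g _ hg => by
        have : flagTerm F.iso.subtype c g W' = 0 := dif_neg hg
        rw [this, zero_mul, map_zero, mul_zero])]
  obtain ⟨x, hx⟩ := F.trans_Om hW₀ hW'
  have hxi : W'.map (F.iso.subtype x⁻¹ : V →ₗ[K] V) = W₀ := by
    rw [← hx, ← map_mul_apply, inv_mul_cancel, map_one]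
    exact Submodule.map_id _
  have hconj : ∀ l ∈ stabW F.iso.subtype W', x⁻¹ * l * x ∈ stabW F.iso.subtype W₀ := by
    intro l hl
    have hl1 : W'.map (F.iso.subtype l : V →ₗ[K] V) = W' := hl
    change W₀.map (F.iso.subtype (x⁻¹ * l * x) : V →ₗ[K] V) = W₀
    rw [map_mul_apply, map_mul_apply, hx, hl1, hxi]
  -- the homomorphisms to the small group
  let p₁ : ↥(stabW F.iso.subtype W₀ ⊓ stabW F.iso.subtype W') →* F'.iso := ρ.comp (Subgroup.inclusion inf_le_left)
  let p₂ : ↥(stabW F.iso.subtype W₀ ⊓ stabW F.iso.subtype W') →* F'.iso := ρ.comp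
    { toFun := fun l => ⟨x⁻¹ * (l : F.iso) * x, hconj l l.2.2⟩
      map_one' := by
        apply Subtype.ext
        change x⁻¹ * 1 * x = 1
        group
      map_mul' := fun l m => by
        apply Subtype.ext
        change x⁻¹ * ((l : F.iso) * m) * x = (x⁻¹ * l * x) * (x⁻¹ * m * x)
        group }
  have e1 : ∀ l : ↥(stabW F.iso.subtype W₀ ⊓ stabW F.iso.subtype W'), psf F W₀ (χ₁ ∘ ρ) l W₀ = χ₁ (p₁ l) :=
    fun l => psf_self hcl1 ⟨(l : F.iso), l.2.1⟩
  have e2 : ∀ l : ↥(stabW F.iso.subtype W₀ ⊓ stabW F.iso.subtype W'), psf F W₀ (χ₂ ∘ ρ) l W' = χ₂ (p₂ l) :=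
    fun l => psf_eq hcl2 hx (hconj l l.2.2)
  have c1 : IsCharacter ↥(stabW F.iso.subtype W₀ ⊓ stabW F.iso.subtype W') (fun l => flagTerm F.iso.subtype c l W₀) :=
    isCharacter_cl hc hW₀.2 _ inf_le_left
  have c2 : IsCharacter ↥(stabW F.iso.subtype W₀ ⊓ stabW F.iso.subtype W') (fun l => flagTerm F.iso.subtype c l W') :=
    isCharacter_cl hc hW'.2 _ inf_le_right
  have k1 := Core.isCharacter_mul c1 (Core.isCharacter_comp p₁ hχ₁)
  have k2 := Core.isCharacter_mul c2 (Core.isCharacter_comp p₂ hχ₂)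
  have k1' : IsCharacter ↥(stabW F.iso.subtype W₀ ⊓ stabW F.iso.subtype W')
      (fun l => flagTerm F.iso.subtype c l W₀ * psf F W₀ (χ₁ ∘ ρ) l W₀) := by
    have : (fun l : ↥(stabW F.iso.subtype W₀ ⊓ stabW F.iso.subtype W') =>
        flagTerm F.iso.subtype c l W₀ * psf F W₀ (χ₁ ∘ ρ) l W₀) = _ * _ := funext fun l => by
      rw [e1]
      exact (rfl : _ = ((fun l : ↥(stabW F.iso.subtype W₀ ⊓ stabW F.iso.subtype W') =>
        flagTerm F.iso.subtype c (l : F.iso) W₀) * (χ₁ ∘ p₁)) l)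
    rw [this]
    exact k1
  have k2' : IsCharacter ↥(stabW F.iso.subtype W₀ ⊓ stabW F.iso.subtype W')
      (fun l => flagTerm F.iso.subtype c l W' * psf F W₀ (χ₂ ∘ ρ) l W') := by
    have : (fun l : ↥(stabW F.iso.subtype W₀ ⊓ stabW F.iso.subtype W') =>
        flagTerm F.iso.subtype c l W' * psf F W₀ (χ₂ ∘ ρ) l W') = _ * _ := funext fun l => by
      rw [e2]
      exact (rfl : _ = ((fun l : ↥(stabW F.iso.subtype W₀ ⊓ stabW F.iso.subtype W') =>
        flagTerm F.iso.subtype c (l : F.iso) W') * (χ₂ ∘ p₂)) l)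
    rw [this]
    exact k2
  -- the orthogonal disjoint case
  by_cases hperp : W₀ ≤ F.perp W' ∧ W₀ ⊓ W' = ⊥
  · have hm := sum_max hk hc hcusp hW₀ hW' hperp.1 hperp.2
    have d1 := Core.isCharacter_mul c1 (Core.isCharacter_comp p₁ hθ₁)
    have d2 := Core.isCharacter_mul c2 (Core.isCharacter_comp p₂ hθ₂)
    have f1 : ∀ l : ↥(stabW F.iso.subtype W₀ ⊓ stabW F.iso.subtype W'),
        pm F l W₀ = χ₁ (p₁ l) + θ₁ (p₁ l) := by
      intro l
      rw [h₁]
      exact pm_eq_card h ⟨(l : F.iso), l.2.1⟩ (hρ1 _)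
    have f2 : ∀ l : ↥(stabW F.iso.subtype W₀ ⊓ stabW F.iso.subtype W'),
        pm F l W' = χ₂ (p₂ l) + θ₂ (p₂ l) := by
      intro l
      rw [h₂]
      have e3 := pm_conj x (x⁻¹ * (l : F.iso) * x) W₀
      have e4 : x * (x⁻¹ * (l : F.iso) * x) * x⁻¹ = l := by group
      rw [e4, hx] at e3
      rw [e3]
      exact pm_eq_card h ⟨x⁻¹ * (l : F.iso) * x, hconj l l.2.2⟩ (hρ1 _)
    have hm' : classInner
        (((fun l : ↥(stabW F.iso.subtype W₀ ⊓ stabW F.iso.subtype W') => flagTerm F.iso.subtype c (l : F.iso) W₀) *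
          (χ₁ ∘ p₁)) + ((fun l : ↥(stabW F.iso.subtype W₀ ⊓ stabW F.iso.subtype W') =>
            flagTerm F.iso.subtype c (l : F.iso) W₀) * (θ₁ ∘ p₁)))
        (((fun l : ↥(stabW F.iso.subtype W₀ ⊓ stabW F.iso.subtype W') => flagTerm F.iso.subtype c (l : F.iso) W') *
          (χ₂ ∘ p₂)) + ((fun l : ↥(stabW F.iso.subtype W₀ ⊓ stabW F.iso.subtype W') =>
            flagTerm F.iso.subtype c (l : F.iso) W') * (θ₂ ∘ p₂))) = 0 := by
      rw [classInner_apply]
      rw [← mul_zero ((Nat.card ↥(stabW F.iso.subtype W₀ ⊓ stabW F.iso.subtype W') : ℂ)⁻¹), ← hm]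
      congr 1
      refine Finset.sum_congr rfl fun l _ => ?_
      rw [f1, f2, mul_add, mul_add]
      rfl
    have hz := inner_zero_of_add k1 d1 k2 d2 hm'
    have hz' := sum_eq_inner
      ((fun l : ↥(stabW F.iso.subtype W₀ ⊓ stabW F.iso.subtype W') => flagTerm F.iso.subtype c (l : F.iso) W₀) *
          (χ₁ ∘ p₁))
      ((fun l : ↥(stabW F.iso.subtype W₀ ⊓ stabW F.iso.subtype W') => flagTerm F.iso.subtype c (l : F.iso) W') *
          (χ₂ ∘ p₂))
    rw [hz, mul_zero] at hz'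
    rw [← hz']
    refine Finset.sum_congr rfl fun l _ => ?_
    rw [e1, e2]
    rfl
  -- the other cases
  let ψ : F.iso → Submodule K V → ℂ := fun g W =>
    if W = W₀ then psf F W₀ (χ₁ ∘ ρ) g W else psf F W₀ (χ₂ ∘ ρ) g W
  have hψ0 : ∀ g, ψ g W₀ = psf F W₀ (χ₁ ∘ ρ) g W₀ := fun g => if_pos rfl
  have hψ1 : ∀ g, ψ g W' = psf F W₀ (χ₂ ∘ ρ) g W' := fun g => if_neg hne
  have hT : ∀ {χ : F'.iso → ℂ}, IsCharacter _ χ → ∀ W ∈ F.Om k, ∀ g ∈ F.TT W,
      psf F W₀ (χ ∘ ρ) g W = psf F W₀ (χ ∘ ρ) 1 W := by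
    intro χ hχ W hWk g hg
    have hcl : IsClassFunction _ (χ ∘ ρ) := Core.isCharacter_isClassFunction (Core.isCharacter_comp ρ hχ)
    obtain ⟨x, hx⟩ := F.trans_Om hW₀ hWk
    have h1 := TT_conj hx hg
    have h2 : x⁻¹ * 1 * x ∈ stabW F.iso.subtype W₀ := by
      rw [mul_one, inv_mul_cancel]; exact Subgroup.one_mem _
    rw [psf_eq hcl hx h1.1, psf_eq hcl hx h2]
    change χ (ρ _) = χ (ρ _)
    rw [hρ2 _ (by exact h1)]
    have h3 : (⟨x⁻¹ * 1 * x, h2⟩ : stabW F.iso.subtype W₀) = 1 := by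
      apply Subtype.ext
      change x⁻¹ * 1 * x = 1
      group
    rw [h3, map_one]
  have hψT : ∀ W ∈ F.Om k, ∀ g ∈ F.TT W, ψ g W = ψ 1 W := by
    intro W hWk g hg
    by_cases hW : W = W₀
    · have a1 : ∀ g, ψ g W = psf F W₀ (χ₁ ∘ ρ) g W := fun g => if_pos hW
      rw [a1, a1]
      exact hT hχ₁ W hWk g hg
    · have a1 : ∀ g, ψ g W = psf F W₀ (χ₂ ∘ ρ) g W := fun g => if_neg hW
      rw [a1, a1]
      exact hT hχ₂ W hWk g hg
  have key : F.Van c ψ W₀ W' := by
    by_cases h1 : W₀ ⊓ F.perp W' = W₀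
    · have h1' : W₀ ≤ F.perp W' := inf_eq_left.1 h1
      by_cases h2 : W₀ ⊓ W' = ⊥
      · exact absurd ⟨h1', h2⟩ hperp
      · exact van_case2 hcf hcusp hψT hW₀ hW' h1' h2 hne
    · exact van_case1 hcf hcusp hψT hW₀ hW' h0 h1
  obtain ⟨L, hL1, hL2, hL3⟩ := key
  refine sum_zero_of_sub (F := F) (A₁ := fun l => flagTerm F.iso.subtype c l W₀ * psf F W₀ (χ₁ ∘ ρ) l W₀)
    (A₂ := fun l => flagTerm F.iso.subtype c l W' * psf F W₀ (χ₂ ∘ ρ) l W') _ k1' k2' L (le_inf hL1 hL2) ?_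
  intro _
  rw [← hL3]
  refine Finset.sum_congr rfl fun l _ => ?_
  rw [hψ0, hψ1]

/-- **the inner products** -/
theorem inner_hc_psf (h : Cmp F F' j W₀) [FiniteDimensional K V] [FiniteDimensional K X] [Finite V] [Finite K]
    (hk : 2 ≤ k) {c : GL (Fin k) K → ℂ} (hc : IsIrrCharacter _ c) (hcusp : _root_.Cfsg.Agent.H53.HC.IsCusp c) (hdual : c ∘ F.iota k = c)
    {ρ : stabW F.iso.subtype W₀ →* F'.iso}
    (hρ1 : ∀ (g : stabW F.iso.subtype W₀) x, ((g : F.iso) : V ≃ₗ[K] V) (j x) - j ((ρ g : X ≃ₗ[K] X) x) ∈ W₀)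
    (hρ2 : ∀ g : stabW F.iso.subtype W₀, (g : F.iso) ∈ F.TT W₀ → ρ g = 1)
    (hρ3 : ∀ (a : W₀ ≃ₗ[K] W₀) (b : F'.iso), ∃ g : stabW F.iso.subtype W₀, ρ g = b ∧
        ∀ w : W₀, ((g : F.iso) : V ≃ₗ[K] V) w = a w)
    [Fintype F.iso] [Fintype F'.iso] [Fintype (F.Om k)]
    {χ₁ χ₂ θ₁ θ₂ : F'.iso → ℂ} (hχ₁ : IsCharacter _ χ₁) (hχ₂ : IsCharacter _ χ₂)
    (hθ₁ : IsCharacter _ θ₁) (hθ₂ : IsCharacter _ θ₂)
    (h₁ : ∀ g : F'.iso, χ₁ g + θ₁ g =
      (Nat.card {U : Submodule K X // Mx F' U ∧ U.map (F'.iso.subtype g : X →ₗ[K] X) = U} : ℂ))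
    (h₂ : ∀ g : F'.iso, χ₂ g + θ₂ g =
      (Nat.card {U : Submodule K X // Mx F' U ∧ U.map (F'.iso.subtype g : X →ₗ[K] X) = U} : ℂ))
    (hW₀ : W₀ ∈ F.Om k) :
    classInner (F.hc c (psf F W₀ (χ₁ ∘ ρ))) (F.hc c (psf F W₀ (χ₂ ∘ ρ))) = 2 * classInner χ₁ χ₂ := by
  classical
  have hcc := Core.isIrr_isCharacter hc
  have hcf := Core.isIrr_isClassFunction hc
  have hcl1 : IsClassFunction _ (χ₁ ∘ ρ) := Core.isCharacter_isClassFunction (Core.isCharacter_comp ρ hχ₁)
  have hcl2 : IsClassFunction _ (χ₂ ∘ ρ) := Core.isCharacter_isClassFunction (Core.isCharacter_comp ρ hχ₂)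
  let _ : Fintype (stabW F.iso.subtype W₀) := Fintype.ofFinite _
  have h1 := inner_hc (F := F) (W₀ := W₀) hcf (psf_conj hcl1) (psf_conj hcl2) hW₀
  -- the group acts transitively on the opposites
  let O : Type _ := {W' : F.Om k // W₀ ⊓ F.perp W'.1 = ⊥}
  let _ : Fintype O := Fintype.ofFinite _
  let _ : MulAction (stabW F.iso.subtype W₀) O :=
    { smul := fun g W' => ⟨⟨W'.1.1.map (F.iso.subtype (g : F.iso) : V →ₗ[K] V), F.Om_map _ _ W'.1.2⟩,
        opp_map g.2 W'.2⟩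
      one_smul := fun W' => Subtype.ext (Subtype.ext (Submodule.map_id _))
      mul_smul := fun g g' W' => Subtype.ext (Subtype.ext (map_mul_apply F.iso.subtype (g : F.iso) g' W'.1.1)) }
  obtain ⟨W₁, hW₁, hopp⟩ := F.exists_opp hW₀
  have htr : IsPretransitive (stabW F.iso.subtype W₀) O := by
    refine ⟨fun W W' => ?_⟩
    obtain ⟨u, hu1, hu2, hu3⟩ := unip_trans (F := F) hW₀ W.1.2 W'.1.2 W.2 W'.2
    exact ⟨⟨u, (F.mem_TT_of hW₀.1 hu3).1⟩, Subtype.ext (Subtype.ext hu2)⟩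
  have h2 := sum_fix (P := stabW F.iso.subtype W₀) (O := O) ⟨⟨W₁, hW₁⟩, hopp⟩
  -- split the sum
  have h3 : ∀ W' : F.Om k, ∑ t : stabW F.iso.subtype W₀, (flagTerm F.iso.subtype c t W₀ * psf F W₀ (χ₁ ∘ ρ) t W₀) *
        conj (flagTerm F.iso.subtype c t W'.1 * psf F W₀ (χ₂ ∘ ρ) t W'.1) =
      (if W'.1 = W₀ then (Nat.card (stabW F.iso.subtype W₀) : ℂ) * classInner χ₁ χ₂ else 0) +
      (if W₀ ⊓ F.perp W'.1 = ⊥ then (∑ t : stabW F.iso.subtype W₀,
        (if W'.1.map (F.iso.subtype (t : F.iso) : V →ₗ[K] V) = W'.1 then (1 : ℂ) else 0)) * classInner χ₁ χ₂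
        else 0) := by
    rintro ⟨W', hW'⟩
    have hk0 : W₀ ≠ ⊥ := by
      intro e
      have := hW₀.2
      rw [e, finrank_bot] at this
      omega
    by_cases e0 : W' = W₀
    · have e1 : ¬ W₀ ⊓ F.perp W' = ⊥ := by
        rw [e0, inf_eq_left.2 hW₀.1.le_perp]
        exact hk0
      rw [if_pos e0, if_neg e1, add_zero]
      let b : Basis (Fin k) K W₀ := finBasisOfFinrankEq K W₀ hW₀.2
      let _ : Fintype (GL (Fin k) K) := Fintype.ofFinite _
      let f : stabW F.iso.subtype W₀ →* GL (Fin k) K := (glE b).toMonoidHom.comp (resHom F.iso.subtype W₀)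
      rw [← sum_prod_inner f ρ (fun A B => by
        obtain ⟨a, rfl⟩ := (glE b).surjective A
        obtain ⟨g, hg, hg'⟩ := hρ3 a B
        refine ⟨g, ?_, hg⟩
        change glE b (res (F.iso.subtype (g : F.iso)) W₀ _) = glE b a
        congr 1
        ext w
        exact hg' w) hc χ₁ χ₂]
      refine Finset.sum_congr rfl fun t _ => ?_
      change (flagTerm F.iso.subtype c t W₀ * psf F W₀ (χ₁ ∘ ρ) t W₀) *
        conj (flagTerm F.iso.subtype c t W' * psf F W₀ (χ₂ ∘ ρ) t W') = _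
      have e3 : flagTerm F.iso.subtype c (t : F.iso) W₀ = c (f t) := by
        rw [flagTerm_of F.iso.subtype c t.2, cl_eq hcf b]
        rfl
      simp only [e0, psf_self hcl1, psf_self hcl2, e3]
      rfl
    · rw [if_neg e0, zero_add]
      by_cases e1 : W₀ ⊓ F.perp W' = ⊥
      · rw [if_pos e1]
        exact sum_opp h hc hdual hρ1 hρ2 hρ3 (Core.isCharacter_isClassFunction hχ₁)
          (Core.isCharacter_isClassFunction hχ₂) hW₀ hW' e1
      · rw [if_neg e1]
        exact sum_rest h hk hcc hcusp hρ1 hρ2 hχ₁ hχ₂ hθ₁ hθ₂ h₁ h₂ hW₀ hW' e1 e0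
  rw [Finset.sum_congr rfl fun W' _ => h3 W', Finset.sum_add_distrib] at h1
  have h4 : ∑ W' : F.Om k, (if W'.1 = W₀ then (Nat.card (stabW F.iso.subtype W₀) : ℂ) * classInner χ₁ χ₂ else 0) =
      (Nat.card (stabW F.iso.subtype W₀) : ℂ) * classInner χ₁ χ₂ := by
    rw [Finset.sum_eq_single (⟨W₀, hW₀⟩ : F.Om k)]
    · exact if_pos rfl
    · intro W' _ hW'
      exact if_neg fun e => hW' (Subtype.ext e)
    · intro h; exact absurd (Finset.mem_univ _) h
  have h5 : ∑ W' : F.Om k, (if W₀ ⊓ F.perp W'.1 = ⊥ then (∑ t : stabW F.iso.subtype W₀,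
        (if W'.1.map (F.iso.subtype (t : F.iso) : V →ₗ[K] V) = W'.1 then (1 : ℂ) else 0)) * classInner χ₁ χ₂
        else 0) = (Nat.card (stabW F.iso.subtype W₀) : ℂ) * classInner χ₁ χ₂ := by
    rw [← Finset.sum_filter, Finset.sum_subtype (p := fun W' : F.Om k => W₀ ⊓ F.perp W'.1 = ⊥) _ (fun W' => by simp only [_root_.Finset.mem_filter, _root_.Finset.mem_univ, _root_.true_and])
      (fun W' : F.Om k => (∑ t : stabW F.iso.subtype W₀,
        (if W'.1.map (F.iso.subtype (t : F.iso) : V →ₗ[K] V) = W'.1 then (1 : ℂ) else 0)) * classInner χ₁ χ₂),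
      ← Finset.sum_mul]
    congr 1
    rw [← h2]
    refine Finset.sum_congr rfl fun W' _ => Finset.sum_congr rfl fun t _ => ?_
    by_cases e : W'.1.1.map (F.iso.subtype (t : F.iso) : V →ₗ[K] V) = W'.1.1
    · have e' : t • W' = W' := Subtype.ext (Subtype.ext e)
      rw [if_pos e, if_pos e']
    · have e' : ¬ t • W' = W' := fun e' => e (congrArg (fun z : O => z.1.1) e')
      rw [if_neg e, if_neg e']
  rw [h4, h5] at h1
  have h6 : (Nat.card (stabW F.iso.subtype W₀) : ℂ) ≠ 0 := card_ne_zero'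
  apply mul_left_cancel₀ h6
  rw [h1]
  ring

end Pair

end Cfsg.Agent.H428.HT
end

-- part: H428/HT/Cor
section
/-!
# S4933, unitary primes: the two constituents (helper428)

`two_of_norm`, `isCharacter_hc`; **`exists_two`** : `R(c ⊗ χ) = X₁ + X₂`, `X₁ ≠ X₂` irreducible;
`inner_hc_irr` : the inner products for irreducible `χ₁`, `χ₂`; `inner_hc_one`, `exists_two_one` : `χ = 1`.
-/

set_option autoImplicit false

open scoped ComplexConjugate
open Cfsg

namespace Cfsg.Agent.H428.HT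

open Cfsg.Agent.OddOrderCharacters.Clifford Cfsg.Agent.Characters MulAction Module Cfsg.Agent.H53.HC
open Cfsg.Agent.H477.HC Cfsg.Agent.H477.HC.CForm Cfsg.Agent.H749.Two

universe u v w

/-- a character of norm `2` -/
theorem two_of_norm {G : Type*} [Group G] [Fintype G] {R : G → ℂ} (hR : IsCharacter G R) (h : classInner R R = 2) :
    ∃ X₁ X₂ : IrrCharacter G, X₁ ≠ X₂ ∧ R = (X₁ : G → ℂ) + (X₂ : G → ℂ) := by
  obtain ⟨X, hX, h1, -⟩ := exists_common hR hR (by rw [h]; exact two_ne_zero)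
  have h2 := isCharacter_sub_irr hR hX h1
  obtain ⟨n, hn⟩ := Core.classInner_isNat hR (Core.isIrr_isCharacter hX)
  obtain ⟨m, hm⟩ := Core.classInner_isNat h2 h2
  have h3 : classInner X R = n := by
    rw [← Core.classInner_conj_symm, hn, Complex.conj_natCast]
  have hn0 : n ≠ 0 := by
    rintro rfl
    exact h1 (by rw [hn, Nat.cast_zero])
  have h4 : (m : ℂ) + 2 * n = 3 := by
    rw [← hm, Core.classInner_sub_left, Core.classInner_sub_right, Core.classInner_sub_right, h, hn, h3,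
      Core.classInner_irr_self hX]
    ring
  have h5 : m + 2 * n = 3 := by exact_mod_cast h4
  have hn1 : n = 1 := by omega
  have hm1 : m = 1 := by omega
  rw [hm1, Nat.cast_one] at hm
  have h6 := Core.isIrr_of_classInner_self h2 hm
  refine ⟨⟨X, hX⟩, ⟨R - X, h6⟩, fun e => ?_, ?_⟩
  · have e1 : X = R - X := congrArg Subtype.val e
    have h7 : classInner (R - X) X = 0 := by
      rw [Core.classInner_sub_left, hn, hn1, Core.classInner_irr_self hX, Nat.cast_one, sub_self]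
    rw [← e1, Core.classInner_irr_self hX] at h7
    exact one_ne_zero h7
  · change R = X + (R - X)
    rw [add_sub_cancel]

section Pair

variable {K : Type u} [Field K] {V : Type v} [AddCommGroup V] [Module K V] {X : Type w} [AddCommGroup X] [Module K X]
variable {F : CForm K V} {F' : CForm K X} {j : X →ₗ[K] V} {W₀ : Submodule K V} {k : ℕ}

/-- the Harish-Chandra induced function is a character -/
theorem isCharacter_hc [FiniteDimensional K V] [Fintype F.iso] [Fintype (F.Om k)] {c : GL (Fin k) K → ℂ}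
    (hcf : IsClassFunction _ c) {ψ : F.iso → Submodule K V → ℂ}
    (hψ : ∀ x g W, ψ (x * g * x⁻¹) (W.map (F.iso.subtype x : V →ₗ[K] V)) = ψ g W)
    (hW₀ : W₀ ∈ F.Om k)
    (hch : IsCharacter (stabW F.iso.subtype W₀) (fun g => flagTerm F.iso.subtype c g W₀ * ψ g W₀)) :
    IsCharacter F.iso (F.hc c ψ) := by
  classical
  let _ := subAct F.iso.subtype (F.Om k) F.Om_map
  have : IsPretransitive F.iso (F.Om k) := by
    refine ⟨fun W W' => ?_⟩
    obtain ⟨g, hg⟩ := F.trans_Om hW₀ W.2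
    obtain ⟨g', hg'⟩ := F.trans_Om hW₀ W'.2
    refine ⟨g' * g⁻¹, ?_⟩
    have e1 : g • (⟨W₀, hW₀⟩ : F.Om k) = W := Subtype.ext hg
    have e2 : g' • (⟨W₀, hW₀⟩ : F.Om k) = W' := Subtype.ext hg'
    rw [← e1, mul_smul, inv_smul_smul, e2]
  rw [hc_eq_orbSum F, orbSum_eq_indFun (fun g (W : F.Om k) => flagTerm F.iso.subtype c g W.1 * ψ g W.1)
    (fun x g W => congrArg₂ (· * ·) (flagTerm_conj F.iso.subtype hcf x g W.1) (hψ x g W.1)) ⟨W₀, hW₀⟩]
  refine Cfsg.Agent.S0148.result _ _ ?_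
  let f : stabilizer F.iso (⟨W₀, hW₀⟩ : F.Om k) →* stabW F.iso.subtype W₀ :=
    { toFun := fun g => ⟨g, congrArg Subtype.val (mem_stabilizer_iff.1 g.2)⟩
      map_one' := rfl
      map_mul' := fun _ _ => rfl }
  exact Core.isCharacter_comp f hch

theorem isCharacter_psf [FiniteDimensional K V] [Finite V] {c : GL (Fin k) K → ℂ}
    (hc : IsCharacter _ c) {ρ : stabW F.iso.subtype W₀ →* F'.iso} {χ : F'.iso → ℂ} (hχ : IsCharacter _ χ)
    (hW₀ : W₀ ∈ F.Om k) :
    IsCharacter (stabW F.iso.subtype W₀)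
      (fun g => flagTerm F.iso.subtype c g W₀ * psf F W₀ (χ ∘ ρ) g W₀) := by
  have hcl1 : IsClassFunction _ (χ ∘ ρ) := Core.isCharacter_isClassFunction (Core.isCharacter_comp ρ hχ)
  have h1 := Core.isCharacter_mul (isCharacter_cl (F := F) hc hW₀.2 (stabW F.iso.subtype W₀) le_rfl)
    (Core.isCharacter_comp ρ hχ)
  have h2 : (fun g : stabW F.iso.subtype W₀ => flagTerm F.iso.subtype c g W₀ * psf F W₀ (χ ∘ ρ) g W₀) =
      (fun g : stabW F.iso.subtype W₀ => flagTerm F.iso.subtype c g W₀) * (χ ∘ ρ) := by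
    funext g
    rw [psf_self hcl1]
    rfl
  rw [h2]
  exact h1

/-- **the inner products** for irreducible characters -/
theorem inner_hc_irr (h : Cmp F F' j W₀) [FiniteDimensional K V] [FiniteDimensional K X] [Finite V] [Finite K]
    (hk : 2 ≤ k) {c : GL (Fin k) K → ℂ} (hc : IsIrrCharacter _ c) (hcusp : _root_.Cfsg.Agent.H53.HC.IsCusp c) (hdual : c ∘ F.iota k = c)
    {ρ : stabW F.iso.subtype W₀ →* F'.iso}
    (hρ1 : ∀ (g : stabW F.iso.subtype W₀) x, ((g : F.iso) : V ≃ₗ[K] V) (j x) - j ((ρ g : X ≃ₗ[K] X) x) ∈ W₀)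
    (hρ2 : ∀ g : stabW F.iso.subtype W₀, (g : F.iso) ∈ F.TT W₀ → ρ g = 1)
    (hρ3 : ∀ (a : W₀ ≃ₗ[K] W₀) (b : F'.iso), ∃ g : stabW F.iso.subtype W₀, ρ g = b ∧
        ∀ w : W₀, ((g : F.iso) : V ≃ₗ[K] V) w = a w)
    [Fintype F.iso] [Fintype F'.iso] [Fintype (F.Om k)] [DecidableEq (IrrCharacter F'.iso)]
    (χ₁ χ₂ : IrrCharacter F'.iso)
    (h₁ : ∃ θ : F'.iso → ℂ, IsCharacter _ θ ∧ ∀ g : F'.iso, (χ₁ : F'.iso → ℂ) g + θ g =
      (Nat.card {U : Submodule K X // Mx F' U ∧ U.map (F'.iso.subtype g : X →ₗ[K] X) = U} : ℂ))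
    (h₂ : ∃ θ : F'.iso → ℂ, IsCharacter _ θ ∧ ∀ g : F'.iso, (χ₂ : F'.iso → ℂ) g + θ g =
      (Nat.card {U : Submodule K X // Mx F' U ∧ U.map (F'.iso.subtype g : X →ₗ[K] X) = U} : ℂ))
    (hW₀ : W₀ ∈ F.Om k) :
    classInner (F.hc c (psf F W₀ ((χ₁ : F'.iso → ℂ) ∘ ρ))) (F.hc c (psf F W₀ ((χ₂ : F'.iso → ℂ) ∘ ρ))) =
      if χ₁ = χ₂ then 2 else 0 := by
  obtain ⟨θ₁, hθ₁, e1⟩ := h₁
  obtain ⟨θ₂, hθ₂, e2⟩ := h₂
  rw [inner_hc_psf h hk hc hcusp hdual hρ1 hρ2 hρ3 (Core.isIrr_isCharacter χ₁.2) (Core.isIrr_isCharacter χ₂.2)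
    hθ₁ hθ₂ e1 e2 hW₀]
  by_cases e : χ₁ = χ₂
  · rw [if_pos e, e, Core.classInner_irr_self χ₂.2, mul_one]
  · rw [if_neg e, Core.classInner_irr_ne χ₁.2 χ₂.2 (fun e' => e (Subtype.ext e')), mul_zero]

/-- **the two constituents** -/
theorem exists_two (h : Cmp F F' j W₀) [FiniteDimensional K V] [FiniteDimensional K X] [Finite V] [Finite K]
    (hk : 2 ≤ k) {c : GL (Fin k) K → ℂ} (hc : IsIrrCharacter _ c) (hcusp : _root_.Cfsg.Agent.H53.HC.IsCusp c) (hdual : c ∘ F.iota k = c)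
    {ρ : stabW F.iso.subtype W₀ →* F'.iso}
    (hρ1 : ∀ (g : stabW F.iso.subtype W₀) x, ((g : F.iso) : V ≃ₗ[K] V) (j x) - j ((ρ g : X ≃ₗ[K] X) x) ∈ W₀)
    (hρ2 : ∀ g : stabW F.iso.subtype W₀, (g : F.iso) ∈ F.TT W₀ → ρ g = 1)
    (hρ3 : ∀ (a : W₀ ≃ₗ[K] W₀) (b : F'.iso), ∃ g : stabW F.iso.subtype W₀, ρ g = b ∧
        ∀ w : W₀, ((g : F.iso) : V ≃ₗ[K] V) w = a w)
    [Fintype F.iso] [Fintype F'.iso] [Fintype (F.Om k)] (χ : IrrCharacter F'.iso)
    (h₁ : ∃ θ : F'.iso → ℂ, IsCharacter _ θ ∧ ∀ g : F'.iso, (χ : F'.iso → ℂ) g + θ g =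
      (Nat.card {U : Submodule K X // Mx F' U ∧ U.map (F'.iso.subtype g : X →ₗ[K] X) = U} : ℂ))
    (hW₀ : W₀ ∈ F.Om k) :
    ∃ X₁ X₂ : IrrCharacter F.iso, X₁ ≠ X₂ ∧
      F.hc c (psf F W₀ ((χ : F'.iso → ℂ) ∘ ρ)) = (X₁ : F.iso → ℂ) + (X₂ : F.iso → ℂ) := by
  classical
  have hχ := Core.isIrr_isCharacter χ.2
  have hcl : IsClassFunction _ ((χ : F'.iso → ℂ) ∘ ρ) := Core.isCharacter_isClassFunction (Core.isCharacter_comp ρ hχ)
  refine two_of_norm (isCharacter_hc (Core.isIrr_isClassFunction hc) (psf_conj hcl) hW₀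
    (isCharacter_psf (Core.isIrr_isCharacter hc) hχ hW₀)) ?_
  rw [inner_hc_irr h hk hc hcusp hdual hρ1 hρ2 hρ3 χ χ h₁ h₁ hW₀, if_pos rfl]

end Pair

end Cfsg.Agent.H428.HT
end

-- part: H551/HT/RhoField
section
/-!
# S4933: invariance of `rho_θ`, `θ` of order `p`, under field automorphisms of `p`-power order
-/

set_option autoImplicit false
set_option linter.unusedSectionVars false

open Polynomial Cfsg
open scoped ComplexConjugate

namespace Cfsg.Agent.H551.HT

open Cfsg.Agent.H139.Cusp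

universe u v v' w

attribute [local instance] fintypeHom fintypeSub finite_quot

section field

variable {K : Type u} [Field K] [Finite K]

/-- an automorphism of a finite field is a power map -/
theorem exists_pow_of_ringEquiv {r : ℕ} [hr : Fact r.Prime] [CharP K r] (τ : K ≃+* K) : ∃ s : ℕ, ∀ x, τ x = x ^ r ^ s := by
  let _ : Algebra (ZMod r) K := ZMod.algebra K r
  have hT : (τ : K →+* K).comp (algebraMap (ZMod r) K) = algebraMap (ZMod r) K := Subsingleton.elim _ _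
  let φ : K →ₐ[ZMod r] K := { toRingHom := (τ : K →+* K), commutes' := fun a => congrArg (fun f => f a) hT }
  obtain ⟨i, hi⟩ := (FiniteField.bijective_frobeniusAlgHom_pow (ZMod r) K).2 φ
  refine ⟨i.1, fun x => ?_⟩
  have h1 : φ x = (FiniteField.frobeniusAlgHom (ZMod r) K ^ i.1) x := by rw [← hi]
  have h2 : φ x = τ x := rfl
  rw [← h2, h1, AlgHom.coe_pow, FiniteField.coe_frobeniusAlgHom, pow_iterate, ZMod.card]

theorem pow_eq_of_fixes {r k : ℕ} [hr : Fact r.Prime] [CharP K r] (h : ∀ x : K, x ^ r ^ k = x) :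
    ∃ t, r ^ k = Nat.card K ^ t := by
  have : Fintype K := Fintype.ofFinite K
  obtain ⟨f, -, hf⟩ := FiniteField.card K r
  rw [← Nat.card_eq_fintype_card] at hf
  obtain ⟨γ, hγ⟩ := IsCyclic.exists_ofOrder_eq_natCard (α := Kˣ)
  have hcard : Nat.card Kˣ = r ^ (f : ℕ) - 1 := by rw [Nat.card_units, hf]
  have h1 : γ ^ (r ^ k - 1) = 1 := by
    apply Units.ext
    rw [Units.val_pow_eq_pow_val, Units.val_one]
    apply mul_right_cancel₀ γ.ne_zero
    rw [← pow_succ, Nat.sub_add_cancel (Nat.one_le_pow _ _ hr.1.pos), one_mul]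
    exact h _
  have h2 := orderOf_dvd_of_pow_eq_one h1
  rw [hγ, hcard] at h2
  have h3 := Nat.pow_sub_one_gcd_pow_sub_one r (f : ℕ) k
  rw [Nat.gcd_eq_left h2] at h3
  have h4 : r ^ (f : ℕ) = r ^ Nat.gcd f k := by
    have h5 := Nat.one_le_pow (f : ℕ) _ hr.1.pos
    have h6 := Nat.one_le_pow (Nat.gcd f k) _ hr.1.pos
    omega
  have h5 := Nat.pow_right_injective hr.1.two_le h4
  obtain ⟨t, ht⟩ := Nat.gcd_eq_left_iff_dvd.1 h5.symm
  exact ⟨t, by rw [hf, ← pow_mul, ← ht]⟩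

/-- **Field automorphisms of `p`-power order** are power maps with exponent a power of `q` modulo `p`. -/
theorem exists_exponent {p : ℕ} [hp : Fact p.Prime] (τ : K ≃+* K) {m : ℕ} (hτ : τ ^ p ^ m = 1) :
    ∃ r s t : ℕ, r.Prime ∧ CharP K r ∧ (∀ x, τ x = x ^ r ^ s) ∧ ((r ^ s : ℕ) : ZMod p) = (Nat.card K : ZMod p) ^ t := by
  obtain ⟨r, hr⟩ := CharP.exists K
  have hrp : r.Prime := CharP.char_is_prime K r
  have : Fact r.Prime := ⟨hrp⟩
  obtain ⟨s, hs⟩ := exists_pow_of_ringEquiv (r := r) τ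
  have h1 : ∀ (k : ℕ) (x : K), (τ ^ k) x = x ^ r ^ (s * k) := by
    intro k
    induction k with
    | zero => intro x; rw [pow_zero, mul_zero, pow_zero, pow_one]; rfl
    | succ k ih =>
      intro x
      rw [pow_succ, RingAut.mul_apply, ih, hs, ← pow_mul, ← pow_add, mul_add, mul_one, add_comm]
  have h2 : ∀ x : K, x ^ r ^ (s * p ^ m) = x := by
    intro x
    rw [← h1, hτ]
    rfl
  obtain ⟨t, ht⟩ := pow_eq_of_fixes h2
  refine ⟨r, s, t, hrp, hr, hs, ?_⟩
  have h3 : ((r ^ (s * p ^ m) : ℕ) : ZMod p) = ((Nat.card K ^ t : ℕ) : ZMod p) := by rw [ht]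
  rw [pow_mul] at h3
  push_cast at h3 ⊢
  rw [← h3]
  exact (ZMod.pow_card_pow _).symm

variable {L : Type w} [Field L] [Finite L] [Algebra K L]

/-- **Invariance** of the cuspidal class function under semilinear maps. -/
theorem IsPTheta.semilinear {p : ℕ} [hp : Fact p.Prime] {θ : L →*₀ ℂ} (h : IsPTheta K p 1 θ) (τ : K ≃+* K) {m : ℕ}
    (hτ : τ ^ p ^ m = 1) {V : Type v} [AddCommGroup V] [Module K V] [Finite V]
    {V' : Type v'} [AddCommGroup V'] [Module K V'] [Finite V'] (hV : Module.finrank K V = Module.finrank K L)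
    (e : V ≃+ V') (he : ∀ (c : K) (v : V), e (c • v) = τ c • e v)
    (g : (V →ₗ[K] V)ˣ) {g' : V' →ₗ[K] V'} (hg : ∀ v, g' (e v) = e ((g : V →ₗ[K] V) v)) :
    cusp L θ g' = cusp L θ (g : V →ₗ[K] V) := by
  obtain ⟨r, s, t, hr, hch, hs, ht⟩ := exists_exponent (p := p) τ hτ
  have : Fact r.Prime := ⟨hr⟩
  have hchL : CharP L r := charP_of_injective_algebraMap (algebraMap K L).injective r
  -- the extension
  have hbij : Function.Bijective (iterateFrobenius L r s) :=
    Finite.injective_iff_bijective.1 (iterateFrobenius L r s).injective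
  let σ : L ≃+* L := RingEquiv.ofBijective (iterateFrobenius L r s) hbij
  have hσ : ∀ x, σ x = x ^ r ^ s := fun x => iterateFrobenius_def r s x
  let θ' : L →*₀ ℂ :=
    { toFun := fun x => θ (σ.symm x)
      map_zero' := by rw [map_zero, map_zero]
      map_one' := by rw [map_one, map_one]
      map_mul' := fun x y => by rw [map_mul, map_mul] }
  have hθ' : ∀ x, θ' (σ x) = θ x := fun x => by
    show θ (σ.symm (σ x)) = θ x
    rw [RingEquiv.symm_apply_apply]
  have h1 : cusp L θ' g' = cusp L θ (g : V →ₗ[K] V) :=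
    cusp_semilinear τ e he hg σ (fun c => by rw [hσ, hs, map_pow]) hθ' hV
  rw [← h1]
  -- `θ'` is a Frobenius conjugate of `θ`
  set n := Module.finrank K L with hn
  have hn0 : 0 < n := Module.finrank_pos
  have hq : (Nat.card K : ZMod p) ^ n = 1 := by rw [hn, ← h.ord]; exact pow_orderOf_eq_one _
  have key : ∀ x : L, θ' x = θ (x ^ Nat.card K ^ ((n - t % n) % n)) := by
    intro x
    obtain ⟨y, rfl⟩ := σ.surjective x
    rw [hθ', hσ, ← pow_mul]
    by_cases hy : y = 0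
    · rw [hy, zero_pow (mul_pos (pow_pos hr.pos _) (pow_pos Nat.card_pos _)).ne', map_zero]
    · rw [map_pow]
      have h2 : θ y ^ p = 1 := by
        have := h.pow y hy
        rwa [pow_one] at this
      have h3 : (r ^ s * Nat.card K ^ ((n - t % n) % n)) ≡ 1 [MOD p] := by
        rw [← ZMod.natCast_eq_natCast_iff, Nat.cast_mul, ht, Nat.cast_pow, ← pow_add, Nat.cast_one]
        have h4 : ∃ c, t + (n - t % n) % n = n * c := by
          have h5 := Nat.mod_add_div t n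
          have h6 := Nat.mod_lt t hn0
          rcases Nat.eq_zero_or_pos (t % n) with h7 | h7
          · rw [h7, Nat.sub_zero, Nat.mod_self, add_zero]
            exact Nat.dvd_of_mod_eq_zero h7
          · rw [Nat.mod_eq_of_lt (show n - t % n < n by omega)]
            refine ⟨t / n + 1, ?_⟩
            rw [mul_add, mul_one]
            omega
        obtain ⟨c, hc⟩ := h4
        rw [hc, pow_mul, hq, one_pow]
      rw [pow_eq_pow_of_modEq h3 h2, pow_one]
  have hfin : Finite (V' →ₗ[K] V') := DFunLike.finite _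
  have hV' : Module.finrank K V' = n := by
    have h5 := finrank_semilinear τ e
    rw [h5, hV]
  -- `g'` is a unit
  have hu : IsUnit g' := by
    rw [LinearMap.isUnit_iff_ker_eq_bot, LinearMap.ker_eq_bot']
    intro x hx
    obtain ⟨v, rfl⟩ := e.surjective x
    rw [hg, e.map_eq_zero_iff] at hx
    have h6 : v = 0 := by
      have h7 := congrArg ((g⁻¹ : (V →ₗ[K] V)ˣ) : V →ₗ[K] V) hx
      rw [map_zero, ← Module.End.mul_apply, ← Units.val_mul, inv_mul_cancel] at h7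
      exact h7
    rw [h6, map_zero]
  obtain ⟨g₁, rfl⟩ := hu
  exact (cusp_eq_iff θ θ' hV' h.regular).2 ⟨(n - t % n) % n, Nat.mod_lt _ hn0, key⟩ g₁

open scoped MatrixGroups in
/-- **Invariance** of `psi` under field automorphisms of `p`-power order. -/
theorem IsPTheta.psi_map {p : ℕ} [hp : Fact p.Prime] {θ : L →*₀ ℂ} (h : IsPTheta K p 1 θ) (τ : K ≃+* K) {m : ℕ}
    (hτ : τ ^ p ^ m = 1) {n : ℕ} (hn : Module.finrank K L = n) (A : GL (Fin n) K) :
    psi L θ (Matrix.GeneralLinearGroup.map (τ : K →+* K) A) = psi L θ A := by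
  let e : (Fin n → K) ≃+ (Fin n → K) :=
    { toFun := fun v i => τ (v i)
      invFun := fun v i => τ.symm (v i)
      left_inv := fun v => by funext i; exact τ.symm_apply_apply _
      right_inv := fun v => by funext i; exact τ.apply_symm_apply _
      map_add' := fun v w => by funext i; exact map_add τ _ _ }
  refine h.semilinear τ hτ (V := Fin n → K) (V' := Fin n → K) (finrank_fin_eq hn) e ?_
    (Matrix.GeneralLinearGroup.toLin A) ?_
  · intro c v
    funext i
    exact map_mul τ _ _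
  · intro v
    funext i
    show (Matrix.toLin' ((Matrix.GeneralLinearGroup.map (τ : K →+* K) A : GL (Fin n) K) : Matrix (Fin n) (Fin n) K))
      (e v) i = τ ((Matrix.toLin' (A : Matrix (Fin n) (Fin n) K)) v i)
    rw [Matrix.toLin'_apply, Matrix.toLin'_apply, Matrix.mulVec, Matrix.mulVec, dotProduct, dotProduct, map_sum]
    refine Finset.sum_congr rfl fun j _ => ?_
    rw [map_mul]
    rfl

end field

end Cfsg.Agent.H551.HT
end

-- part: H551/HT/RhoEx
section
/-!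
# S4933: existence of `rho` in the form used by the Harish-Chandra boxes (helper47, helper139)
-/

set_option autoImplicit false

open Polynomial Cfsg
open scoped ComplexConjugate MatrixGroups

namespace Cfsg.Agent.H551.HT

open Cfsg.Agent.H139.Cusp Cfsg.Agent.H53.HC Cfsg.Agent.H477.HC Cfsg.Agent.H317.PQ

universe u

/-- the common part -/
structure Rho (K : Type u) [Field K] (p n : ℕ) (c : IrrCharacter (GL (Fin n) K)) : Prop where
  cusp : _root_.Cfsg.Agent.H53.HC.IsCusp (c : GL (Fin n) K → ℂ)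
  mem : ∀ {M : Ideal AlgInt}, IsPModular p M → c ∈ principalBlock M (GL (Fin n) K)
  mem' : c ∈ B0 p (GL (Fin n) K)
  deg : (c : GL (Fin n) K → ℂ) 1 = ((∏ i ∈ Finset.Ico 1 n, (Nat.card K ^ i - 1) : ℕ) : ℂ)
  ndvd : ¬ p ∣ charDegree (c : GL (Fin n) K → ℂ)
  ne_one : (c : GL (Fin n) K → ℂ) ≠ fun _ => 1
  map : ∀ (τ : K ≃+* K) (m : ℕ), τ ^ p ^ m = 1 → ∀ A : GL (Fin n) K,
    (c : GL (Fin n) K → ℂ) (Matrix.GeneralLinearGroup.map (τ : K →+* K) A) = (c : GL (Fin n) K → ℂ) A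
  conj_iff : Even n → ∀ A : GL (Fin n) K, conj ((c : GL (Fin n) K → ℂ) A) = (c : GL (Fin n) K → ℂ) A

theorem map_id_eq {K : Type u} [Field K] {n : ℕ} (A : GL (Fin n) K) :
    ((Matrix.GeneralLinearGroup.map (RingHom.id K)).comp (invT n)) A = invT n A := by
  ext i j
  rfl

theorem exists_rho (K : Type u) [Field K] [Finite K] {p : ℕ} [hp : Fact p.Prime] (hpK : ¬ p ∣ Nat.card K) {n : ℕ}
    (hn : orderOf (Nat.card K : ZMod p) = n) :
    ∃ c : IrrCharacter (GL (Fin n) K), Rho K p n c ∧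
      (Even n → (c : GL (Fin n) K → ℂ) ∘ ((Matrix.GeneralLinearGroup.map (RingHom.id K)).comp (invT n)) = c) ∧
      (Odd n → p ≠ 2 → (c : GL (Fin n) K → ℂ) ∘ ((Matrix.GeneralLinearGroup.map (RingHom.id K)).comp (invT n)) ≠ c) := by
  classical
  have hu : (Nat.card K : ZMod p) ≠ 0 := by
    rw [Ne, ZMod.natCast_eq_zero_iff]
    exact hpK
  have hn0 : 0 < n := by
    rw [← hn, orderOf_pos_iff, isOfFinOrder_iff_pow_eq_one]
    exact ⟨p - 1, by have := hp.1.two_le; omega, ZMod.pow_card_sub_one_eq_one hu⟩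
  obtain ⟨L, _, _, _, hL⟩ := exists_L K n hn0
  obtain ⟨θ, h⟩ := exists_theta_p K L hpK (hn.trans hL.symm)
  have hfin : Finite (GL (Fin n) K) := inferInstance
  have hft : Fintype (GL (Fin n) K) := Fintype.ofFinite _
  have hone := h.psi_one hL
  refine ⟨⟨psi L θ, h.psi_isIrr hL⟩, ⟨psi_isCusp L θ, fun hM => h.psi_mem_principalBlock' hL hM,
    fun M hM => h.psi_mem_principalBlock' hL hM, ?_, ?_, ?_, fun τ m hτ A => h.psi_map τ hτ hL A,
    fun he A => h.psi_conj_even hL he A⟩, ?_, ?_⟩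
  · show psi L θ 1 = _
    rw [hone.1, degP_eq_Ico]
  · have h2 : charDegree (psi L θ : GL (Fin n) K → ℂ) = degP (Nat.card K) n :=
      Blocks.Basic.charDegree_of_eq hone.1
    show ¬ p ∣ charDegree (psi L θ : GL (Fin n) K → ℂ)
    rw [h2]
    exact hone.2
  · intro h1
    have h2 := h.psi_inner_one' hL
    have h3 : classInner (psi L θ : GL (Fin n) K → ℂ) (fun _ => 1) = 1 := by
      have h4 := Characters.Core.classInner_irr_self (h.psi_isIrr hL)
      have h5 : (psi L θ : GL (Fin n) K → ℂ) = fun _ => 1 := h1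
      rw [h5] at h4
      rw [h5]
      exact h4
    rw [h2] at h3
    exact zero_ne_one h3
  · intro he
    funext A
    show psi L θ (((Matrix.GeneralLinearGroup.map (RingHom.id K)).comp (invT n)) A) = psi L θ A
    rw [map_id_eq, psi_invT θ hL]
    exact h.psi_conj_even hL he A
  · intro ho hp2 h1
    have h2 : ∀ A : GL (Fin n) K, psi L θ A⁻¹ = psi L θ A := by
      intro A
      have h3 := congrFun h1 A
      change psi L θ (((Matrix.GeneralLinearGroup.map (RingHom.id K)).comp (invT n)) A) = psi L θ A at h3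
      rw [map_id_eq, psi_invT θ hL] at h3
      rw [← h3]
      have h4 := cusp_inv (V := Fin n → K) θ (finrank_fin_eq hL) (Matrix.GeneralLinearGroup.toLin A)
      rw [← map_inv] at h4
      exact h4
    have h3 := h.psi_inner_odd hL hp2 ho
    simp only [h2] at h3
    rw [Characters.Core.classInner_irr_self (h.psi_isIrr hL)] at h3
    exact one_ne_zero h3

end Cfsg.Agent.H551.HT
end

-- part: H195/HT/Const
section
/-!
# The characters of a dual polar scheme are constituents of multiplicity one (helper195, for S4933, box C2)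

* `mult_le_one'` : if all pairs of points of the transitive `G`-set `X` can be swapped then every irreducible character
  has multiplicity `≤ 1` in the permutation character;
* `mult_one` : hence `classInner π χ = 1` if `χ g = ∑ x, f x (g • x)`;
* `DP.chi` : the `j`-th character of a dual polar scheme: irreducible, degree, values, `χ + θ = π`, `classInner π χ = 1`.
-/

set_option autoImplicit false
set_option linter.unusedSectionVars false

open scoped ComplexConjugate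
open Cfsg

namespace Cfsg.Agent.H195.HT

open Cfsg.Agent.Characters.Core MulAction

universe u v

section Abs

variable {G : Type u} [Group G]

theorem sum_of_inv [Fintype G] (P : Subgroup G) [Fintype P] (h : ∀ g : G, ∃ a ∈ P, ∃ b ∈ P, g⁻¹ = a * g * b)
    {χ : G → ℂ} (hχ : IsIrrCharacter G χ) :
    ∑ g : P, χ g = 0 ∨ ∑ g : P, χ g = Nat.card P := by
  have h1 := H466.T3.Gelfand.mult_le_one P.subtype (1 : P →* ℂˣ) (fun g => g⁻¹) (Equiv.inv P)
    (fun x y => mul_inv_rev x y) (fun a => rfl) (fun a => rfl) (fun g => by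
      obtain ⟨a, ha, b, hb, e⟩ := h g
      exact Or.inl ⟨⟨a, ha⟩, ⟨b, hb⟩, e, by simp⟩) hχ
  have h2 : classInner (χ ∘ P.subtype) (fun a : P => (((1 : P →* ℂˣ) a : ℂˣ) : ℂ)) =
      (Nat.card P : ℂ)⁻¹ * ∑ g : P, χ g := by
    rw [classInner_def]
    congr 1
    refine Finset.sum_congr rfl fun g _ => ?_
    simp
  have h3 : (Nat.card P : ℂ) ≠ 0 := by exact_mod_cast Nat.card_pos.ne'
  rw [h2] at h1
  rcases h1 with h1 | h1
  · left
    exact (mul_eq_zero.1 h1).resolve_left (inv_ne_zero h3)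
  · right
    field_simp at h1
    exact h1

variable {X : Type v} [MulAction G X]

/-- **Multiplicity one.** `swap` : all pairs of points can be swapped. -/
theorem mult_one [Fintype G] [Finite X] [Nonempty X] (tr : ∀ x y : X, ∃ g : G, g • x = y)
    (swap : ∀ x y : X, ∃ g : G, g • x = y ∧ g • y = x) {χ θ : G → ℂ} (hχ : IsIrrCharacter G χ) (hθ : IsCharacter G θ)
    (h : ∀ g : G, χ g + θ g = (Nat.card {x : X // g • x = x} : ℂ)) :
    classInner (fun g : G => (Nat.card {x : X // g • x = x} : ℂ)) χ = 1 := by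
  classical
  let _ := Fintype.ofFinite X
  set π : G → ℂ := fun g => (Nat.card {x : X // g • x = x} : ℂ) with hπ
  have hπv : ∀ g, π g = ∑ x : X, if g • x = x then 1 else 0 := by
    intro g
    rw [hπ]
    simp only [Finset.sum_boole, Nat.card_eq_fintype_card, Fintype.card_subtype]
  have hG0 : (Nat.card G : ℂ) ≠ 0 := card_ne_zero_complex
  have hX0 : (Nat.card X : ℂ) ≠ 0 := by exact_mod_cast (Nat.card_pos (α := X)).ne'
  -- the multiplicity is `1 + n`
  obtain ⟨n, hn⟩ := classInner_isNat hθ (isIrr_isCharacter hχ)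
  have h1 : classInner π χ = 1 + n := by
    have e : π = χ + θ := funext fun g => (h g).symm
    rw [e, classInner_add_left, classInner_irr_self hχ, hn]
  -- the stabilizers
  have hst : ∀ x : X, ∃ ε : ℕ, ε ≤ 1 ∧ ∑ g : G, (if g • x = x then conj (χ g) else 0) =
      (ε : ℂ) * ((Nat.card G : ℂ) / (Nat.card X : ℂ)) := by
    intro x
    let _ := Fintype.ofFinite (stabilizer G x)
    have hc : (Nat.card (stabilizer G x) : ℂ) = (Nat.card G : ℂ) / (Nat.card X : ℂ) := by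
      have e1 := MulAction.card_orbit_mul_card_stabilizer_eq_card_group G x
      have e2 : orbit G x = Set.univ := by
        ext y
        simp only [Set.mem_univ, iff_true]
        exact tr x y
      have e3 : Fintype.card (orbit G x) = Nat.card X := by
        rw [← Nat.card_eq_fintype_card, e2]
        exact Nat.card_congr (Equiv.Set.univ X)
      rw [e3, ← Nat.card_eq_fintype_card, ← Nat.card_eq_fintype_card] at e1
      rw [eq_div_iff hX0, mul_comm, ← Nat.cast_mul, e1]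
    have hs : ∑ g : G, (if g • x = x then conj (χ g) else 0) = conj (∑ g : stabilizer G x, χ g) := by
      rw [OddOrderCharacters.Clifford.sum_eq_sum_subgroup (stabilizer G x)
        (fun g => if g • x = x then conj (χ g) else 0) (fun g hg => if_neg hg), map_sum]
      exact Finset.sum_congr rfl fun g _ => if_pos (show (g : G) • x = x from g.2)
    have hd : ∀ g : G, ∃ a ∈ stabilizer G x, ∃ b ∈ stabilizer G x, g⁻¹ = a * g * b := by
      intro g
      obtain ⟨k, hk1, hk2⟩ := swap x (g • x)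
      refine ⟨g⁻¹ * k⁻¹, ?_, g⁻¹ * k, ?_, by group⟩
      · rw [mem_stabilizer_iff, mul_smul, inv_smul_eq_iff, inv_smul_eq_iff]
        exact hk2.symm
      · rw [mem_stabilizer_iff, mul_smul, inv_smul_eq_iff]
        exact hk1
    rcases sum_of_inv (stabilizer G x) hd hχ with h2 | h2
    · exact ⟨0, by omega, by rw [hs, h2, map_zero, Nat.cast_zero, zero_mul]⟩
    · exact ⟨1, le_rfl, by rw [hs, h2, Complex.conj_natCast, hc, Nat.cast_one, one_mul]⟩
  choose ε hε1 hε2 using hst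
  have h3 : classInner π χ = (Nat.card X : ℂ)⁻¹ * ∑ x : X, (ε x : ℂ) := by
    rw [classInner_def]
    have e : ∑ g : G, π g * conj (χ g) = ∑ x : X, ∑ g : G, (if g • x = x then conj (χ g) else 0) := by
      rw [Finset.sum_comm]
      refine Finset.sum_congr rfl fun g _ => ?_
      rw [hπv, Finset.sum_mul]
      refine Finset.sum_congr rfl fun x _ => ?_
      rw [ite_mul, one_mul, zero_mul]
    rw [e, Finset.sum_congr rfl fun x _ => hε2 x, ← Finset.sum_mul]
    field_simp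
  have h4 : (1 + n) * Nat.card X = ∑ x : X, ε x := by
    rw [h1] at h3
    have : (((1 + n) * Nat.card X : ℕ) : ℂ) = ((∑ x : X, ε x : ℕ) : ℂ) := by
      push_cast
      rw [h3]
      field_simp
    exact_mod_cast this
  have h5 : ∑ x : X, ε x ≤ Nat.card X := by
    refine (Finset.sum_le_card_nsmul _ _ 1 fun x _ => hε1 x).trans ?_
    rw [Finset.card_univ, Nat.card_eq_fintype_card, smul_eq_mul, mul_one]
  have h6 : 0 < Nat.card X := Nat.card_pos
  have h7 : n = 0 := by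
    by_contra hne
    have : 2 ≤ 1 + n := by omega
    nlinarith only [h4, h5, h6, this]
  rw [h1, h7, Nat.cast_zero, add_zero]

end Abs

section DP

open Cfsg.Agent.H722.DPol Cfsg.Agent.H816.IMEig

variable {G : Type u} [Group G] {X : Type v} [MulAction G X] {d : X → X → ℕ} {m : ℕ}

theorem DR_tr {up dn : ℕ → ℕ} (h : DR G X d m up dn) (x y : X) : ∃ g : G, g • x = y := by
  obtain ⟨g, hg, -⟩ := h.tr x x y y (by rw [(h.diag x x).2 rfl, (h.diag y y).2 rfl])
  exact ⟨g, hg⟩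

theorem DR_swap {up dn : ℕ → ℕ} (h : DR G X d m up dn) (x y : X) : ∃ g : G, g • x = y ∧ g • y = x :=
  h.tr x y y x (h.symm x y)

/-- **Multiplicity one** for a distance transitive action. -/
theorem DR_mult_one {up dn : ℕ → ℕ} [Fintype G] [Fintype X] [Nonempty X] (h : DR G X d m up dn) {χ : G → ℂ}
    (hχ : IsIrrCharacter G χ) {f : X → X → ℂ} (hf : ∀ g : G, χ g = ∑ x : X, f x (g • x)) :
    classInner (fun g : G => (Nat.card {x : X // g • x = x} : ℂ)) χ = 1 := by
  obtain ⟨θ, hθ, e⟩ := H139.HT.exists_theta hχ hf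
  exact mult_one (DR_tr h) (DR_swap h) hχ hθ e

variable {Q s : ℕ}

/-- **The characters of a dual polar scheme**: values, degree, complement in the permutation character, multiplicity. -/
theorem DP_chi [Fintype G] [Fintype X] [Nonempty X] (hQ : 2 ≤ Q) (hs : 1 ≤ s) (hm : 1 ≤ m)
    (h : DP G X d m Q s) {j : ℕ} (hj : j ≤ m) :
    ∃ χ : G → ℂ, IsIrrCharacter G χ ∧ χ 1 = ((ff (Q : ℚ) (s : ℚ) m j : ℚ) : ℂ) ∧
      (∀ g : G, χ g = ((ff (Q : ℚ) (s : ℚ) m j : ℚ) : ℂ) / (Nat.card X : ℂ) *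
        ∑ x, ((om m Q s j (d x (g • x)) : ℚ) : ℂ)) ∧
      (∃ θ : G → ℂ, IsCharacter G θ ∧ ∀ g : G, χ g + θ g = (Nat.card {x : X // g • x = x} : ℂ)) ∧
      classInner (fun g : G => (Nat.card {x : X // g • x = x} : ℂ)) χ = 1 := by
  obtain ⟨χ, h1, h2, h3⟩ := DP.exists_char hQ hs hm h hj
  set F : X → X → ℂ := fun x y => ((ff (Q : ℚ) (s : ℚ) m j : ℚ) : ℂ) / (Nat.card X : ℂ) *
    ((om m Q s j (d x y) : ℚ) : ℂ) with hF
  have h4 : ∀ g : G, χ g = ∑ x : X, F x (g • x) := by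
    intro g
    rw [h3, Finset.mul_sum]
  exact ⟨χ, h1, h2, h3, H139.HT.exists_theta h1 (f := F) h4, DR_mult_one h h1 (f := F) h4⟩

end DP

end Cfsg.Agent.H195.HT
end

-- part: H195/HT/ConstB0
section
/-!
# One character `χ_j` of a dual polar scheme with all its properties (helper195, for S4933, box C2)

`exists_chi` : an irreducible character `χ` with the degree, the values, the complement in the permutation character, the
multiplicity, the invariance, and the membership in the principal block for EVERY `M` (the same `χ`).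
The membership is helper697's `exists_mem` (`H697/HT/DPB0.lean`) for a character given by its values.
-/

set_option autoImplicit false
set_option linter.unusedSectionVars false

open scoped BigOperators
open Cfsg

namespace Cfsg.Agent.H195.HT

open Cfsg.Agent.H722.DPol Finset Cfsg.Agent.H582.Sph Cfsg.Agent.H816.IMEig Cfsg.Agent.Blocks.Fong
open Cfsg.Agent.H697.HT.DPB0

universe u v

variable {G : Type u} [Group G] {X : Type v} [MulAction G X] {d : X → X → ℕ} {m Q s j p : ℕ} {M : Ideal AlgInt}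

/-- the value formula -/
def Vals [Fintype X] (d : X → X → ℕ) (m Q s j : ℕ) (χ : G → ℂ) : Prop :=
  ∀ g : G, χ g = ((ff (Q : ℚ) (s : ℚ) m j : ℚ) : ℂ) / (Nat.card X : ℂ) * ∑ x : X, ((om m Q s j (d x (g • x)) : ℚ) : ℂ)

/-- the values give the invariance -/
theorem Vals.iso [Fintype X] {χ : G → ℂ} (h2 : Vals d m Q s j χ) (γ : G ≃* G) (h : Iso d γ) (g : G) :
    χ (γ g) = χ g := by
  obtain ⟨π, hπ1, hπ2⟩ := h
  rw [h2, h2]
  congr 1
  rw [← Equiv.sum_comp π]
  refine Finset.sum_congr rfl fun x _ => ?_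
  rw [← hπ1, hπ2]

/-- the values give the membership in the principal block (helper697's proof) -/
theorem Vals.mem [Finite G] [Fintype X] [Nonempty X] (hM : IsPModular p M) (hQ : 2 ≤ Q) (hs : 1 ≤ s)
    (h : DP G X d m Q s) (hj : j ≤ m) (χ : IrrCharacter G) (h2 : Vals d m Q s j (χ : G → ℂ)) (e : ℕ)
    (hc : ∀ i < e, (p : ℤ) ∣ PP (Q : ℤ) (s : ℤ) m j i - PP (Q : ℤ) (s : ℤ) m 0 i) (hI : Ines1 p e G d) :
    χ ∈ principalBlock M G := by
  classical
  have hp := hM.2.1.isPrime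
  have hQ' : (1 : ℚ) < Q := by exact_mod_cast hQ
  have hs' : (0 : ℚ) < s := by exact_mod_cast hs
  have hff : ff (Q : ℚ) (s : ℚ) m j ≠ 0 := (ff_pos hQ' hs' hj).ne'
  have hX0 : (Nat.card X : ℂ) ≠ 0 := by exact_mod_cast (Nat.card_pos (α := X)).ne'
  refine mem_principal_of_sph' (ω := fun u : Fin (m + 1) => ((om m Q s j u : ℚ) : ℂ)) hM h.toCol χ
    (a := ((ff (Q : ℚ) (s : ℚ) m j : ℚ) : ℂ) / (Nat.card X : ℂ)) ?_ ?_ ?_ ?_
  · exact div_ne_zero (by exact_mod_cast hff) hX0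
  · show ((om m Q s j 0 : ℚ) : ℂ) = 1
    rw [om_zero]
    norm_num
  · exact h2
  · intro x u
    have hu : (u : ℕ) ≤ m := Nat.le_of_lt_succ u.2
    have e1 : ((Col.kk h.col x u : ℕ) : ℚ) = PP (Q : ℚ) (s : ℚ) m 0 u := DP.kk_eq hQ hs h x u
    have e2 : (Col.kk h.col x u : ℂ) * ((om m Q s j u : ℚ) : ℂ) - (Col.kk h.col x u : ℂ) =
        (((PP (Q : ℤ) (s : ℤ) m j u - PP (Q : ℤ) (s : ℤ) m 0 u : ℤ) : AlgInt) : ℂ) := by
      have e3 : ((Col.kk h.col x u : ℕ) : ℚ) * om m Q s j u - ((Col.kk h.col x u : ℕ) : ℚ) =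
          ((PP (Q : ℤ) (s : ℤ) m j u - PP (Q : ℤ) (s : ℤ) m 0 u : ℤ) : ℚ) := by
        rw [Int.cast_sub, PP_castQ, PP_castQ, e1]
        unfold om
        have := (val_pos hQ' hs' hu).ne'
        field_simp
      have e4 := congrArg (fun r : ℚ => (r : ℂ)) e3
      push_cast at e4 ⊢
      exact e4
    rw [e2]
    rcases Nat.lt_or_ge (u : ℕ) e with hlt | hge
    · left
      obtain ⟨k, hk⟩ := hc u hlt
      rw [lideal_coe_iff hp, hk]
      push_cast
      exact M.mul_mem_right _ hM.2.2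
    · right
      refine ⟨lring_coe hp _, ?_⟩
      intro x' y' hxy
      refine hI x' y' ?_
      have := congrArg Fin.val hxy
      change d x' y' = (u : ℕ) at this
      omega

/-- **All properties of the `j`-th character** of a dual polar scheme. -/
structure Chi (G : Type u) [Group G] [Fintype G] (X : Type v) [MulAction G X] [Fintype X] (d : X → X → ℕ)
    (m Q s j : ℕ) (χ : IrrCharacter G) : Prop where
  /-- the degree, and the invariance under the isometries -/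
  isChi : IsChi d m Q s j (χ : G → ℂ)
  /-- the values -/
  vals : Vals (X := X) d m Q s j (χ : G → ℂ)
  /-- the complement in the permutation character -/
  theta : ∃ θ : G → ℂ, IsCharacter G θ ∧ ∀ g : G, (χ : G → ℂ) g + θ g = (Nat.card {x : X // g • x = x} : ℂ)
  /-- the multiplicity in the permutation character -/
  mult : classInner (fun g : G => (Nat.card {x : X // g • x = x} : ℂ)) (χ : G → ℂ) = 1
  /-- the principal block -/
  mem : ∀ (p : ℕ) (M : Ideal AlgInt) (e : ℕ), IsPModular p M →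
    (∀ i < e, (p : ℤ) ∣ PP (Q : ℤ) (s : ℤ) m j i - PP (Q : ℤ) (s : ℤ) m 0 i) → Ines1 p e G d →
    χ ∈ principalBlock M G

/-- **The `j`-th character.** -/
theorem exists_chi [Fintype G] [Fintype X] [Nonempty X] (hQ : 2 ≤ Q) (hs : 1 ≤ s) (hm : 1 ≤ m)
    (h : DP G X d m Q s) (hj : j ≤ m) : ∃ χ : IrrCharacter G, Chi G X d m Q s j χ := by
  obtain ⟨χ, h1, h2, h3, h4, h5⟩ := DP_chi hQ hs hm h hj
  have hv : Vals d m Q s j χ := h3
  exact ⟨⟨χ, h1⟩, ⟨h2, hv.iso⟩, hv, h4, h5, fun p M e hM hc hI => Vals.mem hM hQ hs h hj ⟨χ, h1⟩ hv e hc hI⟩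

section mem

variable [Fintype G] [Fintype X] [Nonempty X] {χ : IrrCharacter G}

/-- the character is unique -/
theorem Chi.unique {χ' : IrrCharacter G} (h : Chi G X d m Q s j χ) (h' : Chi G X d m Q s j χ') : χ = χ' := by
  refine Subtype.ext (funext fun g => ?_)
  rw [h.vals g, h'.vals g]

/-- **Unitary primes**: `Q ^ c = -1`, `Q ^ j = 1` modulo `p`. -/
theorem Chi.mem_unitary (hχ : Chi G X d m Q s j χ) (h : DP G X d m Q s) (hM : IsPModular p M) {t : ℕ}
    (hs : s = Q ^ t) (hj : j ≤ m) {c : ℕ} (hc : (Q : ZMod p) ^ c = -1) (hQj : (Q : ZMod p) ^ j = 1) :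
    χ ∈ principalBlock M G := by
  have : Fact p.Prime := ⟨hM.1⟩
  refine hχ.mem p M (m + 1) hM (fun i _ => dvd_unitary hs hc hj hQj i) fun x y hxy => ?_
  have := h.le x y
  omega

end mem

end Cfsg.Agent.H195.HT
end

-- part: H195/HT/Frob
section
/-!
# Frobenius reciprocity for a permutation character (helper195, for S4933)

`inner_stab` : `X` transitive, `H` the stabiliser of `x`: `[χ|H, 1] = conj [π, χ]`; `inner_stab_one` : if `[π, χ] = 1` then
`[χ|H, 1] = 1`.
-/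

set_option autoImplicit false
set_option linter.unusedSectionVars false

open scoped ComplexConjugate
open Cfsg

namespace Cfsg.Agent.H195.HT

open Cfsg.Agent.Characters.Core MulAction

universe u v

variable {G : Type u} [Group G] {X : Type v} [MulAction G X]

theorem inner_stab [Fintype G] [Finite X] (tr : ∀ x y : X, ∃ g : G, g • x = y) {χ : G → ℂ}
    (hχ : ∀ g k : G, χ (k * g * k⁻¹) = χ g) (x : X) (H : Subgroup G) [Fintype H] (hH : ∀ g, g ∈ H ↔ g • x = x) :
    classInner (fun h : H => χ h) (fun _ => (1 : ℂ)) =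
      conj (classInner (fun g : G => (Nat.card {x : X // g • x = x} : ℂ)) χ) := by
  classical
  let _ := Fintype.ofFinite X
  have hne : Nonempty X := ⟨x⟩
  have hG0 : (Nat.card G : ℂ) ≠ 0 := card_ne_zero_complex
  have hX0 : (Nat.card X : ℂ) ≠ 0 := by exact_mod_cast (Nat.card_pos (α := X)).ne'
  have hH0 : (Nat.card H : ℂ) ≠ 0 := card_ne_zero_complex
  have hHs : H = stabilizer G x := by
    ext g
    rw [hH, mem_stabilizer_iff]
  have hc : (Nat.card G : ℂ) = Nat.card X * Nat.card H := by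
    have e1 := MulAction.card_orbit_mul_card_stabilizer_eq_card_group G x
    have e2 : orbit G x = Set.univ := by
      ext y
      simp only [Set.mem_univ, iff_true]
      exact tr x y
    have e3 : Fintype.card (orbit G x) = Nat.card X := by
      rw [← Nat.card_eq_fintype_card, e2]
      exact Nat.card_congr (Equiv.Set.univ X)
    rw [e3, ← Nat.card_eq_fintype_card, ← Nat.card_eq_fintype_card, ← hHs] at e1
    rw [← Nat.cast_mul, e1]
  have hπv : ∀ g : G, (Nat.card {x : X // g • x = x} : ℂ) = ∑ x : X, if g • x = x then 1 else 0 := by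
    intro g
    simp only [Finset.sum_boole, Nat.card_eq_fintype_card, Fintype.card_subtype]
  have hS : ∀ y : X, ∑ g : G, (if g • y = y then conj (χ g) else 0) = conj (∑ h : H, χ h) := by
    intro y
    obtain ⟨k, rfl⟩ := tr x y
    rw [← Equiv.sum_comp (MulAut.conj k).toEquiv]
    have e1 : ∀ g : G, (if (MulAut.conj k).toEquiv g • k • x = k • x then conj (χ ((MulAut.conj k).toEquiv g)) else 0) =
        if g • x = x then conj (χ g) else 0 := by
      intro g
      have e2 : (MulAut.conj k).toEquiv g = k * g * k⁻¹ := rfl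
      rw [e2, hχ, mul_smul, inv_smul_smul, mul_smul]
      simp only [smul_left_cancel_iff]
    rw [Finset.sum_congr rfl fun g _ => e1 g, OddOrderCharacters.Clifford.sum_eq_sum_subgroup H
      (fun g => if g • x = x then conj (χ g) else 0) (fun g hg => if_neg fun h => hg ((hH g).2 h)), map_sum]
    exact Finset.sum_congr rfl fun g _ => if_pos ((hH g).1 g.2)
  have h3 : classInner (fun g : G => (Nat.card {x : X // g • x = x} : ℂ)) χ =
      (Nat.card H : ℂ)⁻¹ * conj (∑ h : H, χ h) := by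
    rw [classInner_def]
    have e : ∑ g : G, (Nat.card {x : X // g • x = x} : ℂ) * conj (χ g) =
        ∑ y : X, ∑ g : G, (if g • y = y then conj (χ g) else 0) := by
      rw [Finset.sum_comm]
      refine Finset.sum_congr rfl fun g _ => ?_
      rw [hπv, Finset.sum_mul]
      refine Finset.sum_congr rfl fun x _ => ?_
      rw [ite_mul, one_mul, zero_mul]
    rw [e, Finset.sum_congr rfl fun y _ => hS y, Finset.sum_const, Finset.card_univ, ← Nat.card_eq_fintype_card,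
      nsmul_eq_mul, hc]
    field_simp
  rw [h3, map_mul, map_inv₀, Complex.conj_natCast, Complex.conj_conj, classInner_def]
  congr 1
  exact Finset.sum_congr rfl fun h _ => by rw [map_one, mul_one]

/-- **the restriction to the stabiliser contains the trivial character once** -/
theorem inner_stab_one [Fintype G] [Finite X] (tr : ∀ x y : X, ∃ g : G, g • x = y) {χ : G → ℂ}
    (hχ : IsCharacter G χ) (h1 : classInner (fun g : G => (Nat.card {x : X // g • x = x} : ℂ)) χ = 1)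
    (x : X) (H : Subgroup G) [Fintype H] (hH : ∀ g, g ∈ H ↔ g • x = x) :
    classInner (fun h : H => χ h) (fun _ => (1 : ℂ)) = 1 := by
  rw [inner_stab tr (fun g k => by
    obtain ⟨n, ρ, rfl⟩ := hχ
    exact Representation.char_conj ρ g k) x H hH, h1, map_one]

end Cfsg.Agent.H195.HT
end

-- part: H35/HT/Wm
section
/-!
# Weights `w = -1` modulo `p`, unitary primes: the character of the smaller group (helper35)

`split_sp`, `split_plus`, `split_minus` : the rank is `m = 2 c + n`, `0 < n`, the weight of rank `n` is `w - 2`.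
`k_sp`, `k_plus`, `k_minus` : the index `j = c k`, `k` even, of a character of the dual polar scheme of rank `n` whose
degree has `1 ≤ v ≤ 2`, `v = 1` if `w < 2 p`.
-/

set_option autoImplicit false
set_option linter.unusedSectionVars false

namespace Cfsg.Agent.H35.HT.Wm

open Finset Cfsg.Agent.H35.HT.Val Cfsg.Agent.H35.HT.Idx Cfsg.Agent.H722.DPol

variable {p : ℕ} [hp : Fact p.Prime] {Q c : ℕ}

theorem three_le (hp1 : Odd p) : 3 ≤ p := by
  have h1 := hp.out.two_le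
  rcases Nat.lt_or_ge 2 p with h | h
  · omega
  · obtain rfl : p = 2 := by omega
    exact absurd hp1 (by decide)

/-- Bounds. -/
theorem low (hp1 : Odd p) {w : ℕ} (h1 : p ≤ w + 2) (h2 : w + 2 < p ^ 2) (h3 : p ∣ w + 2 + 1) :
    p ≤ w ∧ w < p ^ 2 ∧ ¬ p ∣ w + 1 := by
  have hp3 := three_le hp1
  obtain ⟨e, he⟩ := h3
  have he2 : 2 ≤ e := by
    by_contra h
    have : p * e ≤ p * 1 := Nat.mul_le_mul_left _ (by omega)
    omega
  have h4 : p * 2 ≤ p * e := Nat.mul_le_mul_left _ he2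
  refine ⟨by omega, by omega, fun h5 => ?_⟩
  have h6 : p ∣ 2 := (Nat.dvd_add_right h5).1 ⟨e, by omega⟩
  exact absurd (Nat.le_of_dvd (by norm_num) h6) (by omega)

theorem mul_le_of {m d : ℕ} (hd : 0 < d) (h : 3 ≤ m / d) : 3 * d ≤ m := (Nat.le_div_iff_mul_le hd).1 h

theorem split_sp (hp1 : Odd p) (hc0 : 0 < c) {m : ℕ} (h1 : p ≤ wSp c m) : ∃ n, m = 2 * c + n ∧ 0 < n := by
  have hp3 := three_le hp1
  have h2 : 3 * c ≤ m := mul_le_of hc0 (hp3.trans h1)
  exact ⟨m - 2 * c, by omega, by omega⟩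

theorem split_plus (hp1 : Odd p) (hc0 : 0 < c) {m : ℕ} (h1 : p ≤ wPlus c m) : ∃ n, m = 2 * c + n ∧ 0 < n := by
  have h2 : wPlus c m ≤ m / c := by
    unfold wPlus
    split_ifs
    exacts [Nat.sub_le _ _, le_rfl]
  exact split_sp hp1 hc0 (h1.trans h2)

theorem split_minus (hp1 : Odd p) (hc0 : 0 < c) {m : ℕ} (h1 : p ≤ wMinus c m) : ∃ n, m = 2 * c + n ∧ (2 ≤ c → 0 < n) := by
  have hp3 := three_le hp1
  have h2 : wMinus c m ≤ (m + 1) / c := by
    unfold wMinus
    split_ifs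
    exacts [Nat.sub_le _ _, le_rfl]
  have h3 : 3 * c ≤ m + 1 := mul_le_of hc0 (hp3.trans (h1.trans h2))
  exact ⟨m - 2 * c, by omega, by omega⟩

/-- the properties of the character -/
def Ok (p Q n t : ℕ) (b : Prop) : Prop :=
  ∃ j v : ℕ, 0 < j ∧ j ≤ n ∧ (Q : ZMod p) ^ j = 1 ∧
    padicValRat p (ff (Q : ℚ) ((Q : ℚ) ^ t) n j) = v ∧ 1 ≤ v ∧ v ≤ 2 ∧ (b → v = 1)

theorem ok_of (hd : orderOf (Q : ZMod p) = 2 * c) (hc0 : 0 < c) {n t : ℕ} {b b' : Prop} (hb : b → b')
    (h : ∃ k, Even k ∧ 0 < k ∧ c * k ≤ n ∧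
      1 ≤ padicValRat p (ff (Q : ℚ) ((Q : ℚ) ^ t) n (c * k)) ∧
      padicValRat p (ff (Q : ℚ) ((Q : ℚ) ^ t) n (c * k)) ≤ 2 ∧
      (b' → padicValRat p (ff (Q : ℚ) ((Q : ℚ) ^ t) n (c * k)) = 1)) : Ok p Q n t b := by
  obtain ⟨k, hk, hk0, hkn, h1, h2, h3⟩ := h
  obtain ⟨v, hv⟩ := Int.eq_ofNat_of_zero_le (zero_le_one.trans h1)
  rw [hv] at h1 h2 h3
  refine ⟨c * k, v, Nat.mul_pos hc0 hk0, hkn, ?_, hv, by exact_mod_cast h1, by exact_mod_cast h2,
    fun h => by exact_mod_cast h3 (hb h)⟩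
  rw [pow_mul, pow_d hd hc0, hk.neg_one_pow]

/-- **Symplectic and odd orthogonal groups.** -/
theorem k_sp (hQ : 2 ≤ Q) (hd : orderOf (Q : ZMod p) = 2 * c) (hc0 : 0 < c) {n : ℕ} (h1 : p ≤ wSp c (2 * c + n))
    (h2 : wSp c (2 * c + n) < p ^ 2) (h3 : p ∣ wSp c (2 * c + n) + 1) :
    Ok p Q n 1 (wSp c (2 * c + n) < 2 * p) := by
  rw [wSp_add hc0] at h1 h2 h3 ⊢
  obtain ⟨h4, h5, h6⟩ := low (odd_of hd hc0) h1 h2 h3
  exact ok_of hd hc0 (fun h => by omega) (exists_sp hQ hd hc0 (w := wSp c n) rfl h4 h5 h6)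

/-- **Orthogonal groups of plus type.** -/
theorem k_plus (hQ : 2 ≤ Q) (hd : orderOf (Q : ZMod p) = 2 * c) (hc0 : 0 < c) {n : ℕ} (h1 : p ≤ wPlus c (2 * c + n))
    (h2 : wPlus c (2 * c + n) < p ^ 2) (h3 : p ∣ wPlus c (2 * c + n) + 1) :
    Ok p Q n 0 (wPlus c (2 * c + n) < 2 * p) := by
  rw [wPlus_add hc0] at h1 h2 h3 ⊢
  obtain ⟨h4, h5, h6⟩ := low (odd_of hd hc0) h1 h2 h3
  exact ok_of hd hc0 (fun h => by omega) (exists_plus hQ hd hc0 (w := wPlus c n) rfl h4 h5 h6)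

/-- **Orthogonal groups of minus type.** -/
theorem k_minus (hQ : 2 ≤ Q) (hd : orderOf (Q : ZMod p) = 2 * c) (hc0 : 2 ≤ c) {n : ℕ} (h1 : p ≤ wMinus c (2 * c + n))
    (h2 : wMinus c (2 * c + n) < p ^ 2) (h3 : p ∣ wMinus c (2 * c + n) + 1) :
    Ok p Q n 2 (wMinus c (2 * c + n) < 2 * p) := by
  have hc0' : 0 < c := by omega
  rw [wMinus_add hc0'] at h1 h2 h3 ⊢
  obtain ⟨h4, h5, h6⟩ := low (odd_of hd hc0') h1 h2 h3
  exact ok_of hd hc0' (fun h => by omega) (exists_minus hQ hd hc0' (w := wMinus c n) rfl h4 h5 h6 (by omega))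

end Cfsg.Agent.H35.HT.Wm
end

-- part: H766/HT/ChiBox
section
/-!
# The characters `χ'` of the dual polar schemes, all properties (helper766, for S4933, box M6)

* `exists_chi` : `F'.iso` acting on `F'.Om m`, dual polar scheme with parameters `q, q ^ t`: the character number `j`:
  principal block, degree, constituent, multiplicity one, restriction to the stabiliser, invariance;
* `exists_wm` : with the arithmetic of helper35 (`Ok`).
-/

set_option autoImplicit false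
set_option linter.unusedSectionVars false

open scoped ComplexConjugate
open Cfsg

namespace Cfsg.Agent.H766.HT

open Cfsg.Agent.Characters Cfsg.Agent.Characters.Core MulAction Module Cfsg.Agent.H53.HC
open Cfsg.Agent.H477.HC Cfsg.Agent.H477.HC.CForm
open Cfsg.Agent.H722.DPol Cfsg.Agent.H697.HT.DPB0 Cfsg.Agent.H139.HT

universe u v w

variable {K : Type u} [Field K] {X : Type w} [AddCommGroup X] [Module K X] {F' : CForm K X}

/-- `F'.Om m` represents the totally singular subspaces -/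
theorem polSet_Om (F' : CForm K X) (m : ℕ) :
    letI := subAct F'.iso.subtype (F'.Om m) F'.Om_map
    PolSet F' m (F'.Om m) Subtype.val (fun x y : F'.Om m => m - finrank K ↥(x.1 ⊓ y.1)) := by
  let _ := subAct F'.iso.subtype (F'.Om m) F'.Om_map
  exact ⟨Subtype.val_injective, fun y => y.2, fun W hW => ⟨⟨W, hW⟩, rfl⟩, fun _ _ => rfl, fun _ _ => rfl⟩

/-- everything about the character number `j` of the dual polar scheme `q, q ^ t` of `F'.iso` -/
structure ChiBox (F' : CForm K X) (m t j : ℕ) (χ : IrrCharacter F'.iso) : Prop where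
  /-- helper195's structure -/
  chi : letI := subAct F'.iso.subtype (F'.Om m) F'.Om_map
    ∀ [Fintype F'.iso] [Fintype (F'.Om m)],
      H195.HT.Chi F'.iso (F'.Om m) (fun x y : F'.Om m => m - finrank K ↥(x.1 ⊓ y.1)) m (Nat.card K) (Nat.card K ^ t) j χ
  /-- the principal block, unitary primes -/
  mem : ∀ (p : ℕ) (M : Ideal AlgInt) (c : ℕ), IsPModular p M → ((Nat.card K : ℕ) : ZMod p) ^ c = -1 →
    ((Nat.card K : ℕ) : ZMod p) ^ j = 1 → χ ∈ principalBlock M F'.iso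
  /-- the degree -/
  deg : (χ : F'.iso → ℂ) 1 = ((ff (Nat.card K : ℚ) ((Nat.card K : ℚ) ^ t) m j : ℚ) : ℂ)
  /-- the complement in the permutation character -/
  theta : letI := subAct F'.iso.subtype (F'.Om m) F'.Om_map
    ∃ θ : F'.iso → ℂ, IsCharacter F'.iso θ ∧
      ∀ g : F'.iso, (χ : F'.iso → ℂ) g + θ g = (Nat.card {x : F'.Om m // g • x = x} : ℂ)
  /-- the multiplicity in the permutation character -/
  mult : letI := subAct F'.iso.subtype (F'.Om m) F'.Om_map
    ∀ [Fintype F'.iso], classInner (fun g : F'.iso => (Nat.card {x : F'.Om m // g • x = x} : ℂ)) (χ : F'.iso → ℂ) = 1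
  /-- the restriction to the stabiliser of a point -/
  stab : ∀ Z ∈ F'.Om m, ∀ [Fintype (stabW F'.iso.subtype Z)],
    classInner (fun g : stabW F'.iso.subtype Z => (χ : F'.iso → ℂ) g) (fun _ => (1 : ℂ)) = 1
  /-- the invariance under all semisimilarities -/
  inv : ∀ τ : K ≃+* K, IsoInv F' τ (χ : F'.iso → ℂ)

/-- **the character `χ_j`** with all its properties -/
theorem exists_chi [Finite K] [FiniteDimensional K X] {m t j : ℕ} (hm : 1 ≤ m) (hne : Nonempty (F'.Om m))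
    (hDP : letI := subAct F'.iso.subtype (F'.Om m) F'.Om_map
      DP F'.iso (F'.Om m) (fun x y : F'.Om m => m - finrank K ↥(x.1 ⊓ y.1)) m (Nat.card K) (Nat.card K ^ t))
    (hj : j ≤ m) : ∃ χ : IrrCharacter F'.iso, ChiBox F' m t j χ := by
  classical
  have hfX : Finite X := Module.finite_of_finite K
  have := finite_iso F'
  have := finite_Om F' m
  let _ := subAct F'.iso.subtype (F'.Om m) F'.Om_map
  let i1 := Fintype.ofFinite (F'.Om m)
  let i2 := Fintype.ofFinite F'.iso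
  obtain ⟨χ, hχ⟩ := H195.HT.exists_chi (G := F'.iso) (X := F'.Om m) Finite.one_lt_card
    (Nat.one_le_pow _ _ Nat.card_pos) hm hDP hj
  refine ⟨χ, ?_, ?_, ?_, hχ.theta, ?_, ?_, fun τ => (polSet_Om F' m).isoInv hχ.isChi τ⟩
  · intro j1 j2
    obtain rfl := Subsingleton.elim j1 i2
    obtain rfl := Subsingleton.elim j2 i1
    exact hχ
  · intro p M c hM hc hQj
    exact hχ.mem_unitary hDP hM rfl hj hc hQj
  · have := hχ.isChi.1
    rw [this]
    push_cast
    rfl
  · intro j1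
    obtain rfl := Subsingleton.elim j1 i2
    exact hχ.mult
  · intro Z hZ inst
    exact H195.HT.inner_stab_one (fun x y => H195.HT.DR_tr hDP x y) (isIrr_isCharacter χ.2) hχ.mult (⟨Z, hZ⟩ : F'.Om m)
      (stabW F'.iso.subtype Z) (fun g => by
        rw [mem_stabW]
        exact ⟨fun h => Subtype.ext h, fun h => congrArg Subtype.val h⟩)

/-- weights `w = -1` modulo `p`: the properties of the character of the smaller group -/
structure WmBox (p : ℕ) (F' : CForm K X) (m : ℕ) (b : Prop) (χ : IrrCharacter F'.iso) : Prop where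
  mem : ∀ M : Ideal AlgInt, IsPModular p M → χ ∈ principalBlock M F'.iso
  theta : letI := subAct F'.iso.subtype (F'.Om m) F'.Om_map
    ∃ θ : F'.iso → ℂ, IsCharacter F'.iso θ ∧
      ∀ g : F'.iso, (χ : F'.iso → ℂ) g + θ g = (Nat.card {x : F'.Om m // g • x = x} : ℂ)
  mult : letI := subAct F'.iso.subtype (F'.Om m) F'.Om_map
    ∀ [Fintype F'.iso], classInner (fun g : F'.iso => (Nat.card {x : F'.Om m // g • x = x} : ℂ)) (χ : F'.iso → ℂ) = 1
  stab : ∀ Z ∈ F'.Om m, ∀ [Fintype (stabW F'.iso.subtype Z)],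
    classInner (fun g : stabW F'.iso.subtype Z => (χ : F'.iso → ℂ) g) (fun _ => (1 : ℂ)) = 1
  inv : ∀ τ : K ≃+* K, IsoInv F' τ (χ : F'.iso → ℂ)
  one_le : 1 ≤ H316.HT.vd p (χ : F'.iso → ℂ)
  le_two : H316.HT.vd p (χ : F'.iso → ℂ) ≤ 2
  eq_one : b → H316.HT.vd p (χ : F'.iso → ℂ) = 1
  /-- the full structure -/
  box : ∃ t j : ℕ, 0 < j ∧ j ≤ m ∧ ((Nat.card K : ℕ) : ZMod p) ^ j = 1 ∧ ChiBox F' m t j χ

/-- with helper35's arithmetic -/
theorem exists_wm [Finite K] [FiniteDimensional K X] {p : ℕ} [Fact p.Prime] {m t c : ℕ} {b : Prop}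
    (hne : 1 ≤ m → Nonempty (F'.Om m))
    (hDP : letI := subAct F'.iso.subtype (F'.Om m) F'.Om_map
      1 ≤ m → DP F'.iso (F'.Om m) (fun x y : F'.Om m => m - finrank K ↥(x.1 ⊓ y.1)) m (Nat.card K) (Nat.card K ^ t))
    (hc : ((Nat.card K : ℕ) : ZMod p) ^ c = -1) (hok : H35.HT.Wm.Ok p (Nat.card K) m t b) :
    ∃ χ : IrrCharacter F'.iso, WmBox p F' m b χ := by
  obtain ⟨j, v, hj0, hjm, hQj, hv, h1, h2, h3⟩ := hok
  have hm : 1 ≤ m := hj0.trans_le hjm
  obtain ⟨χ, hχ⟩ := exists_chi hm (hne hm) (hDP hm) hjm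
  have e : H316.HT.vd p (χ : F'.iso → ℂ) = v := vd_of_val χ hχ.deg hv
  exact ⟨χ, fun M hM => hχ.mem p M c hM hc hQj, hχ.theta, hχ.mult, hχ.stab, hχ.inv, e ▸ h1, e ▸ h2,
    fun hb => e.trans (h3 hb), t, j, hj0, hjm, hQj, hχ⟩

end Cfsg.Agent.H766.HT
end

-- part: H766/HT/Wm
section
/-!
# Weights `w = -1` modulo `p`, unitary primes: the character `χ'` of the smaller group (helper766, for S4933, box M6)

* `chi_sp`, `chi_odd`, `chi_plus`, `chi_minus` : the `j`-th character of the dual polar scheme (`ChiBox`);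
* `wm_sp`, `wm_odd`, `wm_plus`, `wm_minus` : the weight of rank `2 c + n` is `-1` modulo `p`: a character of rank `n`, of
  the principal block, `1 ≤ v ≤ 2`, `v = 1` if the weight is less than `2 p` (`WmBox`).
-/

set_option autoImplicit false
set_option linter.unusedSectionVars false

open Cfsg

namespace Cfsg.Agent.H766.HT

open MulAction Module Cfsg.Agent.H53.HC Cfsg.Agent.H477.HC Cfsg.Agent.H477.HC.CForm
open Cfsg.Agent.H722.DPol Cfsg.Agent.H697.HT.DPForm Cfsg.Agent.H410.BR Cfsg.Agent.H35.HT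
open Cfsg.Agent.LieClassical Cfsg.Agent.LieClassical.OrthCore Cfsg.Agent.LieClassical.OrthForms

universe u

variable {K : Type u} [Field K] [Finite K] {m : ℕ}

theorem nonempty_Om {V : Type*} [AddCommGroup V] [Module K V] [FiniteDimensional K V] {F : CForm K V}
    {Q : QuadraticForm K V} {w ε : ℕ} (h : IsQuad F Q) (ht : Typ Q w ε) : Nonempty (F.Om w) :=
  (IsQuad.nonempty ht).map (h.eOm w)

theorem dp_sp (hm : 1 ≤ m) :
    letI := subAct (spF K m).iso.subtype ((spF K m).Om m) (spF K m).Om_map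
    DP (spF K m).iso ((spF K m).Om m) (fun x y : (spF K m).Om m => m - finrank K ↥(x.1 ⊓ y.1)) m (Nat.card K)
      (Nat.card K ^ 1) := by
  rw [pow_one]
  exact H2.HT.dpOm_spF hm

section wm

variable {p : ℕ} [Fact p.Prime] {c n : ℕ}

/-- **symplectic groups** -/
theorem wm_sp (hd : orderOf ((Nat.card K : ℕ) : ZMod p) = 2 * c) (hc0 : 0 < c) (h1 : p ≤ Idx.wSp c (2 * c + n))
    (h2 : Idx.wSp c (2 * c + n) < p ^ 2) (h3 : p ∣ Idx.wSp c (2 * c + n) + 1) :
    ∃ χ : IrrCharacter (spF K n).iso, WmBox p (spF K n) n (Idx.wSp c (2 * c + n) < 2 * p) χ :=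
  exists_wm (fun _ => H2.HT.nonempty_spF) (fun hm => dp_sp hm) (Val.pow_d hd hc0)
    (Wm.k_sp Finite.one_lt_card hd hc0 h1 h2 h3)

/-- **orthogonal groups of odd dimension** -/
theorem wm_odd (ho : (2 : K) ≠ 0) (hd : orderOf ((Nat.card K : ℕ) : ZMod p) = 2 * c) (hc0 : 0 < c)
    (h1 : p ≤ Idx.wSp c (2 * c + n)) (h2 : Idx.wSp c (2 * c + n) < p ^ 2) (h3 : p ∣ Idx.wSp c (2 * c + n) + 1) :
    ∃ χ : IrrCharacter (oddF K n ho).iso, WmBox p (oddF K n ho) n (Idx.wSp c (2 * c + n) < 2 * p) χ :=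
  exists_wm (fun hm => nonempty_Om (isQuad_odd K n ho) (typ_odd K ho hm))
    (fun hm => (isQuad_odd K n ho).dpOm (typ_odd K ho hm)) (Val.pow_d hd hc0)
    (Wm.k_sp Finite.one_lt_card hd hc0 h1 h2 h3)

/-- **orthogonal groups of plus type** -/
theorem wm_plus (hd : orderOf ((Nat.card K : ℕ) : ZMod p) = 2 * c) (hc0 : 0 < c)
    (h1 : p ≤ Idx.wPlus c (2 * c + n)) (h2 : Idx.wPlus c (2 * c + n) < p ^ 2) (h3 : p ∣ Idx.wPlus c (2 * c + n) + 1) :
    ∃ χ : IrrCharacter (plusF K n).iso, WmBox p (plusF K n) n (Idx.wPlus c (2 * c + n) < 2 * p) χ :=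
  exists_wm (fun hm => nonempty_Om (isQuad_plus K n) (typ_plus K hm))
    (fun hm => (isQuad_plus K n).dpOm (typ_plus K hm)) (Val.pow_d hd hc0)
    (Wm.k_plus Finite.one_lt_card hd hc0 h1 h2 h3)

/-- **orthogonal groups of minus type** -/
theorem wm_minus (a b : K) (hab : ∀ z₁ z₂ : K, z₁ ^ 2 + a * z₁ * z₂ + b * z₂ ^ 2 = 0 → z₁ = 0 ∧ z₂ = 0)
    (hd : orderOf ((Nat.card K : ℕ) : ZMod p) = 2 * c) (hc0 : 2 ≤ c)
    (h1 : p ≤ Idx.wMinus c (2 * c + n)) (h2 : Idx.wMinus c (2 * c + n) < p ^ 2)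
    (h3 : p ∣ Idx.wMinus c (2 * c + n) + 1) :
    ∃ χ : IrrCharacter (minusF K n a b hab).iso,
      WmBox p (minusF K n a b hab) n (Idx.wMinus c (2 * c + n) < 2 * p) χ :=
  exists_wm (fun hm => nonempty_Om (isQuad_minus K n a b hab) (typ_minus K a b hab hm))
    (fun hm => (isQuad_minus K n a b hab).dpOm (typ_minus K a b hab hm)) (Val.pow_d hd (by omega))
    (Wm.k_minus Finite.one_lt_card hd hc0 h1 h2 h3)

end wm

end Cfsg.Agent.H766.HT
end

-- part: H178/HT/Fin
section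
/-!
# S4933, box M7: Harish-Chandra characters, unitary primes, weight `-1` modulo `p` (helper178)

`fin_abs` : the double frame of helper18, `c` of helper551, `χ` of helper766, the two characters `Y₁`, `Y₂` of
degree prime to `p` of helper205: one of the two constituents of `F.hc c (χ ∘ ρ)` belongs to the principal block,
its degree has the valuation of that of `χ`, and it is invariant under the semisimilarities of `p`-power order.
-/

set_option autoImplicit false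
set_option linter.unusedSectionVars false

open scoped ComplexConjugate
open Cfsg

namespace Cfsg.Agent.H178.HT

open Cfsg.Agent.Characters MulAction Module Cfsg.Agent.H53.HC Cfsg.Agent.H477.HC Cfsg.Agent.H749.Two
open Cfsg.Agent.H18.HT Cfsg.Agent.H428.HT Cfsg.Agent.H745.HT Cfsg.Agent.H551.HT Cfsg.Agent.H766.HT
open Cfsg.Agent.H139.HT

universe u v w w'

/-- the output -/
def Seven {K : Type u} [Field K] {V : Type v} [AddCommGroup V] [Module K V] (p : ℕ) (F : CForm K V) (B : Prop)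
    (M : Ideal AlgInt) : Prop :=
  ∃ X : IrrCharacter F.iso, X ∈ principalBlock M F.iso ∧ 1 ≤ H316.HT.vd p (X : F.iso → ℂ) ∧
    H316.HT.vd p (X : F.iso → ℂ) ≤ 2 ∧ (B → H316.HT.vd p (X : F.iso → ℂ) = 1) ∧ PInv p F (X : F.iso → ℂ)

section

variable {K : Type u} [Field K] {V : Type v} [AddCommGroup V] [Module K V] {X' : Type w} [AddCommGroup X']
  [Module K X'] {X₂ : Type w'} [AddCommGroup X₂] [Module K X₂]
variable {F : CForm K V} {F' : CForm K X'} {F₂ : CForm K X₂} {j : X' →ₗ[K] V} {j₂ : X₂ →ₗ[K] V}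
  {W₀ Z₀ : Submodule K V} {W₂ : Submodule K X₂} {Z' : Submodule K X'} {b k : ℕ}

/-- the maximal totally singular subspaces -/
theorem mx_iff [FiniteDimensional K X'] {k : ℕ} (hle : ∀ U : Submodule K X', F'.TS U → finrank K U ≤ k)
    {Z' : Submodule K X'} (hZ : Z' ∈ F'.Om k) (U : Submodule K X') : Mx F' U ↔ U ∈ F'.Om k := by
  constructor
  · intro hU
    refine ⟨hU.1, ?_⟩
    obtain ⟨A, hA1, hA2⟩ : ∃ A : Submodule K X', A ≤ Z' ∧ finrank K A = finrank K U := by
      have h1 : finrank K U ≤ k := hle U hU.1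
      let bs := finBasisOfFinrankEq K Z' hZ.2
      have hli : LinearIndependent K (fun i : Fin (finrank K U) => (bs (Fin.castLE h1 i) : X')) :=
        (bs.linearIndependent.comp _ (Fin.castLE_injective h1)).map' Z'.subtype Z'.ker_subtype
      refine ⟨Submodule.span K (Set.range fun i : Fin (finrank K U) => (bs (Fin.castLE h1 i) : X')), ?_, ?_⟩
      · rw [Submodule.span_le]
        rintro _ ⟨i, rfl⟩
        exact (bs _).2
      · rw [finrank_span_eq_card hli, Fintype.card_fin]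
    obtain ⟨g, hg⟩ := F'.trans_Om (k := finrank K U) ⟨hZ.1.mono hA1, hA2⟩ ⟨hU.1, rfl⟩
    have h2 : U ≤ Z'.map (F'.iso.subtype g : X' →ₗ[K] X') := by
      rw [← hg]
      exact Submodule.map_mono hA1
    have h3 : Z'.map (F'.iso.subtype g : X' →ₗ[K] X') = U := hU.2 _ (hZ.1.map g) h2
    have h4 := (F'.Om_map g Z' hZ).2
    rw [h3] at h4
    exact h4
  · intro hU
    exact ⟨hU.1, fun U' hU' h => (Submodule.eq_of_le_of_finrank_le h (by rw [hU.2]; exact hle U' hU')).symm⟩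

/-- the permutation character on the maximal totally singular subspaces -/
theorem card_mx [FiniteDimensional K X'] {k : ℕ} (hle : ∀ U : Submodule K X', F'.TS U → finrank K U ≤ k)
    {Z' : Submodule K X'} (hZ : Z' ∈ F'.Om k) (g : F'.iso) :
    letI := subAct F'.iso.subtype (F'.Om k) F'.Om_map
    Nat.card {x : F'.Om k // g • x = x} =
      Nat.card {U : Submodule K X' // Mx F' U ∧ U.map (F'.iso.subtype g : X' →ₗ[K] X') = U} := by
  letI := subAct F'.iso.subtype (F'.Om k) F'.Om_map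
  refine Nat.card_congr
    { toFun := fun x => ⟨x.1.1, (mx_iff hle hZ _).2 x.1.2, congrArg Subtype.val x.2⟩
      invFun := fun U => ⟨⟨U.1, (mx_iff hle hZ _).1 U.2.1⟩, Subtype.ext U.2.2⟩
      left_inv := fun x => rfl
      right_inv := fun U => rfl }

/-- **M7, abstract form.** -/
theorem fin_abs [Finite K] [FiniteDimensional K V] [Finite V] [FiniteDimensional K X'] [Finite X']
    [FiniteDimensional K X₂] [Finite X₂] {p : ℕ} [hpf : Fact p.Prime] (hp2 : Odd p)
    (h : Dbl F F' F₂ j j₂ W₀ Z₀ W₂ Z' b k) (hb : 2 ≤ b) {c : IrrCharacter (GL (Fin b) K)} (hc : Rho K p b c)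
    (hdual : (c : GL (Fin b) K → ℂ) ∘ F.iota b = c) {B : Prop} {χ : IrrCharacter F'.iso} (hχ : WmBox p F' k B χ)
    (hY : ∀ [Fintype (F₂.Om b)], ∃ Y₁ Y₂ : IrrCharacter F₂.iso, Y₁ ≠ Y₂ ∧
      (F₂.hc (c : GL (Fin b) K → ℂ) (fun _ _ => 1) = fun g => (Y₁ : F₂.iso → ℂ) g + (Y₂ : F₂.iso → ℂ) g) ∧
      ¬ p ∣ charDegree (Y₁ : F₂.iso → ℂ) ∧ ¬ p ∣ charDegree (Y₂ : F₂.iso → ℂ))
    (hom : (Nat.card (F.Om b)).factorization p = (Nat.card (F₂.Om b)).factorization p)
    {M : Ideal AlgInt} (hM : IsPModular p M) : Seven p F B M := by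
  classical
  have := finite_Om F b
  have := finite_Om F₂ b
  have := finite_Om F' k
  have := finite_iso F
  have := finite_iso F'
  have := finite_iso F₂
  let _ := Fintype.ofFinite (F.Om b)
  let _ := Fintype.ofFinite (F₂.Om b)
  let _ := Fintype.ofFinite F.iso
  let _ := Fintype.ofFinite F'.iso
  let _ := Fintype.ofFinite F₂.iso
  have hnt : Nontrivial V := by
    by_contra hn
    rw [not_nontrivial_iff_subsingleton] at hn
    have h1 := h.W₀_mem.2
    have h2 : finrank K W₀ = 0 := by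
      have : Subsingleton W₀ := inferInstance
      exact finrank_zero_of_subsingleton
    omega
  obtain ⟨ρ, hρ1, hρ2, hρ3⟩ := h.cmp.exists_rho
  have hth : ∀ χ : IrrCharacter F'.iso, (letI := subAct F'.iso.subtype (F'.Om k) F'.Om_map
      ∃ θ : F'.iso → ℂ, IsCharacter F'.iso θ ∧
      ∀ g : F'.iso, (χ : F'.iso → ℂ) g + θ g = (Nat.card {x : F'.Om k // g • x = x} : ℂ)) →
      ∃ θ : F'.iso → ℂ, IsCharacter _ θ ∧ ∀ g : F'.iso, (χ : F'.iso → ℂ) g + θ g =
      (Nat.card {U : Submodule K X' // Mx F' U ∧ U.map (F'.iso.subtype g : X' →ₗ[K] X') = U} : ℂ) := by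
    rintro χ ⟨θ, h1, h2⟩
    exact ⟨θ, h1, fun g => by rw [h2, card_mx h.le' h.Z'_mem]⟩
  obtain ⟨X₁, X₂', hne, hsum⟩ := _root_.Cfsg.Agent.H428.HT.exists_two h.cmp hb c.2 hc.cusp hdual hρ1 hρ2 hρ3 χ (hth χ hχ.theta) h.W₀_mem
  obtain ⟨Y₁, Y₂, hYne, hYs, hY1, hY2⟩ := hY
  let _ := subAct F'.iso.subtype (F'.Om k) F'.Om_map
  have hvd : ∀ X : IrrCharacter F.iso, X = X₁ ∨ X = X₂' → H316.HT.vd p (X : F.iso → ℂ) =
      H316.HT.vd p (χ : F'.iso → ℂ) := by
    intro X hX
    have h1 := hc_pair_vd h hb c hc.cusp hρ1 hρ2 hρ3 (Y := F'.Om k)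
      (fun y y' => by
        obtain ⟨g, hg⟩ := F'.trans_Om y.2 y'.2
        exact ⟨g, Subtype.ext hg⟩) Subtype.val
      (fun g y => ⟨fun e => congrArg Subtype.val e, fun e => Subtype.ext e⟩) ⟨Z', h.Z'_mem⟩ rfl
      (fun χ₁ χ₂ h1 h2 => by
        have e1 : ∀ χ : IrrCharacter F'.iso,
            classInner (fun g : F'.iso => (Nat.card {y : F'.Om k // g • y = y} : ℂ)) (χ : F'.iso → ℂ) ≠ 0 →
            ∃ θ : F'.iso → ℂ, IsCharacter F'.iso θ ∧
              ∀ g : F'.iso, (χ : F'.iso → ℂ) g + θ g = (Nat.card {x : F'.Om k // g • x = x} : ℂ) := by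
          intro χ hχ
          have hπ : IsCharacter F'.iso (fun g : F'.iso => (Nat.card {y : F'.Om k // g • y = y} : ℂ)) :=
            S0157.isCharacter_fixedBy (F'.Om k)
          refine ⟨_, OddOrderCharacters.Clifford.isCharacter_sub_irr hπ χ.2 hχ, fun g => ?_⟩
          rw [Pi.sub_apply]
          ring
        exact inner_hc_irr h.cmp hb c.2 hc.cusp hdual hρ1 hρ2 hρ3 χ₁ χ₂ (hth _ (e1 _ h1)) (hth _ (e1 _ h2)) h.W₀_mem)
      χ hχ.mult Y₁ Y₂ hYne hYs X₁ X₂' hne hsum hY1 hY2 X hX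
    omega
  have hcl := Core.isIrr_isClassFunction c.2
  have hclχ := Core.isIrr_isClassFunction χ.2
  have hinv := hc_two h.cmp hp2 hcl (fun τ hτ => by obtain ⟨a, ha⟩ := hτ; exact hc.map τ a ha) h.W₀_mem hρ1 hclχ
    (fun τ _ => hχ.inv τ) X₁.2 X₂'.2 (fun g => congrFun hsum g)
  rcases H205.HT.principalBlock_or hpf.out hM h.W₀_mem ρ hρ3 (hc.mem hM) (hχ.mem M hM) X₁ X₂' hsum with hX | hX
  · refine ⟨X₁, hX, ?_, ?_, ?_, hinv.1⟩
    · rw [hvd _ (Or.inl rfl)]; exact hχ.one_le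
    · rw [hvd _ (Or.inl rfl)]; exact hχ.le_two
    · rw [hvd _ (Or.inl rfl)]; exact hχ.eq_one
  · refine ⟨X₂', hX, ?_, ?_, ?_, hinv.2⟩
    · rw [hvd _ (Or.inr rfl)]; exact hχ.one_le
    · rw [hvd _ (Or.inr rfl)]; exact hχ.le_two
    · rw [hvd _ (Or.inr rfl)]; exact hχ.eq_one

end

end Cfsg.Agent.H178.HT

-----
end

private theorem dce_423c22d35a29 : _root_.True := by
  try have : _root_.True := by simp only [_root_.Cfsg.Agent.H139.Cusp.psi.congr_simp]
  try have : _root_.True := by simp only [_root_.Cfsg.Agent.H428.HT.pm.eq_1]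
  try have : _root_.True := by simp only [_root_.Cfsg.Agent.H53.HC.stabFun.eq_1]
  exact _root_.True.intro
end

-- part: H766/HT/WIdx_mg
section
prune_inst 0x20000000000000000000000000000000
set_option linter.all false
open scoped Cfsg.Agent.FastGrp

-- part: H766/HT/WIdx
section
/-!
# The two descriptions of the weights (helper766, for S4933)

`wO`, `wP`, `wM` (helper530) are `wSp`, `wPlus`, `wMinus` (helper35) for unitary primes `orderOf q = 2 c`.
-/

set_option autoImplicit false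

namespace Cfsg.Agent.H766.HT

open Cfsg.Agent.H530.HT Cfsg.Agent.H35.HT

variable {p : ℕ} [Fact p.Prime] {q m c : ℕ}

theorem wP_idx (hm : 1 ≤ m) (hc0 : 0 < c) (hc : orderOf (q : ZMod p) = 2 * c) : wP p q m = Idx.wPlus c m := by
  rw [wP_even hm hc0 hc]
  unfold Idx.wPlus
  by_cases h : c ∣ m
  · obtain ⟨k, rfl⟩ := h
    have hk : 1 ≤ k := Nat.pos_of_ne_zero (by rintro rfl; simp at hm)
    have e1 : c * k / c = k := Nat.mul_div_cancel_left _ hc0
    have e2 : (c * k - 1) / c = k - 1 := by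
      obtain ⟨l, rfl⟩ : ∃ l, k = l + 1 := ⟨k - 1, by omega⟩
      obtain ⟨d, rfl⟩ : ∃ d, c = d + 1 := ⟨c - 1, by omega⟩
      rw [show (d + 1) * (l + 1) - 1 = d + (d + 1) * l by
        rw [Nat.mul_add, mul_one]; omega, Nat.add_mul_div_left _ _ (Nat.succ_pos d), Nat.div_eq_of_lt (Nat.lt_succ_self d)]
      omega
    have e3 : 2 * c ∣ c * k ↔ ¬ Odd k := by
      rw [mul_comm 2 c, Nat.mul_dvd_mul_iff_left hc0, Nat.not_odd_iff_even, even_iff_two_dvd]
    rw [e1, e2]
    by_cases ho : Odd k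
    · rw [if_neg (fun h => (e3.1 h) ho), if_pos ⟨Dvd.intro _ rfl, ho⟩, add_zero]
    · rw [if_pos (e3.2 ho), if_neg (fun h => ho h.2)]
      omega
  · have e3 : ¬ 2 * c ∣ m := fun h' => h ((Dvd.intro_left 2 rfl).trans h')
    rw [if_neg e3, if_neg (fun h' => h h'.1), add_zero]
    have h1 : 0 < m % c := Nat.pos_of_ne_zero fun h0 => h (Nat.dvd_of_mod_eq_zero h0)
    have h2 := Nat.div_add_mod m c
    have h3 := Nat.mod_lt m hc0
    rw [show m - 1 = (m % c - 1) + c * (m / c) by omega, Nat.add_mul_div_left _ _ hc0,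
      Nat.div_eq_of_lt (by omega), zero_add]

theorem wM_idx (hc0 : 0 < c) (hc : orderOf (q : ZMod p) = 2 * c) : wM p q m = Idx.wMinus c m := by
  rw [wM_even hc]
  unfold Idx.wMinus
  by_cases h : c ∣ m + 1
  · obtain ⟨k, hk⟩ := h
    have hk1 : 1 ≤ k := Nat.pos_of_ne_zero (by rintro rfl; simp at hk)
    have e1 : (m + 1) / c = k := by rw [hk, Nat.mul_div_cancel_left _ hc0]
    have e2 : m / c = k - 1 := by
      obtain ⟨l, rfl⟩ : ∃ l, k = l + 1 := ⟨k - 1, by omega⟩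
      obtain ⟨d, rfl⟩ : ∃ d, c = d + 1 := ⟨c - 1, by omega⟩
      have e : m = d + (d + 1) * l := by
        rw [Nat.mul_add, mul_one] at hk
        omega
      rw [e, Nat.add_mul_div_left _ _ (Nat.succ_pos d), Nat.div_eq_of_lt (Nat.lt_succ_self d)]
      omega
    have e3 : 2 * c ∣ m + 1 ↔ Even k := by
      rw [hk, mul_comm 2 c, Nat.mul_dvd_mul_iff_left hc0, even_iff_two_dvd]
    rw [e1, e2]
    by_cases he : Even k
    · rw [if_neg (fun h => h.2 (e3.2 he)), if_pos ⟨⟨k, hk⟩, he⟩, add_zero]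
    · rw [if_pos ⟨⟨k, hk⟩, fun h => he (e3.1 h)⟩, if_neg (fun h => he h.2)]
      omega
  · rw [if_neg (fun h' => h h'.1), if_neg (fun h' => h h'.1), add_zero]
    have h1 : 0 < (m + 1) % c := Nat.pos_of_ne_zero fun h0 => h (Nat.dvd_of_mod_eq_zero h0)
    have h2 := Nat.div_add_mod (m + 1) c
    have h3 := Nat.mod_lt (m + 1) hc0
    conv_lhs => rw [show m = ((m + 1) % c - 1) + c * ((m + 1) / c) by omega]
    rw [Nat.add_mul_div_left _ _ hc0, Nat.div_eq_of_lt (by omega), zero_add]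

end Cfsg.Agent.H766.HT
end

-- part: H47/HT/Opp
section
/-!
# The opposites of a totally singular subspace (helper47, S4933)

* `exists_opp_map` : the elements of `TT W₀` trivial on `W₀` are transitive on the opposites of `W₀`;
* `sum_opp` : `∑ |S₀ ∩ S'| = |S₀|` over the opposites `W'`, `S₀`, `S'` the stabilisers of `W₀`, `W'`.
-/

set_option autoImplicit false
set_option linter.unusedSectionVars false
set_option linter.style.haveILetI false

open scoped ComplexConjugate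
open Cfsg

namespace Cfsg.Agent.H47.HT

open Cfsg.Agent.OddOrderCharacters.Clifford Cfsg.Agent.Characters MulAction Module Cfsg.Agent.H53.HC
open Cfsg.Agent.H477.HC Cfsg.Agent.H477.HC.CForm

universe u v w

variable {K : Type u} [Field K] {V : Type v} [AddCommGroup V] [Module K V] {F : CForm K V}

/-- **transitivity on the opposites** -/
theorem exists_opp_map [FiniteDimensional K V] {W₀ W₁ W₂ : Submodule K V} (hW₀ : F.TS W₀) (hW₁ : F.TS W₁)
    (hW₂ : F.TS W₂) (d1 : finrank K W₁ = finrank K W₀) (d2 : finrank K W₂ = finrank K W₀)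
    (h01 : W₀ ⊓ F.perp W₁ = ⊥) (h02 : W₀ ⊓ F.perp W₂ = ⊥) :
    ∃ g : F.iso, g ∈ F.TT W₀ ∧ (∀ w ∈ W₀, (g : V ≃ₗ[K] V) w = w) ∧ W₁.map (F.iso.subtype g : V →ₗ[K] V) = W₂ := by
  classical
  have h10 := opp_symm (F := F) rfl d1 h01
  have h20 := opp_symm (F := F) rfl d2 h02
  have a1 : ∀ w ∈ W₀, (∀ w' ∈ W₁, F.B w w' = 0) → w = 0 := fun w hw hw' => by
    have : w ∈ W₀ ⊓ F.perp W₁ := ⟨hw, hw'⟩
    rw [h01] at this
    exact (Submodule.mem_bot K).1 this
  have a2 : ∀ w ∈ W₀, (∀ w' ∈ W₂, F.B w w' = 0) → w = 0 := fun w hw hw' => by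
    have : w ∈ W₀ ⊓ F.perp W₂ := ⟨hw, hw'⟩
    rw [h02] at this
    exact (Submodule.mem_bot K).1 this
  have b1 : ∀ w' ∈ W₁, (∀ w ∈ W₀, F.B w w' = 0) → w' = 0 := fun w hw hw' => by
    have : w ∈ W₁ ⊓ F.perp W₀ := ⟨hw, fun w' hw'' => F.B_eq_zero (hw' w' hw'')⟩
    rw [h10] at this
    exact (Submodule.mem_bot K).1 this
  have b2 : ∀ w' ∈ W₂, (∀ w ∈ W₀, F.B w w' = 0) → w' = 0 := fun w hw hw' => by
    have : w ∈ W₂ ⊓ F.perp W₀ := ⟨hw, fun w' hw'' => F.B_eq_zero (hw' w' hw'')⟩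
    rw [h20] at this
    exact (Submodule.mem_bot K).1 this
  obtain ⟨P, hP⟩ := F.exists_proj a1 b1
  obtain ⟨P₂, hP₂⟩ := F.exists_proj a2 b2
  have h1' : ∀ w ∈ W₁, (∀ w' ∈ W₀, F.B w w' = 0) → w = 0 := fun w hw h => b1 w hw fun w' hw' => F.B_eq_zero (h w' hw')
  have h2' : ∀ w' ∈ W₀, (∀ w ∈ W₁, F.B w w' = 0) → w' = 0 := fun w hw h => a1 w hw fun w' hw' => F.B_eq_zero (h w' hw')
  obtain ⟨P', hP'⟩ := F.exists_proj h1' h2'
  -- the dual map `W₁ → W₂`
  have key : ∀ w' : W₁, ∃ z : W₂, ∀ w : W₀, F.B w z = F.B w w' := by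
    intro w'
    obtain ⟨b, hb, hb'⟩ := F.exists_pair W₀ W₂ ((F.lf (w' : V)).comp W₀.subtype) (fun w hw => by
      have := a2 w w.2 hw
      have e : w = 0 := Subtype.ext this
      rw [e, map_zero])
    exact ⟨⟨b, hb⟩, fun w => (hb' w).symm⟩
  choose f hf using key
  have huniq : ∀ z z' : W₂, (∀ w : W₀, F.B w z = F.B w z') → z = z' := by
    intro z z' h
    have : ((z - z' : W₂) : V) = 0 := b2 _ (z - z').2 fun w hw => by
      rw [Submodule.coe_sub, F.B_sub_right, h ⟨w, hw⟩, sub_self]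
    exact sub_eq_zero.1 (Subtype.ext this)
  let D : W₁ →ₗ[K] W₂ := ⟨⟨f, fun x y => huniq _ _ fun w => by
      rw [hf, Submodule.coe_add, Submodule.coe_add, F.B_add_right, F.B_add_right, hf, hf]⟩,
    fun c x => huniq _ _ fun w => by
      rw [hf, RingHom.id_apply, Submodule.coe_smul, Submodule.coe_smul, F.B_smul_right, F.B_smul_right, hf]⟩
  have hD : ∀ (w : W₀) (w' : W₁), F.B w (D w') = F.B w w' := fun w w' => hf w' w
  have PW₀ : ∀ w : W₀, P w = w := by
    intro w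
    have : ((P w - w : W₀) : V) = 0 := a1 _ (P w - w).2 fun w' hw' => by
      rw [Submodule.coe_sub, F.B_sub_left, ← hP w w' hw', sub_self]
    exact sub_eq_zero.1 (Subtype.ext this)
  have P₂W₀ : ∀ w : W₀, P₂ w = w := by
    intro w
    have : ((P₂ w - w : W₀) : V) = 0 := a2 _ (P₂ w - w).2 fun w' hw' => by
      rw [Submodule.coe_sub, F.B_sub_left, ← hP₂ w w' hw', sub_self]
    exact sub_eq_zero.1 (Subtype.ext this)
  have P'W' : ∀ w : W₁, P' w = w := by
    intro w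
    have : ((P' w - w : W₁) : V) = 0 := h1' _ (P' w - w).2 fun w' hw' => by
      rw [Submodule.coe_sub, F.B_sub_left, ← hP' w w' hw', sub_self]
    exact sub_eq_zero.1 (Subtype.ext this)
  have P0 : ∀ v, (∀ w ∈ W₁, F.B v w = 0) → P v = 0 := by
    intro v hv
    have : ((P v : W₀) : V) = 0 := a1 _ (P v).2 fun w' hw' => by rw [← hP v w' hw', hv w' hw']
    exact Subtype.ext this
  have P'0 : ∀ v, (∀ w ∈ W₀, F.B v w = 0) → P' v = 0 := by
    intro v hv
    have : ((P' v : W₁) : V) = 0 := h1' _ (P' v).2 fun w' hw' => by rw [← hP' v w' hw', hv w' hw']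
    exact Subtype.ext this
  let R : V →ₗ[K] V := LinearMap.id - W₀.subtype ∘ₗ P - W₁.subtype ∘ₗ P'
  have hR : ∀ v, R v = v - P v - P' v := fun v => rfl
  have RW₀ : ∀ v, ∀ w ∈ W₀, F.B (R v) w = 0 := by
    intro v w hw
    rw [hR, F.B_sub_left, F.B_sub_left, hW₀.2 _ (P v).2 w hw, hP' v w hw]
    ring
  have RW' : ∀ v, ∀ w ∈ W₁, F.B (R v) w = 0 := by
    intro v w hw
    rw [hR, F.B_sub_left, F.B_sub_left, hW₁.2 _ (P' v).2 w hw, hP v w hw]
    ring
  have hdec : ∀ v, v = R v + (P v + P' v) := fun v => by rw [hR]; abel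
  let R₂ : V →ₗ[K] V := R - W₀.subtype ∘ₗ P₂ ∘ₗ R
  have hR₂ : ∀ v, R₂ v = R v - P₂ (R v) := fun v => rfl
  have c0 : ∀ v, ∀ w ∈ W₀, F.B (R₂ v) w = 0 := by
    intro v w hw
    rw [hR₂, F.B_sub_left, RW₀ v w hw, hW₀.2 _ (P₂ (R v)).2 w hw, sub_zero]
  have c2 : ∀ v, ∀ w ∈ W₂, F.B (R₂ v) w = 0 := by
    intro v w hw
    rw [hR₂, F.B_sub_left, ← hP₂ (R v) w hw, sub_self]
  have cc : ∀ u v, F.B (R₂ u) (R₂ v) = F.B (R u) (R v) := by
    intro u v
    rw [hR₂ v, F.B_sub_right, c0 u _ (P₂ (R v)).2, sub_zero, hR₂ u, F.B_sub_left,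
      F.B_eq_zero (RW₀ v _ (P₂ (R u)).2), sub_zero]
  have cQ : ∀ v, F.Q (R₂ v) = F.Q (R v) := by
    intro v
    have e : R₂ v = R v + ((-P₂ (R v) : W₀) : V) := by
      rw [hR₂, Submodule.coe_neg, sub_eq_add_neg]
    rw [e, F.Q_add, RW₀ v _ (Subtype.property _), hW₀.1 _ (Subtype.property _), F.T_zero, add_zero, add_zero]
  let φ : V →ₗ[K] V := R₂ + (W₀.subtype ∘ₗ P + W₂.subtype ∘ₗ D ∘ₗ P')
  have hφ : ∀ v, φ v = R₂ v + ((P v : V) + (D (P' v) : V)) := fun v => rfl
  obtain ⟨g, hg⟩ := F.exists_iso φ (fun u v => by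
    rw [hφ, hφ]
    conv_rhs => rw [hdec u, hdec v]
    simp only [F.B_add_left, F.B_add_right]
    rw [cc, c0 u _ (P v).2, c2 u _ (D (P' v)).2, F.B_eq_zero (c0 v _ (P u).2), F.B_eq_zero (c2 v _ (D (P' u)).2),
      hW₀.2 _ (P u).2 _ (P v).2, hW₂.2 _ (D (P' u)).2 _ (D (P' v)).2, hD, F.B_symm (D (P' u) : V), hD, ← F.B_symm,
      RW₀ u _ (P v).2, RW' u _ (P' v).2, F.B_eq_zero (RW₀ v _ (P u).2), F.B_eq_zero (RW' v _ (P' u).2),
      hW₁.2 _ (P' u).2 _ (P' v).2]) (fun v => by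
    rw [hφ]
    conv_rhs => rw [hdec v]
    rw [F.Q_add, F.Q_add (P v : V), F.Q_add (R v) (P v + P' v), F.Q_add (P v : V) (P' v), F.B_add_right, F.B_add_right,
      c0 v _ (P v).2, c2 v _ (D (P' v)).2, RW₀ v _ (P v).2, RW' v _ (P' v).2, hD, cQ, hW₀.1 _ (P v).2,
      hW₂.1 _ (D (P' v)).2, hW₁.1 _ (P' v).2])
  have g1 : ∀ w ∈ W₀, (g : V ≃ₗ[K] V) w = w := by
    intro w hw
    have e1 : P' w = 0 := P'0 _ fun w' hw' => hW₀.2 w hw w' hw'
    have e2 : R w = 0 := by
      rw [hR, e1]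
      have := PW₀ ⟨w, hw⟩
      change P w = ⟨w, hw⟩ at this
      rw [this]
      simp
    have e3 := PW₀ ⟨w, hw⟩
    change P w = ⟨w, hw⟩ at e3
    rw [hg, hφ, hR₂, e2, e1, e3, map_zero, map_zero]
    simp
  have g2 : ∀ w ∈ W₁, (g : V ≃ₗ[K] V) w ∈ W₂ := by
    intro w hw
    have e1 : P w = 0 := P0 _ fun w' hw' => hW₁.2 w hw w' hw'
    have e3 := P'W' ⟨w, hw⟩
    change P' w = ⟨w, hw⟩ at e3
    have e2 : R w = 0 := by
      rw [hR, e1, e3]
      simp
    rw [hg, hφ, hR₂, e2, e1, map_zero]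
    simp
  refine ⟨g, F.mem_TT_of hW₀ fun v hv => ?_, g1, ?_⟩
  · have e1 : P' v = 0 := P'0 v hv
    rw [hg, hφ, hR₂, hR, e1, map_zero]
    have : v - (P v : V) - ((0 : W₁) : V) - (P₂ (v - (P v : V) - ((0 : W₁) : V)) : V) + ((P v : V) + ((0 : W₂) : V)) - v =
        ((-P₂ (v - (P v : V) - ((0 : W₁) : V)) : W₀) : V) := by
      rw [Submodule.coe_neg, Submodule.coe_zero, Submodule.coe_zero]
      abel
    rw [this]
    exact Subtype.property _
  · apply Submodule.eq_of_le_of_finrank_eq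
    · rintro _ ⟨w, hw, rfl⟩
      exact g2 w hw
    · rw [d2, ← d1]
      exact LinearEquiv.finrank_map_eq (g : V ≃ₗ[K] V) W₁

theorem isoFin (F : CForm K V) [Finite V] : Finite F.iso := by
  have : Finite (V ≃ₗ[K] V) := Finite.of_injective (fun e : V ≃ₗ[K] V => (e : V → V)) DFunLike.coe_injective
  infer_instance

theorem stabW_map {x : F.iso} {W : Submodule K V} {g : F.iso} :
    g ∈ stabW F.iso.subtype (W.map (F.iso.subtype x : V →ₗ[K] V)) ↔ x⁻¹ * g * x ∈ stabW F.iso.subtype W := by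
  constructor
  · intro h
    change W.map (F.iso.subtype (x⁻¹ * g * x) : V →ₗ[K] V) = W
    have h' : (W.map (F.iso.subtype x : V →ₗ[K] V)).map (F.iso.subtype g : V →ₗ[K] V) =
        W.map (F.iso.subtype x : V →ₗ[K] V) := h
    rw [map_mul_apply, map_mul_apply, h', ← map_mul_apply, inv_mul_cancel, map_one]
    exact Submodule.map_id _
  · intro h
    change (W.map (F.iso.subtype x : V →ₗ[K] V)).map (F.iso.subtype g : V →ₗ[K] V) =
      W.map (F.iso.subtype x : V →ₗ[K] V)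
    have h' : W.map (F.iso.subtype (x⁻¹ * g * x) : V →ₗ[K] V) = W := h
    rw [← map_mul_apply]
    conv_rhs => rw [← h']
    rw [← map_mul_apply]
    congr 3
    group

open Classical in
/-- `∑ |S₀ ∩ S'| = |S₀|` over the opposites -/
theorem sum_opp [FiniteDimensional K V] [Finite V] {k : ℕ} [Fintype (F.Om k)] {W₀ W₁ : Submodule K V}
    (hW₀ : W₀ ∈ F.Om k) (hW₁ : W₁ ∈ F.Om k) (h01 : W₀ ⊓ F.perp W₁ = ⊥) :
    ∑ W' : F.Om k, (if W₀ ⊓ F.perp W'.1 = ⊥ then
      (Nat.card ↥(stabW F.iso.subtype W₀ ⊓ stabW F.iso.subtype W'.1) : ℂ) else 0) =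
      Nat.card (stabW F.iso.subtype W₀) := by
  have := isoFin F
  let _ : Fintype (stabW F.iso.subtype W₀) := Fintype.ofFinite _
  have e1 : (Nat.card (stabW F.iso.subtype W₀) : ℂ) = ∑ g : stabW F.iso.subtype W₀, (1 : ℂ) := by
    rw [Finset.sum_const, Finset.card_univ, ← Nat.card_eq_fintype_card, nsmul_eq_mul, mul_one]
  rw [e1, ← Finset.sum_fiberwise_of_maps_to (s := (Finset.univ : Finset (stabW F.iso.subtype W₀)))
    (t := (Finset.univ : Finset (F.Om k))) (g := fun g => ⟨W₁.map (F.iso.subtype (g : F.iso) : V →ₗ[K] V),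
      F.Om_map _ _ hW₁⟩) (fun _ _ => Finset.mem_univ _)]
  refine Finset.sum_congr rfl fun W' _ => ?_
  rw [Finset.sum_const, nsmul_eq_mul, mul_one]
  split_ifs with h
  · obtain ⟨u, -, hu0, hu1⟩ := exists_opp_map hW₀.1 hW₁.1 W'.2.1 (by rw [hW₁.2, hW₀.2]) (by rw [W'.2.2, hW₀.2]) h01 h
    have hu : u ∈ stabW F.iso.subtype W₀ := map_eq_of_le F.iso.subtype fun w hw => by
      change (u : V ≃ₗ[K] V) w ∈ W₀
      rw [hu0 w hw]; exact hw
    congr 1
    let _ : Fintype ↥(stabW F.iso.subtype W₀ ⊓ stabW F.iso.subtype W'.1) := Fintype.ofFinite _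
    rw [Nat.card_eq_fintype_card, ← Fintype.card_coe]
    refine Fintype.card_congr ?_
    refine ⟨fun x => ⟨⟨x.1 * u, Subgroup.mul_mem _ x.2.1 hu⟩, ?_⟩,
      fun s => ⟨(s.1 : F.iso) * u⁻¹, Subgroup.mul_mem _ s.1.2 (Subgroup.inv_mem _ hu), ?_⟩, ?_, ?_⟩
    · rw [Finset.mem_filter]
      refine ⟨Finset.mem_univ _, Subtype.ext ?_⟩
      change W₁.map (F.iso.subtype ((x.1 : F.iso) * u) : V →ₗ[K] V) = W'.1
      rw [map_mul_apply, hu1]
      exact x.2.2
    · have h3 := congrArg Subtype.val (Finset.mem_filter.1 s.2).2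
      change W₁.map (F.iso.subtype (s.1 : F.iso) : V →ₗ[K] V) = W'.1 at h3
      change W'.1.map (F.iso.subtype ((s.1 : F.iso) * u⁻¹) : V →ₗ[K] V) = W'.1
      conv_lhs => rw [← hu1]
      rw [← map_mul_apply, inv_mul_cancel_right, h3]
    · intro x
      apply Subtype.ext
      change (x.1 : F.iso) * u * u⁻¹ = x.1
      group
    · intro s
      apply Subtype.ext
      apply Subtype.ext
      change (s.1 : F.iso) * u⁻¹ * u = s.1
      group
  · rw [Finset.card_eq_zero.2, Nat.cast_zero]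
    rw [Finset.filter_eq_empty_iff]
    intro g _ hg
    apply h
    have h3 := congrArg Subtype.val hg
    change W₁.map (F.iso.subtype (g : F.iso) : V →ₗ[K] V) = W'.1 at h3
    have h4 : W₀.map (F.iso.subtype (g : F.iso) : V →ₗ[K] V) = W₀ := g.2
    rw [Submodule.eq_bot_iff]
    rintro x ⟨hx, hx'⟩
    change x ∈ W₀ at hx
    rw [← h4] at hx
    obtain ⟨y, hy, rfl⟩ := hx
    have h5 : y ∈ W₀ ⊓ F.perp W₁ := by
      refine ⟨hy, fun w hw => ?_⟩
      have h6 := hx' ((g : V ≃ₗ[K] V) w) (by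
        rw [← h3]
        exact ⟨w, hw, rfl⟩)
      exact (F.iso_B (g : F.iso) y w).symm.trans h6
    rw [h01] at h5
    rw [(Submodule.mem_bot K).1 h5, map_zero]

end Cfsg.Agent.H47.HT
end

-- part: H47/HT/Norm
section
/-!
# The norm of a Harish-Chandra induced character, self-dual cuspidal (helper47, S4933)

`inner_hc` : `⟨R(c ⊗ χ), R(c ⊗ χ')⟩ = 2 ⟨χ, χ'⟩` for `c` cuspidal with `c ∘ ι = c`.
-/

set_option autoImplicit false
set_option linter.unusedSectionVars false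
set_option linter.style.haveILetI false

open scoped ComplexConjugate
open Cfsg

namespace Cfsg.Agent.H47.HT

open Cfsg.Agent.OddOrderCharacters.Clifford Cfsg.Agent.Characters MulAction Module Cfsg.Agent.H53.HC
open Cfsg.Agent.H477.HC Cfsg.Agent.H477.HC.CForm

universe u v w

variable {K : Type u} [Field K] {V : Type v} [AddCommGroup V] [Module K V] {F : CForm K V}

/-- the local sum -/
noncomputable def JJ (F : CForm K V) [Fintype F.iso] {k : ℕ} (c : GL (Fin k) K → ℂ)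
    (ψ ψ' : F.iso → Submodule K V → ℂ) (W W' : Submodule K V) : ℂ :=
  ∑ g : F.iso, (flagTerm F.iso.subtype c g W * ψ g W) * conj (flagTerm F.iso.subtype c g W' * ψ' g W')

theorem JJ_map [Fintype F.iso] {k : ℕ} {c : GL (Fin k) K → ℂ} (hcl : IsClassFunction _ c)
    {ψ ψ' : F.iso → Submodule K V → ℂ}
    (hψ : ∀ x g W, ψ (x * g * x⁻¹) (W.map (F.iso.subtype x : V →ₗ[K] V)) = ψ g W)
    (hψ' : ∀ x g W, ψ' (x * g * x⁻¹) (W.map (F.iso.subtype x : V →ₗ[K] V)) = ψ' g W) (x : F.iso)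
    (W W' : Submodule K V) :
    JJ F c ψ ψ' (W.map (F.iso.subtype x : V →ₗ[K] V)) (W'.map (F.iso.subtype x : V →ₗ[K] V)) = JJ F c ψ ψ' W W' := by
  unfold JJ
  symm
  refine Fintype.sum_equiv (MulAut.conj x).toEquiv _ _ fun g => ?_
  change _ = (flagTerm F.iso.subtype c (x * g * x⁻¹) _ * ψ (x * g * x⁻¹) _) *
    conj (flagTerm F.iso.subtype c (x * g * x⁻¹) _ * ψ' (x * g * x⁻¹) _)
  rw [flagTerm_conj F.iso.subtype hcl, flagTerm_conj F.iso.subtype hcl, hψ, hψ']

theorem inner_hc_eq [FiniteDimensional K V] [Finite V] [Fintype F.iso] {k : ℕ} [Fintype (F.Om k)]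
    {c : GL (Fin k) K → ℂ} (hcl : IsClassFunction _ c)
    {ψ ψ' : F.iso → Submodule K V → ℂ}
    (hψ : ∀ x g W, ψ (x * g * x⁻¹) (W.map (F.iso.subtype x : V →ₗ[K] V)) = ψ g W)
    (hψ' : ∀ x g W, ψ' (x * g * x⁻¹) (W.map (F.iso.subtype x : V →ₗ[K] V)) = ψ' g W)
    {W₀ : Submodule K V} (hW₀ : W₀ ∈ F.Om k) :
    classInner (F.hc c ψ) (F.hc c ψ') =
      (Nat.card (stabW F.iso.subtype W₀) : ℂ)⁻¹ * ∑ W' : F.Om k, JJ F c ψ ψ' W₀ W'.1 := by
  classical
  have := isoFin F
  rw [Core.classInner_def]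
  have e1 : ∑ g : F.iso, F.hc c ψ g * conj (F.hc c ψ' g) = ∑ W : F.Om k, ∑ W' : F.Om k, JJ F c ψ ψ' W.1 W'.1 := by
    have h1 : ∀ g : F.iso, F.hc c ψ g * conj (F.hc c ψ' g) = ∑ W : F.Om k, ∑ W' : F.Om k,
        (flagTerm F.iso.subtype c g W.1 * ψ g W.1) * conj (flagTerm F.iso.subtype c g W'.1 * ψ' g W'.1) := by
      intro g
      unfold CForm.hc
      rw [map_sum, Finset.sum_mul_sum]
    rw [Finset.sum_congr rfl fun g _ => h1 g, Finset.sum_comm]
    refine Finset.sum_congr rfl fun W _ => ?_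
    rw [Finset.sum_comm]
    rfl
  have e2 : ∀ W : F.Om k, ∑ W' : F.Om k, JJ F c ψ ψ' W.1 W'.1 = ∑ W' : F.Om k, JJ F c ψ ψ' W₀ W'.1 := by
    intro W
    obtain ⟨x, hx⟩ := F.trans_Om hW₀ W.2
    symm
    letI := subAct F.iso.subtype (F.Om k) F.Om_map
    refine Fintype.sum_equiv (MulAction.toPerm x : Equiv.Perm (F.Om k)) _ _ fun W' => ?_
    rw [← hx, ← JJ_map hcl hψ hψ' x W₀ W'.1]
    rfl
  rw [e1, Finset.sum_congr rfl fun W _ => e2 W, Finset.sum_const, Finset.card_univ, ← Nat.card_eq_fintype_card,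
    nsmul_eq_mul, ← mul_assoc]
  congr 1
  have h0 : (Nat.card (F.Om k) : ℂ) ≠ 0 := by
    have : Nonempty (F.Om k) := ⟨⟨W₀, hW₀⟩⟩
    exact Nat.cast_ne_zero.2 Nat.card_pos.ne'
  have h1 : (Nat.card (stabW F.iso.subtype W₀) : ℂ) ≠ 0 := card_ne_zero'
  rw [card_iso_eq F hW₀, Nat.cast_mul]
  field_simp

/-- the local sum over the intersection of the stabilisers -/
theorem JJ_eq_sub [Finite V] [Fintype F.iso] {k : ℕ} {c : GL (Fin k) K → ℂ} {ψ ψ' : F.iso → Submodule K V → ℂ}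
    (W W' : Submodule K V) [Fintype ↥(stabW F.iso.subtype W ⊓ stabW F.iso.subtype W')] :
    JJ F c ψ ψ' W W' = ∑ g : ↥(stabW F.iso.subtype W ⊓ stabW F.iso.subtype W'),
      (flagTerm F.iso.subtype c g W * ψ g W) * conj (flagTerm F.iso.subtype c g W' * ψ' g W') := by
  classical
  have := isoFin F
  unfold JJ
  rw [sum_eq_sum_subgroup (stabW F.iso.subtype W ⊓ stabW F.iso.subtype W')]
  intro g hg
  by_cases h : W.map (F.iso.subtype g : V →ₗ[K] V) = W
  · have h' : ¬ W'.map (F.iso.subtype g : V →ₗ[K] V) = W' := fun h' => hg ⟨h, h'⟩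
    have e : flagTerm F.iso.subtype c g W' = 0 := by
      unfold flagTerm
      rw [dif_neg h']
    rw [e, zero_mul, map_zero, mul_zero]
  · have e : flagTerm F.iso.subtype c g W = 0 := by
      unfold flagTerm
      rw [dif_neg h]
    rw [e, zero_mul, zero_mul]

/-- the local sum vanishes if it vanishes on a subgroup -/
theorem JJ_eq_zero [FiniteDimensional K V] [Finite V] [Finite K] [Fintype F.iso] {k : ℕ} {c : GL (Fin k) K → ℂ}
    (hc : IsCharacter _ c)
    {ψ ψ' : F.iso → Submodule K V → ℂ} {W W' : Submodule K V} (hW : finrank K W = k) (hW' : finrank K W' = k)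
    (h1 : IsCharacter (stabW F.iso.subtype W) fun g => ψ g W)
    (h2 : IsCharacter (stabW F.iso.subtype W') fun g => ψ' g W')
    (h : ∃ L : Subgroup F.iso, L ≤ stabW F.iso.subtype W ∧ L ≤ stabW F.iso.subtype W' ∧
      ∀ [Fintype L], ∑ l : L, (flagTerm F.iso.subtype c l W * ψ l W) *
        conj (flagTerm F.iso.subtype c l W' * ψ' l W') = 0) : JJ F c ψ ψ' W W' = 0 := by
  classical
  have := isoFin F
  obtain ⟨L, hL1, hL2, hL⟩ := h
  let _ : Fintype L := Fintype.ofFinite _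
  let _ : Fintype ↥(stabW F.iso.subtype W ⊓ stabW F.iso.subtype W') := Fintype.ofFinite _
  rw [JJ_eq_sub W W']
  have hcl : IsClassFunction _ c := Core.isCharacter_isClassFunction hc
  -- the two characters of the intersection
  have key : ∀ (U : Submodule K V), finrank K U = k → ∀ (η : F.iso → Submodule K V → ℂ),
      IsCharacter (stabW F.iso.subtype U) (fun g => η g U) →
      IsCharacter (stabW F.iso.subtype U) fun g => flagTerm F.iso.subtype c g U * η g U := by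
    intro U hU η hη
    let b : Basis (Fin k) K U := finBasisOfFinrankEq K U hU
    let f : stabW F.iso.subtype U →* GL (Fin k) K := (glE b).toMonoidHom.comp (resHom F.iso.subtype U)
    have hft : ∀ g : stabW F.iso.subtype U, flagTerm F.iso.subtype c g U = c (f g) := by
      intro g
      rw [flagTerm_of F.iso.subtype c g.2, cl_eq hcl b]
      rfl
    have : (fun g : stabW F.iso.subtype U => flagTerm F.iso.subtype c g U * η g U) =
        (c ∘ f) * (fun g : stabW F.iso.subtype U => η g U) := by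
      ext g
      rw [hft]
      rfl
    rw [this]
    exact Core.isCharacter_mul (Core.isCharacter_comp f hc) hη
  let f : L →* ↥(stabW F.iso.subtype W ⊓ stabW F.iso.subtype W') :=
    Subgroup.inclusion (le_inf hL1 hL2)
  have k1 := Core.isCharacter_comp (Subgroup.inclusion (inf_le_left :
    stabW F.iso.subtype W ⊓ stabW F.iso.subtype W' ≤ stabW F.iso.subtype W)) (key W hW ψ h1)
  have k2 := Core.isCharacter_comp (Subgroup.inclusion (inf_le_right :
    stabW F.iso.subtype W ⊓ stabW F.iso.subtype W' ≤ stabW F.iso.subtype W')) (key W' hW' ψ' h2)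
  have h3 := classInner_eq_zero_of_comp f k1 k2 (by
    rw [Core.classInner_def]
    have := hL
    rw [show (∑ l : L, (((fun g : stabW F.iso.subtype W => flagTerm F.iso.subtype c g W * ψ g W) ∘
      (Subgroup.inclusion inf_le_left)) ∘ f) l * conj ((((fun g : stabW F.iso.subtype W' =>
      flagTerm F.iso.subtype c g W' * ψ' g W') ∘ (Subgroup.inclusion inf_le_right)) ∘ f) l)) = 0 from hL, mul_zero])
  rw [Core.classInner_def] at h3
  rcases mul_eq_zero.1 h3 with h | h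
  · exact absurd h (inv_ne_zero card_ne_zero')
  · exact h

/-- the local sums at the non-orthogonal non-opposite subspaces and at the orthogonal ones which meet -/
theorem JJ_far [FiniteDimensional K V] [Finite V] [Finite K] [Fintype F.iso] {k : ℕ} {c : GL (Fin k) K → ℂ}
    (hc : IsCharacter _ c) (hcusp : _root_.Cfsg.Agent.H53.HC.IsCusp c)
    {ψ ψ' : F.iso → Submodule K V → ℂ} {W W' : Submodule K V} (hW : W ∈ F.Om k) (hW' : W' ∈ F.Om k)
    (h1 : IsCharacter (stabW F.iso.subtype W) fun g => ψ g W)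
    (h2 : IsCharacter (stabW F.iso.subtype W') fun g => ψ' g W')
    (hT : ∀ g ∈ F.TT W, ψ g W = ψ 1 W) (hT' : ∀ g ∈ F.TT W', ψ' g W' = ψ' 1 W') (hne : W' ≠ W)
    (h0 : W ⊓ F.perp W' ≠ ⊥) (h3 : W ⊓ F.perp W' = W → W ⊓ W' ≠ ⊥) : JJ F c ψ ψ' W W' = 0 := by
  classical
  have hcl : IsClassFunction _ c := Core.isCharacter_isClassFunction hc
  refine JJ_eq_zero hc hW.2 hW'.2 h1 h2 ?_
  let ψc : F.iso → Submodule K V → ℂ := fun g U => if U = W then ψ g W else if U = W' then ψ' g W' else 0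
  have c1 : ∀ g, ψc g W = ψ g W := fun g => if_pos rfl
  have c2 : ∀ g, ψc g W' = ψ' g W' := fun g => by
    change (if W' = W then ψ g W else if W' = W' then ψ' g W' else 0) = _
    rw [if_neg hne, if_pos rfl]
  have hψT : ∀ U ∈ F.Om k, ∀ g ∈ F.TT U, ψc g U = ψc 1 U := by
    intro U _ g hg
    by_cases hU : U = W
    · subst hU
      rw [c1, c1]; exact hT g hg
    · by_cases hU' : U = W'
      · subst hU'
        rw [c2, c2]; exact hT' g hg
      · change (if U = W then ψ g W else if U = W' then ψ' g W' else 0) =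
          (if U = W then ψ 1 W else if U = W' then ψ' 1 W' else 0)
        rw [if_neg hU, if_neg hU', if_neg hU, if_neg hU']
  have key : F.Van c ψc W W' := by
    by_cases h4 : W ⊓ F.perp W' = W
    · exact van_case2 hcl hcusp hψT hW hW' (inf_eq_left.1 h4) (h3 h4) hne
    · exact van_case1 hcl hcusp hψT hW hW' h0 h4
  obtain ⟨L, hL1, hL2, hL⟩ := key
  refine ⟨L, hL1, hL2, fun {_} => ?_⟩
  rw [← hL]
  refine Finset.sum_congr rfl fun l _ => ?_
  rw [c1, c2]

/-- the inner product of two products over a joint surjection -/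
theorem inner_pair {S A B : Type*} [Group S] [Group A] [Group B] [Fintype S] [Fintype A] [Fintype B] (f : S →* A × B)
    (hf : Function.Surjective f) (a a' : A → ℂ) (b b' : B → ℂ) :
    ∑ s : S, (a (f s).1 * b (f s).2) * conj (a' (f s).1 * b' (f s).2) =
      (Nat.card S : ℂ) * (classInner a a' * classInner b b') := by
  classical
  rw [sum_comp_hom f hf (fun x => (a x.1 * b x.2) * conj (a' x.1 * b' x.2)), Core.classInner_def, Core.classInner_def,
    Fintype.sum_prod_type]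
  have e : ∀ x : A, ∑ y : B, a x * b y * conj (a' x * b' y) = (a x * conj (a' x)) * ∑ y : B, b y * conj (b' y) := by
    intro x
    rw [Finset.mul_sum]
    refine Finset.sum_congr rfl fun y _ => ?_
    rw [map_mul]
    ring
  rw [Finset.sum_congr rfl fun x _ => e x, ← Finset.sum_mul]
  have h1 : (Nat.card S : ℂ) = (Nat.card f.ker : ℂ) * (Nat.card A * Nat.card B) := by
    have h2 : Nat.card S = Nat.card (A × B) * Nat.card f.ker := by
      rw [← Nat.card_congr (QuotientGroup.quotientKerEquivOfSurjective f hf).toEquiv,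
        ← Subgroup.card_eq_card_quotient_mul_card_subgroup]
    rw [h2, Nat.card_prod]
    push_cast
    ring
  have hA : (Nat.card A : ℂ) ≠ 0 := card_ne_zero'
  have hB : (Nat.card B : ℂ) ≠ 0 := card_ne_zero'
  rw [h1]
  field_simp

/-- **The norm.** `c` cuspidal with `c ∘ ι = c`, `ψ g W₀ = χ (ρ g)`, `ψ' g W₀ = χ' (ρ g)`. -/
theorem inner_hc [FiniteDimensional K V] [Finite V] [Finite K] [Fintype F.iso] {k : ℕ} [Fintype (F.Om k)]
    {c : GL (Fin k) K → ℂ} (hc : IsIrrCharacter _ c) (hcusp : _root_.Cfsg.Agent.H53.HC.IsCusp c) (hself : c ∘ F.iota k = c)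
    {ψ ψ' : F.iso → Submodule K V → ℂ}
    (hψ : ∀ x g W, ψ (x * g * x⁻¹) (W.map (F.iso.subtype x : V →ₗ[K] V)) = ψ g W)
    (hψ' : ∀ x g W, ψ' (x * g * x⁻¹) (W.map (F.iso.subtype x : V →ₗ[K] V)) = ψ' g W)
    {W₀ : Submodule K V} (hW₀ : W₀ ∈ F.Om k) (hk : 0 < k) {G' : Type w} [Group G'] [Fintype G']
    (ρ : stabW F.iso.subtype W₀ →* G') (hρT : ∀ g : stabW F.iso.subtype W₀, (g : F.iso) ∈ F.TT W₀ → ρ g = 1)
    (hρs : ∀ (a : W₀ ≃ₗ[K] W₀) (b : G'), ∃ g : stabW F.iso.subtype W₀, ρ g = b ∧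
      ∀ w : W₀, ((g : F.iso) : V ≃ₗ[K] V) w = a w)
    {χ χ' : G' → ℂ} (hχ : IsCharacter G' χ) (hχ' : IsCharacter G' χ')
    (e : ∀ g : stabW F.iso.subtype W₀, ψ g W₀ = χ (ρ g)) (e' : ∀ g : stabW F.iso.subtype W₀, ψ' g W₀ = χ' (ρ g))
    (hopp : ∀ W' ∈ F.Om k, W₀ ⊓ F.perp W' = ⊥ → ∀ g ∈ stabW F.iso.subtype W₀, g ∈ stabW F.iso.subtype W' →
      ψ' g W' = ψ' g W₀)
    (hperp : ∀ W' ∈ F.Om k, W₀ ≤ F.perp W' → W₀ ⊓ W' = ⊥ → JJ F c ψ ψ' W₀ W' = 0) :
    classInner (F.hc c ψ) (F.hc c ψ') = 2 * classInner χ χ' := by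
  classical
  have := isoFin F
  have hcl := Core.isIrr_isClassFunction hc
  have hcc := Core.isIrr_isCharacter hc
  obtain ⟨W₁, hW₁, h01⟩ := F.exists_opp hW₀
  let b₀ : Basis (Fin k) K W₀ := finBasisOfFinrankEq K W₀ hW₀.2
  letI : Fintype (GL (Fin k) K) := Fintype.ofFinite _
  letI : Fintype (stabW F.iso.subtype W₀) := Fintype.ofFinite _
  have hS0 : (Nat.card (stabW F.iso.subtype W₀) : ℂ) ≠ 0 := card_ne_zero'
  have hcirr : classInner c c = 1 := Core.classInner_irr_self hc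
  -- the diagonal term
  have hself0 : W₀ ⊓ F.perp W₀ ≠ ⊥ := by
    intro h
    have h1 : W₀ ≤ W₀ ⊓ F.perp W₀ := le_inf le_rfl hW₀.1.le_perp
    rw [h] at h1
    have h2 := hW₀.2
    rw [le_bot_iff.1 h1, finrank_bot] at h2
    omega
  -- the two characters
  have hψc : IsCharacter (stabW F.iso.subtype W₀) fun g => ψ g W₀ := by
    have : (fun g : stabW F.iso.subtype W₀ => ψ g W₀) = χ ∘ ρ := funext e
    rw [this]; exact Core.isCharacter_comp ρ hχ
  have hψc' : IsCharacter (stabW F.iso.subtype W₀) fun g => ψ' g W₀ := by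
    have : (fun g : stabW F.iso.subtype W₀ => ψ' g W₀) = χ' ∘ ρ := funext e'
    rw [this]; exact Core.isCharacter_comp ρ hχ'
  have hT : ∀ g ∈ F.TT W₀, ψ g W₀ = ψ 1 W₀ := by
    intro g hg
    have h1 := e ⟨g, hg.1⟩
    have h2 := e 1
    rw [hρT ⟨g, hg.1⟩ hg] at h1
    rw [map_one] at h2
    exact h1.trans h2.symm
  have hT' : ∀ g ∈ F.TT W₀, ψ' g W₀ = ψ' 1 W₀ := by
    intro g hg
    have h1 := e' ⟨g, hg.1⟩
    have h2 := e' 1
    rw [hρT ⟨g, hg.1⟩ hg] at h1
    rw [map_one] at h2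
    exact h1.trans h2.symm
  -- transport of the properties of `ψ'` to `W'`
  have tr : ∀ W' ∈ F.Om k, IsCharacter (stabW F.iso.subtype W') (fun g => ψ' g W') ∧
      ∀ g ∈ F.TT W', ψ' g W' = ψ' 1 W' := by
    intro W' hW'
    obtain ⟨x, hx⟩ := F.trans_Om hW₀ hW'
    subst hx
    have hv : ∀ g : F.iso, ψ' g (W₀.map (F.iso.subtype x : V →ₗ[K] V)) = ψ' (x⁻¹ * g * x) W₀ := by
      intro g
      rw [← hψ' x (x⁻¹ * g * x) W₀]
      congr 1
      group
    constructor
    · let f : stabW F.iso.subtype (W₀.map (F.iso.subtype x : V →ₗ[K] V)) →* stabW F.iso.subtype W₀ :=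
        { toFun := fun g => ⟨x⁻¹ * g * x, stabW_map.1 g.2⟩
          map_one' := by
            apply Subtype.ext
            change x⁻¹ * 1 * x = 1
            group
          map_mul' := fun g h => by
            apply Subtype.ext
            change x⁻¹ * (g * h) * x = x⁻¹ * g * x * (x⁻¹ * h * x)
            group }
      have : (fun g : stabW F.iso.subtype (W₀.map (F.iso.subtype x : V →ₗ[K] V)) =>
          ψ' g (W₀.map (F.iso.subtype x : V →ₗ[K] V))) = (fun g : stabW F.iso.subtype W₀ => ψ' g W₀) ∘ f :=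
        funext fun g => hv g
      rw [this]
      exact Core.isCharacter_comp f hψc'
    · intro g hg
      rw [hv, hv, hT' (x⁻¹ * g * x) ?_]
      · congr 1
        group
      · -- `TT` is transported
        refine ⟨stabW_map.1 hg.1, fun v hv => ?_⟩
        have h1 : (x : V ≃ₗ[K] V) v ∈ F.perp (W₀.map (F.iso.subtype x : V →ₗ[K] V)) := by
          rintro _ ⟨w, hw, rfl⟩
          exact (F.iso_B x v w).trans (hv w hw)
        obtain ⟨y, hy, hy'⟩ := hg.2 _ h1
        have h2 : ((x⁻¹ * g * x : F.iso) : V ≃ₗ[K] V) v - v =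
            ((x⁻¹ : F.iso) : V ≃ₗ[K] V) ((g : V ≃ₗ[K] V) ((x : V ≃ₗ[K] V) v) - (x : V ≃ₗ[K] V) v) := by
          rw [map_sub]
          congr 1
          exact ((x : V ≃ₗ[K] V).symm_apply_apply v).symm
        rw [h2, ← hy']
        have h3 : ((x⁻¹ : F.iso) : V ≃ₗ[K] V) ((F.iso.subtype x : V →ₗ[K] V) y) = y :=
          (x : V ≃ₗ[K] V).symm_apply_apply y
        rw [h3]; exact hy
  -- the value of the local sums
  have val : ∀ W' : F.Om k, JJ F c ψ ψ' W₀ W'.1 =
      (if W'.1 = W₀ then (Nat.card (stabW F.iso.subtype W₀) : ℂ) * classInner χ χ' else 0) +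
      (if W₀ ⊓ F.perp W'.1 = ⊥ then
        (Nat.card ↥(stabW F.iso.subtype W₀ ⊓ stabW F.iso.subtype W'.1) : ℂ) else 0) * classInner χ χ' := by
    intro W'
    letI : Fintype ↥(stabW F.iso.subtype W₀ ⊓ stabW F.iso.subtype W'.1) := Fintype.ofFinite _
    by_cases h1 : W'.1 = W₀
    · rw [if_pos h1, h1, if_neg hself0, zero_mul, add_zero]
      letI : Fintype ↥(stabW F.iso.subtype W₀ ⊓ stabW F.iso.subtype W₀) := Fintype.ofFinite _
      rw [JJ_eq_sub W₀ W₀]
      let f : ↥(stabW F.iso.subtype W₀ ⊓ stabW F.iso.subtype W₀) →* GL (Fin k) K × G' :=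
        (((glE b₀).toMonoidHom.comp (resHom F.iso.subtype W₀)).prod ρ).comp (Subgroup.inclusion inf_le_left)
      have hf : Function.Surjective f := by
        rintro ⟨A, b⟩
        obtain ⟨a, rfl⟩ := (glE b₀).surjective A
        obtain ⟨g, hg1, hg2⟩ := hρs a b
        refine ⟨⟨g, g.2, g.2⟩, Prod.ext ?_ hg1⟩
        change glE b₀ (res (F.iso.subtype g) W₀ _) = glE b₀ a
        congr 1
        ext w
        exact hg2 w
      have h2 := inner_pair f hf c c χ χ'
      have hcd : Nat.card ↥(stabW F.iso.subtype W₀ ⊓ stabW F.iso.subtype W₀) = Nat.card (stabW F.iso.subtype W₀) := by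
        rw [inf_idem]
      rw [hcirr, one_mul, hcd] at h2
      rw [← h2]
      refine Finset.sum_congr rfl fun g _ => ?_
      rw [flagTerm_of F.iso.subtype c g.2.1, cl_eq hcl b₀]
      have h3 := e ⟨g, g.2.1⟩
      have h4 := e' ⟨g, g.2.1⟩
      change ψ (g : F.iso) W₀ = _ at h3
      change ψ' (g : F.iso) W₀ = _ at h4
      rw [h3, h4]
      rfl
    · rw [if_neg h1, zero_add]
      by_cases h2 : W₀ ⊓ F.perp W'.1 = ⊥
      · rw [if_pos h2]
        rw [JJ_eq_sub W₀ W'.1]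
        obtain ⟨b, b', hb⟩ := exists_dual_basis hW₀.2 W'.2.2 h2
        let f : ↥(stabW F.iso.subtype W₀ ⊓ stabW F.iso.subtype W'.1) →* GL (Fin k) K × G' :=
          (((glE b).toMonoidHom.comp (resHom F.iso.subtype W₀)).prod ρ).comp (Subgroup.inclusion inf_le_left)
        have hf : Function.Surjective f := by
          rintro ⟨A, y⟩
          obtain ⟨a, rfl⟩ := (glE b).surjective A
          obtain ⟨g, hg1, hg2⟩ := hρs a y
          -- correct `g` by an element of `TT W₀`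
          have h3 : W₀ ⊓ F.perp (W'.1.map (F.iso.subtype (g : F.iso) : V →ₗ[K] V)) = ⊥ := by
            rw [Submodule.eq_bot_iff]
            rintro x ⟨hx, hx'⟩
            have h4 : W₀.map (F.iso.subtype (g : F.iso) : V →ₗ[K] V) = W₀ := g.2
            change x ∈ W₀ at hx
            rw [← h4] at hx
            obtain ⟨z, hz, rfl⟩ := hx
            have h5 : z ∈ W₀ ⊓ F.perp W'.1 := by
              refine ⟨hz, fun w hw => ?_⟩
              have h6 := hx' (((g : F.iso) : V ≃ₗ[K] V) w) ⟨w, hw, rfl⟩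
              exact (F.iso_B (g : F.iso) z w).symm.trans h6
            rw [h2] at h5
            rw [(Submodule.mem_bot K).1 h5, map_zero]
          obtain ⟨u, hu1, hu2, hu3⟩ := exists_opp_map hW₀.1 (F.Om_map (g : F.iso) _ W'.2).1 W'.2.1
            (by rw [(F.Om_map (g : F.iso) _ W'.2).2, hW₀.2]) (by rw [W'.2.2, hW₀.2]) h3 h2
          have hu : u ∈ stabW F.iso.subtype W₀ := hu1.1
          refine ⟨⟨u * g, Subgroup.mul_mem _ hu g.2, ?_⟩, Prod.ext ?_ ?_⟩
          · change W'.1.map (F.iso.subtype (u * (g : F.iso)) : V →ₗ[K] V) = W'.1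
            rw [map_mul_apply, hu3]
          · change glE b (res (F.iso.subtype (u * (g : F.iso))) W₀ _) = glE b a
            congr 1
            ext w
            change (u : V ≃ₗ[K] V) (((g : F.iso) : V ≃ₗ[K] V) w) = a w
            rw [hg2 w]
            exact hu2 _ (a w).2
          · change ρ (⟨u, hu⟩ * g) = y
            rw [map_mul, hρT ⟨u, hu⟩ hu1, one_mul, hg1]
        have h5 := inner_pair f hf c c χ χ'
        rw [hcirr, one_mul] at h5
        rw [← h5]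
        refine Finset.sum_congr rfl fun g _ => ?_
        rw [flagTerm_of F.iso.subtype c g.2.1, flagTerm_of F.iso.subtype c g.2.2, cl_eq hcl b, cl_eq hcl b',
          glE_opp hb g.2.1 g.2.2, hopp W'.1 W'.2 h2 g g.2.1 g.2.2]
        have h3 := e ⟨g, g.2.1⟩
        have h4 := e' ⟨g, g.2.1⟩
        change ψ (g : F.iso) W₀ = _ at h3
        change ψ' (g : F.iso) W₀ = _ at h4
        rw [h3, h4]
        have h6 := congrFun hself (glE b (res (F.iso.subtype (g : F.iso)) W₀ g.2.1))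
        rw [Function.comp_apply] at h6
        rw [h6]
        rfl
      · rw [if_neg h2, zero_mul]
        by_cases h3 : W₀ ⊓ F.perp W'.1 = W₀ ∧ W₀ ⊓ W'.1 = ⊥
        · exact hperp W'.1 W'.2 (inf_eq_left.1 h3.1) h3.2
        · exact JJ_far hcc hcusp hW₀ W'.2 hψc (tr W'.1 W'.2).1 hT (tr W'.1 W'.2).2 h1 h2 fun h4 h5 => h3 ⟨h4, h5⟩
  rw [inner_hc_eq hcl hψ hψ' hW₀, Finset.sum_congr rfl fun W' _ => val W', Finset.sum_add_distrib, ← Finset.sum_mul,
    sum_opp hW₀ hW₁ h01, Finset.sum_eq_single (⟨W₀, hW₀⟩ : F.Om k)]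
  · rw [if_pos rfl]
    field_simp
    ring
  · intro W' _ hW'
    rw [if_neg fun h => hW' (Subtype.ext h)]
  · intro h; exact absurd (Finset.mem_univ _) h

end Cfsg.Agent.H47.HT
end

-- part: H195/HT/Fac
section
/-!
# The `p`-part of the order of the isometry groups of rank `2c` (helper195, for S4933, box H2 (C))

`orderOf q = 2c` in `ZMod p`, `v_p(q^c + 1) = a`: the exponent of `p` in `|F.iso|` is `2 a` for the four models of Witt index `2c`
(`minusF` only for `c ≥ 2`).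
-/

set_option autoImplicit false
set_option linter.unusedSectionVars false

namespace Cfsg.Agent.H195.HT

open Module Cfsg.Agent.H477.HC Cfsg Cfsg.Agent.H35.HT.Val Cfsg.Agent.H35.HT.Idx CForm

universe u

variable (K : Type u) [Field K] [Finite K] {p a c : ℕ} [hp : Fact p.Prime]

theorem fac_aux (hp2 : p ≠ 2) {N w : ℕ} (hw : w = 2) (ha : padicValNat p (Nat.card K ^ c + 1) = a)
    (h : (padicValNat p N : ℤ) = (w : ℤ) * _root_.Cfsg.Agent.H35.HT.Val.B p (Nat.card K) c + (padicValNat p w.factorial : ℤ)) :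
    N.factorization p = 2 * a := by
  have h2 : padicValNat p (Nat.factorial 2) = 0 := by
    rw [Nat.factorial_two]
    exact v_two (hp.out.odd_of_ne_two hp2)
  rw [hw, B_nat, ha, h2] at h
  rw [Nat.factorization_def _ hp.out]
  have h3 : (padicValNat p N : ℤ) = ((2 * a : ℕ) : ℤ) := by
    rw [h]
    push_cast
    ring
  exact_mod_cast h3

theorem fac_sp (hp2 : p ≠ 2) (hc0 : 0 < c)
    (ho : orderOf ((Nat.card K : ℕ) : ZMod p) = 2 * c) (ha : padicValNat p (Nat.card K ^ c + 1) = a) :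
    (Nat.card (spF K (2 * c)).iso).factorization p = 2 * a :=
  fac_aux K hp2 (by unfold wSp; exact Nat.mul_div_cancel _ hc0) ha (v_iso_sp K ho hc0 (2 * c))

theorem fac_plus (hp2 : p ≠ 2) (hc0 : 0 < c)
    (ho : orderOf ((Nat.card K : ℕ) : ZMod p) = 2 * c) (ha : padicValNat p (Nat.card K ^ c + 1) = a) :
    (Nat.card (plusF K (2 * c)).iso).factorization p = 2 * a :=
  fac_aux K hp2 (by
    unfold wPlus
    rw [Nat.mul_div_cancel _ hc0, if_neg]
    rintro ⟨-, h⟩
    exact absurd h (by decide)) ha (v_iso_plus K ho hc0 (2 * c))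

theorem odd_card (h2 : (2 : K) ≠ 0) : Odd (Nat.card K) := by
  have := Fintype.ofFinite K
  rw [Nat.card_eq_fintype_card, Nat.odd_iff]
  refine FiniteField.odd_card_of_char_ne_two fun h => h2 ?_
  have : CharP K 2 := ringChar.of_eq h
  exact CharTwo.two_eq_zero

theorem fac_odd (h2 : (2 : K) ≠ 0) (hp2 : p ≠ 2) (hc0 : 0 < c)
    (ho : orderOf ((Nat.card K : ℕ) : ZMod p) = 2 * c) (ha : padicValNat p (Nat.card K ^ c + 1) = a) :
    (Nat.card (oddF K (2 * c) h2).iso).factorization p = 2 * a :=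
  fac_aux K hp2 (by unfold wSp; exact Nat.mul_div_cancel _ hc0) ha (v_iso_odd K h2 (odd_card K h2) ho hc0 (2 * c))

theorem fac_minus {α β : K} (hab : ∀ z₁ z₂ : K, z₁ ^ 2 + α * z₁ * z₂ + β * z₂ ^ 2 = 0 → z₁ = 0 ∧ z₂ = 0)
    (hp2 : p ≠ 2) (hc1 : 1 < c)
    (ho : orderOf ((Nat.card K : ℕ) : ZMod p) = 2 * c) (ha : padicValNat p (Nat.card K ^ c + 1) = a) :
    (Nat.card (minusF K (2 * c) α β hab).iso).factorization p = 2 * a :=
  fac_aux K hp2 (by
    unfold wMinus
    have h1 : (2 * c + 1) / c = 2 := by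
      rw [Nat.div_eq_iff (by omega)]
      constructor <;> omega
    rw [h1, if_neg]
    rintro ⟨h, -⟩
    have h3 : c ∣ 1 := (Nat.dvd_add_right (Dvd.intro_left 2 rfl)).1 h
    exact absurd (Nat.le_of_dvd one_pos h3) (by omega)) ha (v_iso_minus K ho (by omega) (2 * c) α β hab)

end Cfsg.Agent.H195.HT
end

-- part: H168/HT/Reg
section
/-!
# S4933, box H2c: regular `p`-elements in a form with two anisotropic blocks (helper168)

`Reg x V₀ V₁ V₂` : `x` is trivial on `V₀`, preserves `V₁` and `V₂`, is not trivial on them, and a polynomial of `x` is zero on `V₁`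
and injective on `V₂`. For a `p`-element `x`, `dim V₁ = dim V₂ = e` the order of `|K|` modulo `p`:
* `irr` : `V₁` and `V₂` are irreducible under `x`;
* `Reg.map_mem` : the centralizer of `x` preserves `V₀`, `V₁` and `V₂`;
* `comm_on` : the centralizer of `x` is commutative on `V₁` and `V₂`;
* `Reg.no_ts` : no totally singular subspace of dimension `e` is invariant under `x s`, `s` a `p`-regular element commuting
  with `x`.
-/

set_option autoImplicit false
set_option linter.unusedSectionVars false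

namespace Cfsg.Agent.H168.HT

open Polynomial Module

universe u v

variable {K : Type u} [Field K] {V : Type v} [AddCommGroup V] [Module K V]

/-- regular elements for the decomposition `V₀ + V₁ + V₂` -/
structure Reg (x : V ≃ₗ[K] V) (V₀ V₁ V₂ : Submodule K V) : Prop where
  fix : ∀ v ∈ V₀, x v = v
  inv1 : ∀ v ∈ V₁, x v ∈ V₁
  inv2 : ∀ v ∈ V₂, x v ∈ V₂
  ne1 : ∃ v ∈ V₁, x v ≠ v
  ne2 : ∃ v ∈ V₂, x v ≠ v
  sep : ∃ f : K[X], (∀ v ∈ V₁, aeval (x : Module.End K V) f v = 0) ∧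
    ∀ v ∈ V₂, aeval (x : Module.End K V) f v = 0 → v = 0

section centralizer

variable [FiniteDimensional K V] {x : V ≃ₗ[K] V} {V₀ V₁ V₂ : Submodule K V}

theorem aeval_mem {T : Module.End K V} {U : Submodule K V} (hU : ∀ u ∈ U, T u ∈ U) (f : K[X]) {u : V} (hu : u ∈ U) :
    aeval T f u ∈ U := by
  induction f using Polynomial.induction_on' with
  | add p q hp hq => rw [map_add, LinearMap.add_apply]; exact U.add_mem hp hq
  | monomial n a =>
    rw [aeval_monomial, Module.End.mul_apply, Module.algebraMap_end_apply]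
    refine U.smul_mem _ ?_
    induction n with
    | zero => simpa using hu
    | succ n ih => rw [pow_succ', Module.End.mul_apply]; exact hU _ ih

theorem aeval_comm {T g : Module.End K V} (hg : g * T = T * g) (f : K[X]) (v : V) : aeval T f (g v) = g (aeval T f v) := by
  have h1 : Commute g (aeval T f) := by
    induction f using Polynomial.induction_on' with
    | add p q hp hq => rw [map_add]; exact hp.add_right hq
    | monomial n a =>
      rw [aeval_monomial]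
      exact (show Commute g (algebraMap K (Module.End K V) a) from (Algebra.commutes a g).symm).mul_right
        (Commute.pow_right hg n)
  have h2 := LinearMap.congr_fun h1 v
  rw [Module.End.mul_apply, Module.End.mul_apply] at h2
  exact h2.symm

theorem exists_dec (htop : V₀ ⊔ V₁ ⊔ V₂ = ⊤) (v : V) : ∃ v₀ ∈ V₀, ∃ v₁ ∈ V₁, ∃ v₂ ∈ V₂, v = v₀ + v₁ + v₂ := by
  have h1 : v ∈ V₀ ⊔ V₁ ⊔ V₂ := by rw [htop]; trivial
  obtain ⟨a, ha, v₂, h₂, rfl⟩ := Submodule.mem_sup.1 h1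
  obtain ⟨v₀, h₀, v₁, h₁, rfl⟩ := Submodule.mem_sup.1 ha
  exact ⟨v₀, h₀, v₁, h₁, v₂, h₂, rfl⟩

end centralizer

open Cfsg.Agent.H477.HC

end Cfsg.Agent.H168.HT
end

-- part: H168/HT/Cnt
section
/-!
# S4933, box H2, piece (D): the number of regular elements (helper168)

`card_reg` : `(p ^ a - 1) * (p ^ a - 1 - 2 c) ≤ |RegE P|`.
-/

set_option autoImplicit false
set_option linter.unusedSectionVars false

namespace Cfsg.Agent.H168.HT

open Polynomial Module

universe u v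

variable {K : Type u} [Field K] {V : Type v} [AddCommGroup V] [Module K V] [FiniteDimensional K V]

/-- an irreducible block is cyclic under the polynomials of `x` -/
theorem exists_gen {x : Module.End K V} {U : Submodule K V} (hi : ∀ v ∈ U, x v ∈ U)
    (hirr : ∀ X ≤ U, (∀ u ∈ X, x u ∈ X) → X = ⊥ ∨ X = U) {v : V} (hv : v ∈ U) (hv0 : v ≠ 0) {w : V} (hw : w ∈ U) :
    ∃ f : K[X], w = aeval x f v := by
  let X' : Submodule K V :=
    { carrier := {u | ∃ f : K[X], u = aeval x f v}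
      add_mem' := by
        rintro a b ⟨f, rfl⟩ ⟨g, rfl⟩
        exact ⟨f + g, by rw [map_add, LinearMap.add_apply]⟩
      zero_mem' := ⟨0, by rw [map_zero, LinearMap.zero_apply]⟩
      smul_mem' := by
        rintro c a ⟨f, rfl⟩
        exact ⟨c • f, by rw [map_smul, LinearMap.smul_apply]⟩ }
  have hU : X' = U := by
    rcases hirr X' (by rintro u ⟨f, rfl⟩; exact aeval_mem hi f hv) (by
      rintro u ⟨f, rfl⟩
      exact ⟨X * f, by rw [map_mul, aeval_X, Module.End.mul_apply]⟩) with h | h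
    · exfalso
      apply hv0
      have h1 : v ∈ X' := ⟨1, by rw [map_one, Module.End.one_apply]⟩
      rw [h] at h1
      exact h1
    · exact h
  rw [← hU] at hw
  exact hw

theorem aeval_aeval_comm (x : Module.End K V) (f g : K[X]) (v : V) : aeval x f (aeval x g v) = aeval x g (aeval x f v) := by
  rw [← Module.End.mul_apply, ← Module.End.mul_apply, ← map_mul, ← map_mul, mul_comm]

/-- an endomorphism commuting with `x` is a polynomial in `x` on an irreducible block -/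
theorem exists_poly_on {x : Module.End K V} {U : Submodule K V} (hi : ∀ v ∈ U, x v ∈ U)
    (hirr : ∀ X ≤ U, (∀ u ∈ X, x u ∈ X) → X = ⊥ ∨ X = U) {y : Module.End K V} (hy : y * x = x * y)
    (hyU : ∀ v ∈ U, y v ∈ U) : ∃ g : K[X], ∀ v ∈ U, y v = aeval x g v := by
  by_cases h0 : ∀ v ∈ U, v = 0
  · exact ⟨0, fun v hv => by rw [h0 v hv, map_zero, map_zero]⟩
  · push Not at h0
    obtain ⟨v, hv, hv0⟩ := h0
    obtain ⟨g, hg⟩ := exists_gen hi hirr hv hv0 (hyU v hv)
    refine ⟨g, fun w hw => ?_⟩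
    obtain ⟨c, rfl⟩ := exists_gen hi hirr hv hv0 hw
    rw [← aeval_comm hy, hg, aeval_aeval_comm]

/-- a polynomial of `x` which is injective on an irreducible block is invertible there -/
theorem exists_inv_on {x : Module.End K V} {U : Submodule K V} (hi : ∀ v ∈ U, x v ∈ U)
    (hirr : ∀ X ≤ U, (∀ u ∈ X, x u ∈ X) → X = ⊥ ∨ X = U) {h : K[X]} (hh : ∀ v ∈ U, aeval x h v = 0 → v = 0) :
    ∃ g : K[X], ∀ v ∈ U, aeval x (g * h) v = v := by
  by_cases h0 : ∀ v ∈ U, v = 0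
  · exact ⟨0, fun v hv => by rw [h0 v hv, map_zero]⟩
  · push Not at h0
    obtain ⟨v, hv, hv0⟩ := h0
    have h1 : aeval x h v ≠ 0 := fun h2 => hv0 (hh v hv h2)
    obtain ⟨g, hg⟩ := exists_gen hi hirr (aeval_mem hi h hv) h1 hv
    refine ⟨g, fun w hw => ?_⟩
    obtain ⟨c, rfl⟩ := exists_gen hi hirr hv hv0 hw
    rw [aeval_aeval_comm, map_mul, Module.End.mul_apply, ← hg]

/-- **regular elements generate**: an endomorphism commuting with the regular element `x`, which preserves `V₁` and `V₂` and is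
trivial on `V₀`, is a polynomial in `x` -/
theorem Reg.exists_poly {x : V ≃ₗ[K] V} {V₀ V₁ V₂ : Submodule K V} (h : Reg x V₀ V₁ V₂) (htop : V₀ ⊔ V₁ ⊔ V₂ = ⊤)
    (i1 : ∀ v ∈ V₁, x v = v → v = 0) (i2 : ∀ v ∈ V₂, x v = v → v = 0)
    (j1 : ∀ U ≤ V₁, (∀ u ∈ U, x u ∈ U) → U = ⊥ ∨ U = V₁) (j2 : ∀ U ≤ V₂, (∀ u ∈ U, x u ∈ U) → U = ⊥ ∨ U = V₂)
    {y : Module.End K V} (hy : y * (x : Module.End K V) = (x : Module.End K V) * y) (hy0 : ∀ v ∈ V₀, y v = v)
    (hy1 : ∀ v ∈ V₁, y v ∈ V₁) (hy2 : ∀ v ∈ V₂, y v ∈ V₂) : ∃ f : K[X], y = aeval (x : Module.End K V) f := by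
  set T : Module.End K V := (x : Module.End K V) with hT
  have hTi1 : ∀ v ∈ V₁, T v ∈ V₁ := h.inv1
  have hTi2 : ∀ v ∈ V₂, T v ∈ V₂ := h.inv2
  obtain ⟨f, hf1, hf2⟩ := h.sep
  have hX1 : ∀ v, aeval T (X - 1 : K[X]) v = x v - v := by
    intro v
    rw [map_sub, aeval_X, map_one, LinearMap.sub_apply, Module.End.one_apply]
    rfl
  obtain ⟨u, hu⟩ := exists_inv_on (x := T) hTi2 j2 (h := f * (X - 1)) (by
    intro v hv h0
    rw [map_mul, Module.End.mul_apply, hX1] at h0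
    exact i2 v hv (sub_eq_zero.1 (hf2 _ (V₂.sub_mem (h.inv2 v hv) hv) h0)))
  obtain ⟨w, hw⟩ := exists_inv_on (x := T) hTi1 j1 (h := X - 1) (by
    intro v hv h0
    rw [hX1] at h0
    exact i1 v hv (sub_eq_zero.1 h0))
  obtain ⟨g1, hg1⟩ := exists_poly_on (x := T) hTi1 j1 hy hy1
  obtain ⟨g2, hg2⟩ := exists_poly_on (x := T) hTi2 j2 hy hy2
  set e2 : K[X] := u * (f * (X - 1)) with he2
  set e1 : K[X] := (1 - e2) * (w * (X - 1)) with he1
  -- the values on the blocks
  have a2 : ∀ v ∈ V₂, aeval T e2 v = v := hu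
  have b2 : ∀ v ∈ V₁, aeval T e2 v = 0 := by
    intro v hv
    rw [he2, map_mul, Module.End.mul_apply, map_mul, Module.End.mul_apply, hX1, hf1 _ (V₁.sub_mem (h.inv1 v hv) hv), map_zero]
  have c2 : ∀ v ∈ V₀, aeval T e2 v = 0 := by
    intro v hv
    rw [he2, map_mul, Module.End.mul_apply, map_mul, Module.End.mul_apply, hX1, h.fix v hv, sub_self, map_zero, map_zero]
  have a1 : ∀ v ∈ V₁, aeval T e1 v = v := by
    intro v hv
    rw [he1, map_mul, Module.End.mul_apply, hw v hv, map_sub, LinearMap.sub_apply, b2 v hv, sub_zero, map_one,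
      Module.End.one_apply]
  have b1 : ∀ v ∈ V₂, aeval T e1 v = 0 := by
    intro v hv
    rw [he1, mul_comm, map_mul, Module.End.mul_apply, map_sub, LinearMap.sub_apply, a2 v hv, map_one,
      Module.End.one_apply, sub_self, map_zero]
  have c1 : ∀ v ∈ V₀, aeval T e1 v = 0 := by
    intro v hv
    rw [he1, map_mul, Module.End.mul_apply, map_mul, Module.End.mul_apply, hX1, h.fix v hv, sub_self, map_zero, map_zero]
  refine ⟨g1 * e1 + g2 * e2 + (1 - e1 - e2), ?_⟩
  have hv : ∀ v, aeval T (g1 * e1 + g2 * e2 + (1 - e1 - e2)) v = aeval T g1 (aeval T e1 v) + aeval T g2 (aeval T e2 v) +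
      (v - aeval T e1 v - aeval T e2 v) := by
    intro v
    simp only [map_add, map_mul, map_sub, map_one, LinearMap.add_apply, LinearMap.sub_apply, Module.End.mul_apply,
      Module.End.one_apply]
  apply LinearMap.ext
  intro v
  obtain ⟨v₀, h₀, v₁, h₁, v₂, h₂, rfl⟩ := exists_dec htop v
  rw [map_add, map_add, map_add, map_add, hv v₀, hv v₁, hv v₂, a2 v₂ h₂, b2 v₁ h₁, c2 v₀ h₀, a1 v₁ h₁, b1 v₂ h₂, c1 v₀ h₀,
    hg1 v₁ h₁, hg2 v₂ h₂, hy0 v₀ h₀]
  simp only [map_zero, sub_zero, add_zero, zero_add, sub_self]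

theorem aeval_congr_on {S T : Module.End K V} {U : Submodule K V} (hS : ∀ u ∈ U, S u ∈ U) (h : ∀ u ∈ U, T u = S u) (f : K[X])
    {u : V} (hu : u ∈ U) : aeval T f u = aeval S f u := by
  have h1 : ∀ n : ℕ, ∀ u ∈ U, (T ^ n) u = (S ^ n) u := by
    intro n
    induction n with
    | zero => intro u _; rfl
    | succ n ih =>
      intro u hu
      rw [pow_succ, pow_succ, Module.End.mul_apply, Module.End.mul_apply, h u hu, ih _ (hS u hu)]
  induction f using Polynomial.induction_on' with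
  | add p q hp hq => rw [map_add, map_add, LinearMap.add_apply, LinearMap.add_apply, hp, hq]
  | monomial n a =>
    rw [aeval_monomial, aeval_monomial, Module.End.mul_apply, Module.End.mul_apply, h1 n u hu]

theorem aeval_restrict {S : Module.End K V} {U : Submodule K V} (hS : ∀ u ∈ U, S u ∈ U) (f : K[X]) (u : U) :
    ((aeval (S.restrict hS) f u : U) : V) = aeval S f (u : V) := by
  have h1 : ∀ n : ℕ, ∀ u : U, (((S.restrict hS) ^ n) u : V) = (S ^ n) (u : V) := by
    intro n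
    induction n with
    | zero => intro u; rfl
    | succ n ih =>
      intro u
      rw [pow_succ, pow_succ, Module.End.mul_apply, Module.End.mul_apply, ih]
      rfl
  induction f using Polynomial.induction_on' with
  | add p q hp hq => rw [map_add, map_add, LinearMap.add_apply, LinearMap.add_apply, Submodule.coe_add, hp, hq]
  | monomial n a =>
    rw [aeval_monomial, aeval_monomial, Module.End.mul_apply, Module.End.mul_apply, ← h1 n u]
    rfl

open Cfsg.Agent.H324.AP Cfsg.Agent.H920.HT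

section count

variable [Finite K] [Finite V] {τ : K →+* K} {B : V → V → K} {G P : Subgroup (V ≃ₗ[K] V)} {h : SplF τ B G} {p a c : ℕ}
  [hp : Fact p.Prime] {D : Fin 2 → Submodule K V}

theorem twoB_top (hpF : (p : K) ≠ 0) (H : TwoB p a c h P D) : fixP P ⊔ D 0 ⊔ D 1 = ⊤ := by
  have h1 := (h.isCompl_perp (nd_fix hpF h H.syl.le H.syl.isP)).sup_eq_top
  have h2 : (⨆ i, D i) ≤ D 0 ⊔ D 1 := by
    refine iSup_le fun i => ?_
    fin_cases i
    · exact le_sup_left
    · exact le_sup_right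
  rw [← H.frm.sup] at h1
  rw [eq_top_iff, ← h1, sup_assoc]
  exact sup_le_sup_left h2 _

theorem twoB_eq_one (H : TwoB p a c h P D) {i : Fin 2} {y : V ≃ₗ[K] V} (hy : y ∈ triv P (h.perp (D i)))
    (hv : ∀ v ∈ D i, y v = v) : y = 1 :=
  equiv_ext_compl (H.dec.compl i) hv hy.2

theorem twoB_nofix (H : TwoB p a c h P D) {i : Fin 2} {y : V ≃ₗ[K] V} (hy : y ∈ triv P (h.perp (D i))) (hy1 : y ≠ 1) {v : V}
    (hv : v ∈ D i) (hyv : y v = v) : v = 0 := by
  let X' : Submodule K V :=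
    { carrier := {u | u ∈ D i ∧ y u = u}
      add_mem' := fun {a b} ha hb => ⟨(D i).add_mem ha.1 hb.1, by rw [map_add, ha.2, hb.2]⟩
      zero_mem' := ⟨(D i).zero_mem, map_zero _⟩
      smul_mem' := fun c a ha => ⟨(D i).smul_mem c ha.1, by rw [map_smul, ha.2]⟩ }
  rcases H.irr i y hy hy1 X' (fun u hu => hu.1) (fun u hu => by rw [hu.2]; exact hu) with h1 | h1
  · have h2 : v ∈ X' := ⟨hv, hyv⟩
    rw [h1] at h2
    exact h2
  · exfalso
    refine hy1 (twoB_eq_one H hy fun u hu => ?_)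
    rw [← h1] at hu
    exact hu.2

/-- at most `2 c` elements of `Q_1` are zeros on `D 1` of a given polynomial of degree at most `2 c` -/
theorem card_bad (H : TwoB p a c h P D) (hc : 0 < c) (ha : 0 < a) {A : K[X]} (hA : A ≠ 0) (hd : A.natDegree ≤ 2 * c) :
    {y : V ≃ₗ[K] V | y ∈ triv P (h.perp (D 1)) ∧ ∀ v ∈ D 1, aeval (toE y) A v = 0}.ncard ≤ 2 * c := by
  classical
  have hnt : Nontrivial (D 1) := by
    apply Module.nontrivial_of_finrank_pos (R := K)
    rw [H.dim 1]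
    omega
  have hinv : ∀ y ∈ triv P (h.perp (D 1)), ∀ v ∈ D 1, toE y v ∈ D 1 := fun y hy v hv => H.dec.inv 1 y hy.1 v hv
  let r : triv P (h.perp (D 1)) → Module.End K (D 1) := fun y => (toE (y : V ≃ₗ[K] V)).restrict (hinv y y.2)
  obtain ⟨z, hz, hz1⟩ : ∃ z ∈ triv P (h.perp (D 1)), z ≠ 1 := by
    by_contra hcon
    push Not at hcon
    have h1 : triv P (h.perp (D 1)) = ⊥ := by
      rw [eq_bot_iff]
      intro z hz
      exact hcon z hz
    have h2 := H.card 1
    rw [h1, Subgroup.card_bot] at h2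
    have h3 : 1 < p ^ a := Nat.one_lt_pow ha.ne' hp.out.one_lt
    omega
  obtain ⟨hf, hle⟩ := Cfsg.Agent.H637.HT.card_roots_le (Set.range r) (by
    rintro _ ⟨y, rfl⟩ _ ⟨w, rfl⟩
    ext v
    have h1 := LinearEquiv.congr_fun (H.ab y y.2.1 w w.2.1) (v : V)
    exact h1) (by
    intro U hU
    have h1 := H.irr 1 z hz hz1 (U.map (D 1).subtype) (by rintro _ ⟨u, -, rfl⟩; exact u.2) (by
      rintro _ ⟨u, hu, rfl⟩
      exact ⟨r ⟨z, hz⟩ u, hU _ ⟨⟨z, hz⟩, rfl⟩ u hu, rfl⟩)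
    rcases h1 with h1 | h1
    · left
      rw [eq_bot_iff]
      intro u hu
      have h2 : (u : V) ∈ U.map (D 1).subtype := ⟨u, hu, rfl⟩
      rw [h1, Submodule.mem_bot] at h2
      exact Subtype.ext h2
    · right
      rw [eq_top_iff]
      rintro ⟨v, hv⟩ -
      rw [← h1] at hv
      obtain ⟨u, hu, rfl⟩ := hv
      exact hu) A hA
  refine le_trans ?_ (hle.trans hd)
  have hfin : Finite (V ≃ₗ[K] V) := Finite.of_injective (fun g : V ≃ₗ[K] V => (g : V → V)) DFunLike.coe_injective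
  refine Set.ncard_le_ncard_of_injOn (fun y => if hy : y ∈ triv P (h.perp (D 1)) then r ⟨y, hy⟩ else 0) ?_ ?_ hf
  · rintro y ⟨hy, hy'⟩
    rw [dif_pos hy]
    refine ⟨⟨⟨y, hy⟩, rfl⟩, ?_⟩
    change aeval (r ⟨y, hy⟩) A = 0
    ext v
    rw [aeval_restrict]
    exact hy' v v.2
  · rintro y ⟨hy, -⟩ w ⟨hw, -⟩ hyw
    simp only [dif_pos hy, dif_pos hw] at hyw
    refine equiv_ext_compl (H.dec.compl 1) (fun v hv => ?_) fun v hv => by rw [hy.2 v hv, hw.2 v hv]
    exact congrArg Subtype.val (LinearMap.congr_fun hyw ⟨v, hv⟩)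

/-- products of elements with a separating polynomial are regular -/
theorem regE_mul (hpF : (p : K) ≠ 0) (H : TwoB p a c h P D) {y z : V ≃ₗ[K] V} (hy : y ∈ triv P (h.perp (D 0)))
    (hz : z ∈ triv P (h.perp (D 1))) (hy1 : y ≠ 1) (hz1 : z ≠ 1) {A : K[X]} (hA : ∀ v ∈ D 0, aeval (toE y) A v = 0)
    (hA' : ∃ v ∈ D 1, aeval (toE z) A v ≠ 0) : y * z ∈ RegE P := by
  have hx0 : ∀ v ∈ D 0, toE (y * z) v = toE y v := by
    intro v hv
    change y (z v) = y v
    rw [hz.2 v (H.dec.le 1 0 (by decide) hv)]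
  have hx1 : ∀ v ∈ D 1, toE (y * z) v = toE z v := by
    intro v hv
    change y (z v) = z v
    exact hy.2 _ (H.dec.le 0 1 (by decide) (H.dec.inv 1 z hz.1 v hv))
  have i0 : ∀ v ∈ D 0, (y * z) v = v → v = 0 := fun v hv h0 => twoB_nofix H hy hy1 hv ((hx0 v hv).symm.trans h0)
  have i1 : ∀ v ∈ D 1, (y * z) v = v → v = 0 := fun v hv h0 => twoB_nofix H hz hz1 hv ((hx1 v hv).symm.trans h0)
  have hP : y * z ∈ P := P.mul_mem hy.1 hz.1
  have j0 : ∀ U ≤ D 0, (∀ u ∈ U, (y * z) u ∈ U) → U = ⊥ ∨ U = D 0 := fun U hU hUi =>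
    H.irr 0 y hy hy1 U hU fun u hu => by
      have h1 := hUi u hu
      rwa [show (y * z) u = y u from hx0 u (hU hu)] at h1
  have j1 : ∀ U ≤ D 1, (∀ u ∈ U, (y * z) u ∈ U) → U = ⊥ ∨ U = D 1 := fun U hU hUi =>
    H.irr 1 z hz hz1 U hU fun u hu => by
      have h1 := hUi u hu
      rwa [show (y * z) u = z u from hx1 u (hU hu)] at h1
  have hinj : ∀ v ∈ D 1, aeval (toE z) A v = 0 → v = 0 := by
    have hzi : ∀ v ∈ D 1, toE z v ∈ D 1 := fun v hv => H.dec.inv 1 z hz.1 v hv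
    intro v hv h0
    rcases H.irr 1 z hz hz1 (D 1 ⊓ LinearMap.ker (aeval (toE z) A)) inf_le_left (by
      rintro u ⟨hu, hu'⟩
      refine ⟨hzi u hu, ?_⟩
      have h1 : aeval (toE z) A (toE z u) = toE z (aeval (toE z) A u) := aeval_comm rfl A u
      rw [SetLike.mem_coe, LinearMap.mem_ker] at hu' ⊢
      rw [show (z u : V) = toE z u from rfl, h1, hu', map_zero]) with h1 | h1
    · have h2 : v ∈ D 1 ⊓ LinearMap.ker (aeval (toE z) A) := ⟨hv, h0⟩
      rw [h1] at h2
      exact h2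
    · exfalso
      obtain ⟨w, hw, hw'⟩ := hA'
      rw [← h1] at hw
      exact hw' hw.2
  have hne : ∀ i : Fin 2, D i ≠ ⊥ → ∃ v ∈ D i, v ≠ 0 := fun i hi => Submodule.exists_mem_ne_zero_of_ne_bot hi
  have hreg : Reg (y * z) (fixP P) (D 0) (D 1) :=
    { fix := fun v hv => hv _ hP
      inv1 := fun v hv => H.dec.inv 0 _ hP v hv
      inv2 := fun v hv => H.dec.inv 1 _ hP v hv
      ne1 := by
        obtain ⟨v, hv, hv0⟩ := hne 0 (H.frm.minS 0).ne
        exact ⟨v, hv, fun h0 => hv0 (i0 v hv h0)⟩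
      ne2 := by
        obtain ⟨v, hv, hv0⟩ := hne 1 (H.frm.minS 1).ne
        exact ⟨v, hv, fun h0 => hv0 (i1 v hv h0)⟩
      sep := ⟨A, fun v hv => by
          rw [show (((y * z : V ≃ₗ[K] V) : V →ₗ[K] V) : Module.End K V) = toE (y * z) from rfl,
            aeval_congr_on (S := toE y) (fun u hu => H.dec.inv 0 y hy.1 u hu) hx0 A hv]
          exact hA v hv, fun v hv h0 => by
          rw [show (((y * z : V ≃ₗ[K] V) : V →ₗ[K] V) : Module.End K V) = toE (y * z) from rfl,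
            aeval_congr_on (S := toE z) (fun u hu => H.dec.inv 1 z hz.1 u hu) hx1 A hv] at h0
          exact hinj v hv h0⟩ }
  refine ⟨hP, fun w hw => ?_⟩
  refine hreg.exists_poly (twoB_top hpF H) i0 i1 j0 j1 (y := toE w) ?_ (fun v hv => hv w hw)
    (fun v hv => H.dec.inv 0 w hw v hv) (fun v hv => H.dec.inv 1 w hw v hv)
  ext v
  exact LinearEquiv.congr_fun (H.ab w hw _ hP) v

/-- **the number of regular elements** -/
theorem card_reg (hpF : (p : K) ≠ 0) (H : TwoB p a c h P D) (hc : 0 < c) :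
    (p ^ a - 1) * (p ^ a - 1 - 2 * c) ≤ Nat.card (RegE P) := by
  classical
  rcases Nat.eq_zero_or_pos a with rfl | ha
  · simp only [_root_.pow_zero, _root_.tsub_self, _root_.zero_tsub, _root_.MulZeroClass.mul_zero, _root_.Nat.card_coe_set_eq, _root_.zero_le]
  have hfin : Finite (V ≃ₗ[K] V) := Finite.of_injective (fun g : V ≃ₗ[K] V => (g : V → V)) DFunLike.coe_injective
  have : Fintype (V ≃ₗ[K] V) := Fintype.ofFinite _
  have hinv : ∀ y ∈ triv P (h.perp (D 0)), ∀ v ∈ D 0, toE y v ∈ D 0 := fun y hy v hv => H.dec.inv 0 y hy.1 v hv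
  -- the polynomial of an element of `Q_0`
  have hpol : ∀ y : V ≃ₗ[K] V, ∃ A : K[X], y ∈ triv P (h.perp (D 0)) → A ≠ 0 ∧ A.natDegree ≤ 2 * c ∧
      ∀ v ∈ D 0, aeval (toE y) A v = 0 := by
    intro y
    by_cases hy : y ∈ triv P (h.perp (D 0))
    · refine ⟨((toE y).restrict (hinv y hy)).charpoly, fun _ => ⟨(LinearMap.charpoly_monic _).ne_zero, ?_, ?_⟩⟩
      · rw [LinearMap.charpoly_natDegree, H.dim 0]
      · intro v hv
        have h1 := LinearMap.congr_fun (LinearMap.aeval_self_charpoly ((toE y).restrict (hinv y hy))) ⟨v, hv⟩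
        have h2 := aeval_restrict (hinv y hy) ((toE y).restrict (hinv y hy)).charpoly ⟨v, hv⟩
        rw [h1] at h2
        exact h2.symm
    · exact ⟨0, fun h1 => absurd h1 hy⟩
  choose A hA using hpol
  let q0 : Finset (V ≃ₗ[K] V) := Finset.univ.filter (· ∈ triv P (h.perp (D 0)))
  let q1 : Finset (V ≃ₗ[K] V) := Finset.univ.filter (· ∈ triv P (h.perp (D 1)))
  have hq : ∀ i, (Finset.univ.filter (· ∈ triv P (h.perp (D i)))).card = p ^ a := by
    intro i
    rw [← H.card i, Nat.card_eq_fintype_card, Fintype.card_subtype]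
  let good : (V ≃ₗ[K] V) → Finset (V ≃ₗ[K] V) := fun y => q1.filter fun z => z ≠ 1 ∧ ∃ v ∈ D 1, aeval (toE z) (A y) v ≠ 0
  have hgood : ∀ y ∈ q0.erase 1, p ^ a - 1 - 2 * c ≤ (good y).card := by
    intro y hy
    have hy0 : y ∈ triv P (h.perp (D 0)) := (Finset.mem_filter.1 (Finset.mem_of_mem_erase hy)).2
    obtain ⟨h1, h2, h3⟩ := hA y hy0
    have h4 := card_bad H hc ha h1 h2
    let bad : Finset (V ≃ₗ[K] V) := q1.filter fun z => ∀ v ∈ D 1, aeval (toE z) (A y) v = 0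
    have hbad : bad.card ≤ 2 * c := by
      refine le_trans (le_of_eq ?_) h4
      rw [← Set.ncard_coe_finset]
      congr 1
      ext z
      simp only [bad, q1, Finset.coe_filter, Finset.mem_filter, Finset.mem_univ, true_and, Set.mem_ofPred_eq]
    have hsub : q1 ⊆ insert 1 (bad ∪ good y) := by
      intro z hz
      rw [Finset.mem_insert, Finset.mem_union]
      by_cases hz1 : z = 1
      · left; exact hz1
      · right
        by_cases hz2 : ∀ v ∈ D 1, aeval (toE z) (A y) v = 0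
        · left; exact Finset.mem_filter.2 ⟨hz, hz2⟩
        · right
          push Not at hz2
          exact Finset.mem_filter.2 ⟨hz, hz1, hz2⟩
    have h5 := (Finset.card_le_card hsub).trans ((Finset.card_insert_le _ _).trans
      (Nat.add_le_add_right (Finset.card_union_le _ _) 1))
    have h6 : q1.card = p ^ a := hq 1
    omega
  let S : Finset (Σ _ : V ≃ₗ[K] V, V ≃ₗ[K] V) := (q0.erase 1).sigma good
  have hS : (p ^ a - 1) * (p ^ a - 1 - 2 * c) ≤ S.card := by
    rw [Finset.card_sigma]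
    have h1 : (q0.erase 1).card = p ^ a - 1 := by
      rw [Finset.card_erase_of_mem (Finset.mem_filter.2 ⟨Finset.mem_univ _, Subgroup.one_mem _⟩), hq 0]
    calc (p ^ a - 1) * (p ^ a - 1 - 2 * c) = ∑ _y ∈ q0.erase 1, (p ^ a - 1 - 2 * c) := by
          rw [Finset.sum_const, smul_eq_mul, h1]
      _ ≤ ∑ y ∈ q0.erase 1, (good y).card := Finset.sum_le_sum fun y hy => hgood y hy
  refine hS.trans ?_
  have hR : Nat.card (RegE P) = (Finset.univ.filter (· ∈ RegE P)).card := by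
    rw [Nat.card_eq_fintype_card, Fintype.card_subtype]
  rw [hR]
  refine Finset.card_le_card_of_injOn (fun s => s.1 * s.2) ?_ ?_
  · rintro ⟨y, z⟩ hs
    obtain ⟨hy, hz⟩ := Finset.mem_sigma.1 hs
    have hy0 : y ∈ triv P (h.perp (D 0)) := (Finset.mem_filter.1 (Finset.mem_of_mem_erase hy)).2
    obtain ⟨hz0, hz1, hz2⟩ := Finset.mem_filter.1 hz
    have hz0' : z ∈ triv P (h.perp (D 1)) := (Finset.mem_filter.1 hz0).2
    exact Finset.mem_filter.2 ⟨Finset.mem_univ _, regE_mul hpF H hy0 hz0' (Finset.ne_of_mem_erase hy) hz1 (hA y hy0).2.2 hz2⟩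
  · rintro ⟨y, z⟩ hs ⟨y', z'⟩ hs' hyz
    obtain ⟨hy, hz⟩ := Finset.mem_sigma.1 hs
    obtain ⟨hy', hz'⟩ := Finset.mem_sigma.1 hs'
    have hy0 : y ∈ triv P (h.perp (D 0)) := (Finset.mem_filter.1 (Finset.mem_of_mem_erase hy)).2
    have hy0' : y' ∈ triv P (h.perp (D 0)) := (Finset.mem_filter.1 (Finset.mem_of_mem_erase hy')).2
    have hz0 : z ∈ triv P (h.perp (D 1)) := (Finset.mem_filter.1 (Finset.mem_filter.1 hz).1).2
    have hz0' : z' ∈ triv P (h.perp (D 1)) := (Finset.mem_filter.1 (Finset.mem_filter.1 hz').1).2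
    have hyz' : y * z = y' * z' := hyz
    have h1 : y = y' := by
      refine equiv_ext_compl (H.dec.compl 0) (fun v hv => ?_) fun v hv => by rw [hy0.2 v hv, hy0'.2 v hv]
      have h2 := LinearEquiv.congr_fun hyz' v
      rw [LinearEquiv.mul_apply, LinearEquiv.mul_apply, hz0.2 v (H.dec.le 1 0 (by decide) hv),
        hz0'.2 v (H.dec.le 1 0 (by decide) hv)] at h2
      exact h2
    subst h1
    have h2 : z = z' := mul_left_cancel hyz'
    subst h2
    rfl

end count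

end Cfsg.Agent.H168.HT
end

-- part: H637/HT/Fusion
section
/-!
# S4933, box H2: the fusion bound (helper637)

`V = V0 + V1 + V2`, `P` a commuting set fixing `V0`, leaving `V1`, `V2` invariant; `E ⊆ P` the regular elements.
At most `2 n²` elements of `E` are conjugate in `GL(V)` to a given one, `n = dim V1 = dim V2`.
-/

set_option autoImplicit false

open Polynomial

namespace Cfsg.Agent.H637.HT

universe u v

variable {K : Type u} [Field K] {V : Type v} [AddCommGroup V] [Module K V]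

theorem coe_pow_restrict (X : Module.End K V) {U : Submodule K V} (h : ∀ v ∈ U, X v ∈ U) (n : ℕ) (u : U) :
    ((((X.restrict h : Module.End K U) ^ n) u : U) : V) = (X ^ n) (u : V) := by
  induction n generalizing u with
  | zero => rfl
  | succ n ih =>
    rw [pow_succ, pow_succ, Module.End.mul_apply, Module.End.mul_apply, ih]
    rfl

theorem coe_aeval_restrict (X : Module.End K V) {U : Submodule K V} (h : ∀ v ∈ U, X v ∈ U) (f : K[X]) (u : U) :
    ((aeval (X.restrict h : Module.End K U) f u : U) : V) = aeval X f (u : V) := by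
  induction f using Polynomial.induction_on' with
  | add p q hp hq =>
    rw [map_add, map_add, LinearMap.add_apply, LinearMap.add_apply, Submodule.coe_add, hp, hq]
  | monomial n a =>
    rw [aeval_monomial, aeval_monomial, Module.End.mul_apply, Module.End.mul_apply, Module.algebraMap_end_apply,
      Module.algebraMap_end_apply, Submodule.coe_smul, coe_pow_restrict]

theorem aeval_mem (X : Module.End K V) {U : Submodule K V} (h : ∀ v ∈ U, X v ∈ U) (f : K[X]) {u : V} (hu : u ∈ U) :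
    aeval X f u ∈ U := by
  rw [← coe_aeval_restrict X h f ⟨u, hu⟩]
  exact Subtype.coe_prop _

theorem aeval_conj (x : V ≃ₗ[K] V) (g : V ≃ₗ[K] V) (f : K[X]) (v : V) :
    aeval ((g * x * g⁻¹ : V ≃ₗ[K] V) : Module.End K V) f v = g (aeval (x : Module.End K V) f (g⁻¹ v)) := by
  have hpow : ∀ (n : ℕ) (v : V), (((g * x * g⁻¹ : V ≃ₗ[K] V) : Module.End K V) ^ n) v =
      g (((x : Module.End K V) ^ n) (g⁻¹ v)) := by
    intro n
    induction n with
    | zero =>
      intro v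
      show v = g (g⁻¹ v)
      exact (g.apply_symm_apply v).symm
    | succ n ih =>
      intro v
      rw [pow_succ, pow_succ, Module.End.mul_apply, Module.End.mul_apply, ih]
      show g (((x : Module.End K V) ^ n) (g⁻¹ (g (x (g⁻¹ v))))) = _
      have h1 : g⁻¹ (g (x (g⁻¹ v))) = x (g⁻¹ v) := g.symm_apply_apply _
      rw [h1]
      rfl
  induction f using Polynomial.induction_on' with
  | add p q hp hq => rw [map_add, map_add, LinearMap.add_apply, LinearMap.add_apply, hp, hq, map_add]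
  | monomial n a =>
    rw [aeval_monomial, aeval_monomial, Module.End.mul_apply, Module.End.mul_apply, Module.algebraMap_end_apply,
      Module.algebraMap_end_apply, hpow, map_smul]

/-- an operator irreducible on `U`: a polynomial in it is zero or injective -/
theorem zero_or_inj (X : Module.End K V) {U : Submodule K V} (h : ∀ v ∈ U, X v ∈ U)
    (hirr : ∀ U' ≤ U, (∀ u ∈ U', X u ∈ U') → U' = ⊥ ∨ U' = U) (f : K[X]) :
    (∀ v ∈ U, aeval X f v = 0) ∨ ∀ v ∈ U, aeval X f v = 0 → v = 0 := by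
  rcases hirr (U ⊓ LinearMap.ker (aeval X f)) inf_le_left (fun u hu => ⟨h u hu.1, by
      show X u ∈ LinearMap.ker (aeval X f)
      rw [LinearMap.mem_ker]
      have h1 : aeval X f (X u) = X (aeval X f u) := by
        have h2 : aeval X f * X = X * aeval X f := by
          have h3 : aeval X (f * Polynomial.X) = aeval X (Polynomial.X * f) := by rw [mul_comm]
          rwa [map_mul, map_mul, aeval_X] at h3
        exact congrArg (fun t : Module.End K V => t u) h2
      rw [h1, LinearMap.mem_ker.1 hu.2, map_zero]⟩) with h1 | h1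
  · right
    intro v hv hv0
    have h2 : v ∈ U ⊓ LinearMap.ker (aeval X f) := ⟨hv, LinearMap.mem_ker.2 hv0⟩
    rw [h1] at h2
    exact (Submodule.mem_bot K).1 h2
  · left
    intro v hv
    rw [← h1] at hv
    exact LinearMap.mem_ker.1 hv.2

variable [FiniteDimensional K V] {V0 V1 V2 : Submodule K V}

/-- **The fusion bound.** -/
theorem fusion_le {n : ℕ} (hn1 : Module.finrank K V1 = n) (hn2 : Module.finrank K V2 = n) (hsup : V0 ⊔ V1 ⊔ V2 = ⊤)
    (P E : Set (V ≃ₗ[K] V)) (hEP : E ⊆ P) (hcomm : ∀ x ∈ P, ∀ y ∈ P, x * y = y * x)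
    (hfix : ∀ x ∈ P, ∀ v ∈ V0, x v = v) (hinv1 : ∀ x ∈ P, ∀ v ∈ V1, x v ∈ V1) (hinv2 : ∀ x ∈ P, ∀ v ∈ V2, x v ∈ V2)
    (hdir : ∀ v0 ∈ V0, ∀ v1 ∈ V1, ∀ v2 ∈ V2, v0 + v1 + v2 = 0 → v0 = 0 ∧ v1 = 0 ∧ v2 = 0)
    (hirr1 : ∀ x ∈ E, ∀ U ≤ V1, (∀ u ∈ U, x u ∈ U) → U = ⊥ ∨ U = V1)
    (hirr2 : ∀ x ∈ E, ∀ U ≤ V2, (∀ u ∈ U, x u ∈ U) → U = ⊥ ∨ U = V2)
    (hne1 : ∀ x ∈ E, ∃ v ∈ V1, x v ≠ v) (hne2 : ∀ x ∈ E, ∃ v ∈ V2, x v ≠ v)
    (hsep : ∀ x ∈ E, ∃ f : K[X], (∀ v ∈ V1, aeval (x : Module.End K V) f v = 0) ∧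
      ∀ v ∈ V2, aeval (x : Module.End K V) f v = 0 → v = 0)
    {x : V ≃ₗ[K] V} (hx : x ∈ E) :
    {x' | x' ∈ E ∧ ∃ g : V ≃ₗ[K] V, g * x * g⁻¹ = x'}.Finite ∧
      {x' | x' ∈ E ∧ ∃ g : V ≃ₗ[K] V, g * x * g⁻¹ = x'}.ncard ≤ 2 * n ^ 2 := by
  classical
  -- restrictions
  have hi1 : ∀ y ∈ P, ∀ v ∈ V1, (y : Module.End K V) v ∈ V1 := hinv1
  have hi2 : ∀ y ∈ P, ∀ v ∈ V2, (y : Module.End K V) v ∈ V2 := hinv2
  let r1 : P → Module.End K V1 := fun y => (y.1 : Module.End K V).restrict (hi1 y y.2)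
  let r2 : P → Module.End K V2 := fun y => (y.1 : Module.End K V).restrict (hi2 y y.2)
  have hxP := hEP hx
  obtain ⟨w1, hw1, hw1'⟩ := hne1 x hx
  obtain ⟨w2, hw2, hw2'⟩ := hne2 x hx
  have hnt1 : Nontrivial V1 := ⟨⟨⟨w1, hw1⟩, ⟨x w1, hinv1 x hxP w1 hw1⟩, fun h => hw1' (congrArg Subtype.val h).symm⟩⟩
  have hnt2 : Nontrivial V2 := ⟨⟨⟨w2, hw2⟩, ⟨x w2, hinv2 x hxP w2 hw2⟩, fun h => hw2' (congrArg Subtype.val h).symm⟩⟩
  let f1 : K[X] := minpoly K (r1 ⟨x, hxP⟩)
  let f2 : K[X] := minpoly K (r2 ⟨x, hxP⟩)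
  have hf1 : f1 ≠ 0 := minpoly.ne_zero (Algebra.IsIntegral.isIntegral _)
  have hf2 : f2 ≠ 0 := minpoly.ne_zero (Algebra.IsIntegral.isIntegral _)
  have hd1 : f1.natDegree ≤ n := by
    rw [← hn1, ← LinearMap.charpoly_natDegree (r1 ⟨x, hxP⟩)]
    exact Polynomial.natDegree_le_of_dvd (LinearMap.minpoly_dvd_charpoly _) (LinearMap.charpoly_monic _).ne_zero
  have hd2 : f2.natDegree ≤ n := by
    rw [← hn2, ← LinearMap.charpoly_natDegree (r2 ⟨x, hxP⟩)]
    exact Polynomial.natDegree_le_of_dvd (LinearMap.minpoly_dvd_charpoly _) (LinearMap.charpoly_monic _).ne_zero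
  have hv1 : ∀ v ∈ V1, aeval (x : Module.End K V) f1 v = 0 := by
    intro v hv
    have h1 : aeval (r1 ⟨x, hxP⟩) f1 = 0 := minpoly.aeval _ _
    have h2 := coe_aeval_restrict (x : Module.End K V) (hi1 x hxP) f1 ⟨v, hv⟩
    rw [← h2]
    have h3 : aeval ((x : Module.End K V).restrict (hi1 x hxP)) f1 = 0 := h1
    rw [h3]
    rfl
  have hv2 : ∀ v ∈ V2, aeval (x : Module.End K V) f2 v = 0 := by
    intro v hv
    have h1 : aeval (r2 ⟨x, hxP⟩) f2 = 0 := minpoly.aeval _ _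
    have h2 := coe_aeval_restrict (x : Module.End K V) (hi2 x hxP) f2 ⟨v, hv⟩
    rw [← h2]
    have h3 : aeval ((x : Module.End K V).restrict (hi2 x hxP)) f2 = 0 := h1
    rw [h3]
    rfl
  -- a polynomial vanishing at `x` on `V_i` with root one: impossible for the minimal polynomials
  have hone : ∀ (U : Submodule K V) (hU : ∀ v ∈ U, (x : Module.End K V) v ∈ U)
      (_ : ∀ U' ≤ U, (∀ u ∈ U', x u ∈ U') → U' = ⊥ ∨ U' = U) (_ : ∃ v ∈ U, x v ≠ v),
      (minpoly K ((x : Module.End K V).restrict hU)).eval 1 ≠ 0 := by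
    intro U hU hirr ⟨w, hw, hw'⟩ h1
    have h2 : Module.End.HasEigenvalue ((x : Module.End K V).restrict hU) 1 :=
      Module.End.hasEigenvalue_of_isRoot h1
    obtain ⟨v, hv⟩ := h2.exists_hasEigenvector
    have hv1 : x (v : V) = v := by
      have h3 := hv.apply_eq_smul
      rw [one_smul] at h3
      exact congrArg Subtype.val h3
    let U' : Submodule K V := U ⊓ LinearMap.ker ((x : Module.End K V) - 1)
    have hmem : ∀ u, u ∈ U' ↔ u ∈ U ∧ x u = u := by
      intro u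
      rw [Submodule.mem_inf, LinearMap.mem_ker, LinearMap.sub_apply, sub_eq_zero]
      rfl
    rcases hirr U' inf_le_left (fun u hu => by
      rw [hmem] at hu ⊢
      rw [hu.2]
      exact hu) with h3 | h3
    · have h4 : (v : V) ∈ U' := (hmem _).2 ⟨v.2, hv1⟩
      rw [h3] at h4
      exact hv.2 (Subtype.ext ((Submodule.mem_bot K).1 h4))
    · have h4 : w ∈ U' := by rw [h3]; exact hw
      exact hw' ((hmem _).1 h4).2
  have he1 : f1.eval 1 ≠ 0 := hone V1 (hi1 x hxP) (hirr1 x hx) ⟨w1, hw1, hw1'⟩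
  have he2 : f2.eval 1 ≠ 0 := hone V2 (hi2 x hxP) (hirr2 x hx) ⟨w2, hw2, hw2'⟩
  -- on `V0`
  have h0 : ∀ y ∈ P, ∀ (f : K[X]), ∀ v ∈ V0, aeval (y : Module.End K V) f v = f.eval 1 • v := by
    intro y hy f v hv
    induction f using Polynomial.induction_on' with
    | add p q hp hq => rw [map_add, LinearMap.add_apply, hp, hq, eval_add, add_smul]
    | monomial m a =>
      have h1 : ∀ m : ℕ, ((y : Module.End K V) ^ m) v = v := by
        intro m
        induction m with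
        | zero => rfl
        | succ m ih =>
          rw [pow_succ, Module.End.mul_apply]
          show ((y : Module.End K V) ^ m) (y v) = v
          rw [hfix y hy v hv, ih]
      rw [aeval_monomial, Module.End.mul_apply, Module.algebraMap_end_apply, h1, eval_monomial, one_pow, mul_one]
  -- the dichotomy
  have hdich : ∀ y ∈ E, ∀ f : K[X], f.eval 1 ≠ 0 → (∃ v : V, v ≠ 0 ∧ aeval (y : Module.End K V) f v = 0) →
      (∀ v ∈ V1, aeval (y : Module.End K V) f v = 0) ∨ ∀ v ∈ V2, aeval (y : Module.End K V) f v = 0 := by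
    intro y hy f hf1 ⟨v, hv, hfv⟩
    rcases zero_or_inj (y : Module.End K V) (hi1 y (hEP hy)) (hirr1 y hy) f with h1 | h1
    · exact Or.inl h1
    rcases zero_or_inj (y : Module.End K V) (hi2 y (hEP hy)) (hirr2 y hy) f with h2 | h2
    · exact Or.inr h2
    exfalso
    have hvt : v ∈ V0 ⊔ V1 ⊔ V2 := by rw [hsup]; exact Submodule.mem_top
    obtain ⟨v', hv', v2, hv2, rfl⟩ := Submodule.mem_sup.1 hvt
    obtain ⟨v0, hv0, v1, hv1, rfl⟩ := Submodule.mem_sup.1 hv'
    rw [map_add, map_add, h0 y (hEP hy) f v0 hv0] at hfv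
    obtain ⟨e0, e1, e2⟩ := hdir _ (V0.smul_mem _ hv0) _ (aeval_mem _ (hi1 y (hEP hy)) f hv1) _
      (aeval_mem _ (hi2 y (hEP hy)) f hv2) hfv
    apply hv
    rw [h1 v1 hv1 e1, h2 v2 hv2 e2, (smul_eq_zero.1 e0).resolve_left hf1, add_zero, add_zero]
  -- no common factor
  obtain ⟨f, hfv1, hfv2⟩ := hsep x hx
  have hf1f : f1 ∣ f := by
    refine minpoly.dvd _ _ ?_
    ext v
    rw [LinearMap.zero_apply]
    exact (coe_aeval_restrict (x : Module.End K V) (hi1 x hxP) f v).trans (hfv1 v v.2)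
  have hcop : ∀ m : K[X], m ∣ f1 → m ∣ f2 → IsUnit m := by
    intro m hm1 hm2
    by_contra hu
    obtain ⟨k, hk⟩ := hm2
    -- `k` does not vanish at `x` on `V2`
    have hk0 : k ≠ 0 := by
      rintro rfl
      rw [mul_zero] at hk
      exact hf2 hk
    have h1 : ¬ ∀ v ∈ V2, aeval (x : Module.End K V) k v = 0 := by
      intro h
      have h2 : f2 ∣ k := by
        refine minpoly.dvd _ _ ?_
        ext v
        rw [LinearMap.zero_apply]
        exact (coe_aeval_restrict (x : Module.End K V) (hi2 x hxP) k v).trans (h v v.2)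
      have h3 : f2 ∣ f2 := dvd_refl _
      obtain ⟨l, hl⟩ := h2
      apply hu
      have h4 : k * 1 = k * (m * l) := by
        calc k * 1 = k := mul_one k
          _ = f2 * l := hl
          _ = k * (m * l) := by rw [hk]; ring
      exact IsUnit.of_mul_eq_one _ (mul_left_cancel₀ hk0 h4).symm
    push Not at h1
    obtain ⟨v, hv, hv0⟩ := h1
    have h2 : aeval (x : Module.End K V) m (aeval (x : Module.End K V) k v) = 0 := by
      rw [← Module.End.mul_apply, ← map_mul, ← hk]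
      exact hv2 v hv
    apply hv0
    refine hfv2 _ (aeval_mem _ (hi2 x hxP) k hv) ?_
    obtain ⟨l, hl⟩ := hm1.trans hf1f
    rw [hl, mul_comm, map_mul, Module.End.mul_apply, h2, map_zero]
  -- the classes
  let S12 : Set (V ≃ₗ[K] V) := {y | y ∈ P ∧ (∀ v ∈ V1, aeval (y : Module.End K V) f1 v = 0) ∧
    ∀ v ∈ V2, aeval (y : Module.End K V) f2 v = 0}
  let S21 : Set (V ≃ₗ[K] V) := {y | y ∈ P ∧ (∀ v ∈ V1, aeval (y : Module.End K V) f2 v = 0) ∧
    ∀ v ∈ V2, aeval (y : Module.End K V) f1 v = 0}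
  have hsub : {x' | x' ∈ E ∧ ∃ g : V ≃ₗ[K] V, g * x * g⁻¹ = x'} ⊆ S12 ∪ S21 := by
    rintro y ⟨hy, g, hg⟩
    have hg1 : ∀ (f : K[X]) (v : V), aeval (x : Module.End K V) f v = 0 → aeval (y : Module.End K V) f (g v) = 0 := by
      intro f v hv
      have h1 := aeval_conj x g f (g v)
      rw [hg] at h1
      have h2 : g⁻¹ (g v) = v := g.symm_apply_apply v
      rw [h1, h2, hv, map_zero]
    have hw10 : w1 ≠ 0 := by
      rintro rfl
      exact hw1' (map_zero x)
    have hw20 : w2 ≠ 0 := by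
      rintro rfl
      exact hw2' (map_zero x)
    have k1 := hdich y hy f1 he1 ⟨g w1, (map_ne_zero_iff g g.injective).2 hw10, hg1 f1 w1 (hv1 w1 hw1)⟩
    have k2 := hdich y hy f2 he2 ⟨g w2, (map_ne_zero_iff g g.injective).2 hw20, hg1 f2 w2 (hv2 w2 hw2)⟩
    have hyP := hEP hy
    have hbad : ∀ (U : Submodule K V) (_ : ∀ v ∈ U, (y : Module.End K V) v ∈ U) (_ : Nontrivial U),
        (∀ v ∈ U, aeval (y : Module.End K V) f1 v = 0) → (∀ v ∈ U, aeval (y : Module.End K V) f2 v = 0) → False := by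
      intro U hU hnt h1 h2
      have h3 : minpoly K ((y : Module.End K V).restrict hU) ∣ f1 := by
        refine minpoly.dvd _ _ ?_
        ext v
        rw [LinearMap.zero_apply]
        exact (coe_aeval_restrict (y : Module.End K V) hU f1 v).trans (h1 v v.2)
      have h4 : minpoly K ((y : Module.End K V).restrict hU) ∣ f2 := by
        refine minpoly.dvd _ _ ?_
        ext v
        rw [LinearMap.zero_apply]
        exact (coe_aeval_restrict (y : Module.End K V) hU f2 v).trans (h2 v v.2)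
      exact minpoly.not_isUnit K _ (hcop _ h3 h4)
    rcases k1 with k1 | k1
    · rcases k2 with k2 | k2
      · exact (hbad V1 (hi1 y hyP) hnt1 k1 k2).elim
      · exact Or.inl ⟨hyP, k1, k2⟩
    · rcases k2 with k2 | k2
      · exact Or.inr ⟨hyP, k2, k1⟩
      · exact (hbad V2 (hi2 y hyP) hnt2 k1 k2).elim
  -- counting
  have hA1 : ∀ h : K[X], h ≠ 0 → (Set.range r1 ∩ {a | aeval a h = 0}).Finite ∧
      (Set.range r1 ∩ {a | aeval a h = 0}).ncard ≤ h.natDegree := by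
    intro h hh
    refine card_roots_le _ ?_ ?_ h hh
    · rintro _ ⟨a, rfl⟩ _ ⟨b, rfl⟩
      ext v
      exact congrArg (fun t : V ≃ₗ[K] V => t (v : V)) (hcomm a a.2 b b.2)
    · intro U hU
      have h1 := hirr1 x hx (U.map V1.subtype) (Submodule.map_subtype_le _ _) (by
        rintro _ ⟨u, hu, rfl⟩
        exact ⟨r1 ⟨x, hxP⟩ u, hU _ ⟨_, rfl⟩ u hu, rfl⟩)
      rcases h1 with h1 | h1
      · left
        exact Submodule.map_injective_of_injective V1.injective_subtype (h1.trans (Submodule.map_bot _).symm)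
      · right
        rw [eq_top_iff]
        intro v _
        have h2 : (v : V) ∈ U.map V1.subtype := by rw [h1]; exact v.2
        obtain ⟨u, hu, hu'⟩ := h2
        have h3 : u = v := Subtype.ext hu'
        exact h3 ▸ hu
  have hA2 : ∀ h : K[X], h ≠ 0 → (Set.range r2 ∩ {a | aeval a h = 0}).Finite ∧
      (Set.range r2 ∩ {a | aeval a h = 0}).ncard ≤ h.natDegree := by
    intro h hh
    refine card_roots_le _ ?_ ?_ h hh
    · rintro _ ⟨a, rfl⟩ _ ⟨b, rfl⟩
      ext v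
      exact congrArg (fun t : V ≃ₗ[K] V => t (v : V)) (hcomm a a.2 b b.2)
    · intro U hU
      have h1 := hirr2 x hx (U.map V2.subtype) (Submodule.map_subtype_le _ _) (by
        rintro _ ⟨u, hu, rfl⟩
        exact ⟨r2 ⟨x, hxP⟩ u, hU _ ⟨_, rfl⟩ u hu, rfl⟩)
      rcases h1 with h1 | h1
      · left
        exact Submodule.map_injective_of_injective V2.injective_subtype (h1.trans (Submodule.map_bot _).symm)
      · right
        rw [eq_top_iff]
        intro v _
        have h2 : (v : V) ∈ U.map V2.subtype := by rw [h1]; exact v.2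
        obtain ⟨u, hu, hu'⟩ := h2
        have h3 : u = v := Subtype.ext hu'
        exact h3 ▸ hu
  have hcount : ∀ h k : K[X], h ≠ 0 → k ≠ 0 → h.natDegree ≤ n → k.natDegree ≤ n →
      {y | y ∈ P ∧ (∀ v ∈ V1, aeval (y : Module.End K V) h v = 0) ∧ ∀ v ∈ V2, aeval (y : Module.End K V) k v = 0}.Finite ∧
      {y | y ∈ P ∧ (∀ v ∈ V1, aeval (y : Module.End K V) h v = 0) ∧
        ∀ v ∈ V2, aeval (y : Module.End K V) k v = 0}.ncard ≤ n ^ 2 := by
    intro h k hh hk hdh hdk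
    obtain ⟨q1, q2⟩ := hA1 h hh
    obtain ⟨q3, q4⟩ := hA2 k hk
    let T : Set (Module.End K V1 × Module.End K V2) :=
      (Set.range r1 ∩ {a | aeval a h = 0}) ×ˢ (Set.range r2 ∩ {a | aeval a k = 0})
    have hT : T.Finite := q1.prod q3
    have hTc : T.ncard ≤ n ^ 2 := by
      rw [Set.ncard_prod, pow_two]
      exact Nat.mul_le_mul (q2.trans hdh) (q4.trans hdk)
    let F : (V ≃ₗ[K] V) → Module.End K V1 × Module.End K V2 := fun y =>
      if hy : y ∈ P then (r1 ⟨y, hy⟩, r2 ⟨y, hy⟩) else (0, 0)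
    have hmaps : ∀ y ∈ {y | y ∈ P ∧ (∀ v ∈ V1, aeval (y : Module.End K V) h v = 0) ∧
        ∀ v ∈ V2, aeval (y : Module.End K V) k v = 0}, F y ∈ T := by
      rintro y ⟨hy, h1, h2⟩
      have e : F y = (r1 ⟨y, hy⟩, r2 ⟨y, hy⟩) := dif_pos hy
      rw [e]
      refine ⟨⟨⟨_, rfl⟩, ?_⟩, ⟨⟨_, rfl⟩, ?_⟩⟩
      · show aeval (r1 ⟨y, hy⟩) h = 0
        ext v
        rw [LinearMap.zero_apply]
        exact (coe_aeval_restrict (y : Module.End K V) (hi1 y hy) h v).trans (h1 v v.2)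
      · show aeval (r2 ⟨y, hy⟩) k = 0
        ext v
        rw [LinearMap.zero_apply]
        exact (coe_aeval_restrict (y : Module.End K V) (hi2 y hy) k v).trans (h2 v v.2)
    have hinj : Set.InjOn F {y | y ∈ P ∧ (∀ v ∈ V1, aeval (y : Module.End K V) h v = 0) ∧
        ∀ v ∈ V2, aeval (y : Module.End K V) k v = 0} := by
      rintro y ⟨hy, -, -⟩ z ⟨hz, -, -⟩ hyz
      have e1 : F y = (r1 ⟨y, hy⟩, r2 ⟨y, hy⟩) := dif_pos hy
      have e2 : F z = (r1 ⟨z, hz⟩, r2 ⟨z, hz⟩) := dif_pos hz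
      rw [e1, e2, Prod.mk.injEq] at hyz
      obtain ⟨h1, h2⟩ := hyz
      ext v
      have hvt : v ∈ V0 ⊔ V1 ⊔ V2 := by rw [hsup]; exact Submodule.mem_top
      obtain ⟨v', hv', v2, hv2, rfl⟩ := Submodule.mem_sup.1 hvt
      obtain ⟨v0, hv0, v1, hv1, rfl⟩ := Submodule.mem_sup.1 hv'
      have e3 : y v1 = z v1 := congrArg Subtype.val (congrArg (fun t : Module.End K V1 => t ⟨v1, hv1⟩) h1)
      have e4 : y v2 = z v2 := congrArg Subtype.val (congrArg (fun t : Module.End K V2 => t ⟨v2, hv2⟩) h2)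
      rw [map_add, map_add, map_add, map_add, hfix y hy v0 hv0, hfix z hz v0 hv0, e3, e4]
    exact ⟨Set.Finite.of_injOn hmaps hinj hT, (Set.ncard_le_ncard_of_injOn F hmaps hinj hT).trans hTc⟩
  obtain ⟨a1, a2⟩ := hcount f1 f2 hf1 hf2 hd1 hd2
  obtain ⟨a3, a4⟩ := hcount f2 f1 hf2 hf1 hd2 hd1
  have hfin : (S12 ∪ S21).Finite := a1.union a3
  refine ⟨hfin.subset hsub, (Set.ncard_le_ncard hsub hfin).trans ((Set.ncard_union_le _ _).trans ?_)⟩
  have h5 : S12.ncard + S21.ncard ≤ n ^ 2 + n ^ 2 := Nat.add_le_add a2 a4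
  omega

end Cfsg.Agent.H637.HT
end

-- part: H637/HT/Fus
section
/-!
# S4933, box H2, piece (C): fusion of regular elements (helper637)

`x ∈ RegE P`: at most `8 c²` elements of `RegE P` are conjugate to `x` in `G`.
-/

set_option autoImplicit false

namespace Cfsg.Agent.H637.HT

open Submodule Module Polynomial Cfsg.Agent.H324.AP Cfsg.Agent.H920.HT

universe u v

section

variable {F : Type u} [Field F] {V : Type v} [AddCommGroup V] [Module F V]
  {τ : F →+* F} {B : V → V → F} {G : Subgroup (V ≃ₗ[F] V)} {p a c : ℕ} {h : SplF τ B G}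
  {P : Subgroup (V ≃ₗ[F] V)} {D : Fin 2 → Submodule F V}

theorem exists_ne_one (H : TwoB p a c h P D) (i : Fin 2) : ∃ y ∈ triv P (h.perp (D i)), y ≠ 1 :=
  (Subgroup.ne_bot_iff_exists_ne_one.1 (H.dec.ne i)).elim fun y hy => ⟨y.1, y.2, fun e => hy (Subtype.ext e)⟩

/-- regular elements are irreducible on the blocks -/
theorem reg_irr (H : TwoB p a c h P D) {x : V ≃ₗ[F] V} (hx : x ∈ RegE P) (i : Fin 2) (U : Submodule F V)
    (hU : U ≤ D i) (hxU : ∀ u ∈ U, x u ∈ U) : U = ⊥ ∨ U = D i := by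
  obtain ⟨y, hy, hy1⟩ := exists_ne_one H i
  obtain ⟨f, hf⟩ := hx.2 y hy.1
  refine H.irr i y hy hy1 U hU fun m hm => ?_
  have h1 : y m = aeval (toE x) f m := congrArg (fun t : Module.End F V => t m) hf
  rw [h1]
  exact HT.aeval_mem (toE x) hxU f hm

/-- regular elements are nontrivial on the blocks -/
theorem reg_ne (H : TwoB p a c h P D) {x : V ≃ₗ[F] V} (hx : x ∈ RegE P) (i : Fin 2) : ∃ v ∈ D i, x v ≠ v := by
  by_contra hcon
  push Not at hcon
  obtain ⟨y, hy, hy1⟩ := exists_ne_one H i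
  obtain ⟨f, hf⟩ := hx.2 y hy.1
  have hsc : ∀ (g : F[X]), ∀ v ∈ D i, aeval (toE x) g v = g.eval 1 • v := by
    intro g v hv
    induction g using Polynomial.induction_on' with
    | add p q hp hq => rw [map_add, LinearMap.add_apply, hp, hq, eval_add, add_smul]
    | monomial m b =>
      have h1 : ∀ m : ℕ, ((toE x) ^ m) v = v := by
        intro m
        induction m with
        | zero => rfl
        | succ m ih =>
          rw [pow_succ, Module.End.mul_apply]
          show ((toE x) ^ m) (x v) = v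
          rw [hcon v hv, ih]
      rw [aeval_monomial, Module.End.mul_apply, Module.algebraMap_end_apply, h1, eval_monomial, one_pow, mul_one]
  obtain ⟨v, hv, hv0⟩ := Submodule.exists_mem_ne_zero_of_ne_bot (H.frm.minS i).ne
  have h1 : Submodule.span F {v} ≤ D i := (Submodule.span_singleton_le_iff_mem v _).2 hv
  rcases H.irr i y hy hy1 (Submodule.span F {v}) h1 (fun m hm => by
    have h2 : y m = aeval (toE x) f m := congrArg (fun t : Module.End F V => t m) hf
    rw [h2, hsc f m (h1 hm)]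
    exact Submodule.smul_mem _ _ hm) with h2 | h2
  · exact hv0 (Submodule.span_singleton_eq_bot.1 h2)
  · have h3 := H.dim i
    rw [← h2, finrank_span_singleton hv0] at h3
    omega

/-- separation of the two blocks -/
theorem reg_sep (H : TwoB p a c h P D) {x : V ≃ₗ[F] V} (hx : x ∈ RegE P) :
    ∃ f : F[X], (∀ v ∈ D 0, aeval (toE x) f v = 0) ∧ ∀ v ∈ D 1, aeval (toE x) f v = 0 → v = 0 := by
  obtain ⟨y, hy, hy1⟩ := exists_ne_one H 1
  obtain ⟨f, hf⟩ := hx.2 y hy.1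
  have h1 : ∀ v, aeval (toE x) (f - 1) v = y v - v := by
    intro v
    have h1 : y v = aeval (toE x) f v := congrArg (fun t : Module.End F V => t v) hf
    rw [map_sub, LinearMap.sub_apply, map_one, h1]
    rfl
  refine ⟨f - 1, fun v hv => ?_, ?_⟩
  · rw [h1, hy.2 v (H.dec.le 1 0 (by decide) hv), sub_self]
  · rcases zero_or_inj (toE x) (fun v hv => H.dec.inv 1 x hx.1 v hv) (fun U' h2 h3 => reg_irr H hx 1 U' h2 h3) (f - 1) with
      h2 | h2
    · exfalso
      apply hy1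
      refine equiv_ext_compl (H.dec.compl 1) (fun v hv => ?_) hy.2
      have h3 := h2 v hv
      rw [h1, sub_eq_zero] at h3
      exact h3
    · exact h2

variable [Finite V] [FiniteDimensional F V] [Fact p.Prime]

/-- **(C)**: the fusion bound -/
theorem fusion (hpF : (p : F) ≠ 0) (H : TwoB p a c h P D) {x : V ≃ₗ[F] V} (hx : x ∈ RegE P) :
    Nat.card {x' : V ≃ₗ[F] V // x' ∈ RegE P ∧ ∃ g ∈ G, g * x * g⁻¹ = x'} ≤ 8 * c ^ 2 := by
  have hnd := nd_fix hpF h H.syl.le H.syl.isP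
  have hc0 := h.isCompl_perp hnd
  have hsup : fixP P ⊔ D 0 ⊔ D 1 = ⊤ := by
    rw [eq_top_iff, ← hc0.sup_eq_top, ← H.frm.sup]
    refine sup_le (le_sup_left.trans le_sup_left) (iSup_le fun i => ?_)
    fin_cases i
    · exact le_sup_right.trans le_sup_left
    · exact le_sup_right
  have hdir : ∀ v0 ∈ fixP P, ∀ v1 ∈ D 0, ∀ v2 ∈ D 1, v0 + v1 + v2 = 0 → v0 = 0 ∧ v1 = 0 ∧ v2 = 0 := by
    intro v0 hv0 v1 hv1 v2 hv2 hsum
    have h1 : v1 + v2 ∈ h.perp (fixP P) := Submodule.add_mem _ (H.frm.le_perp 0 hv1) (H.frm.le_perp 1 hv2)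
    have h2 : v0 = -(v1 + v2) := eq_neg_of_add_eq_zero_left (by rw [← add_assoc]; exact hsum)
    have h3 : v0 ∈ fixP P ⊓ h.perp (fixP P) := ⟨hv0, by rw [h2]; exact Submodule.neg_mem _ h1⟩
    rw [hc0.inf_eq_bot, Submodule.mem_bot] at h3
    rw [h3, zero_add] at hsum
    have h4 : v1 = -v2 := eq_neg_of_add_eq_zero_left hsum
    have h5 : v1 ∈ D 0 ⊓ h.perp (D 0) := ⟨hv1, by rw [h4]; exact Submodule.neg_mem _ (H.dec.le 0 1 (by decide) hv2)⟩
    rw [(H.dec.compl 0).inf_eq_bot, Submodule.mem_bot] at h5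
    rw [h5, zero_add] at hsum
    exact ⟨h3, h5, hsum⟩
  obtain ⟨h1, h2⟩ := fusion_le (V0 := fixP P) (H.dim 0) (H.dim 1) hsup (P : Set (V ≃ₗ[F] V)) (RegE P)
    (fun x hx => hx.1) H.ab (fun x hx v hv => hv x hx) (fun x hx v hv => H.dec.inv 0 x hx v hv)
    (fun x hx v hv => H.dec.inv 1 x hx v hv) hdir (fun x hx U hU hxU => reg_irr H hx 0 U hU hxU)
    (fun x hx U hU hxU => reg_irr H hx 1 U hU hxU) (fun x hx => reg_ne H hx 0) (fun x hx => reg_ne H hx 1)
    (fun x hx => reg_sep H hx) hx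
  have h3 : {x' : V ≃ₗ[F] V | x' ∈ RegE P ∧ ∃ g ∈ G, g * x * g⁻¹ = x'} ⊆
      {x' | x' ∈ RegE P ∧ ∃ g : V ≃ₗ[F] V, g * x * g⁻¹ = x'} := by
    rintro x' ⟨h4, g, -, hg⟩
    exact ⟨h4, g, hg⟩
  have h4 : Nat.card {x' : V ≃ₗ[F] V // x' ∈ RegE P ∧ ∃ g ∈ G, g * x * g⁻¹ = x'} =
      {x' : V ≃ₗ[F] V | x' ∈ RegE P ∧ ∃ g ∈ G, g * x * g⁻¹ = x'}.ncard := Nat.card_coe_set_eq _
  rw [h4]
  refine (Set.ncard_le_ncard h3 h1).trans (h2.trans (le_of_eq ?_))
  ring

end

end Cfsg.Agent.H637.HT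
end

-- part: H920/HT/RegTwo
section
/-!
# S4933, box H2 (helper920): the height lemma for the isometry groups of weight 2, unitary primes

`not_dvd_of_two` : `2 c = ord_p(q)`, `|F.iso|_p = p ^ (2 a)`, `p ^ (a + 1) ∤ q ^ c + 1`, `dim V < 6 c`; `Y ≠ Y'` irreducible
characters of `F.iso`, `Y` in the principal block, `Y + Y' = 0` on the elements which fix no totally singular `2 c`-space: `p`
does not divide `Y(1)`.
-/

set_option autoImplicit false

namespace Cfsg.Agent.H920.HT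

open Module Cfsg Cfsg.Agent.H324.AP Cfsg.Agent.H477.HC Cfsg.Agent.H53.HC

universe u v

theorem cast_ne_zero {K : Type u} [Field K] [Finite K] {p c : ℕ} [hp : Fact p.Prime] (hc : 0 < c)
    (ho : orderOf ((Nat.card K : ℕ) : ZMod p) = 2 * c) : (p : K) ≠ 0 := by
  intro h0
  obtain ⟨r, hr⟩ := CharP.exists K
  have hrp : r.Prime := (CharP.char_is_prime_or_zero K r).resolve_right (CharP.char_ne_zero_of_finite K r)
  have h1 := (CharP.cast_eq_zero_iff K r p).1 h0
  have h2 : r = p := (Nat.prime_dvd_prime_iff_eq hrp hp.out).1 h1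
  subst h2
  have := Fintype.ofFinite K
  obtain ⟨n, -, hn⟩ := FiniteField.card K r
  have h3 : ((Nat.card K : ℕ) : ZMod r) = 0 := by
    rw [Nat.card_eq_fintype_card, hn, ZMod.natCast_eq_zero_iff]
    exact dvd_pow_self r n.2.ne'
  rw [h3] at ho
  have h4 : orderOf (0 : ZMod r) = 0 := by
    rw [orderOf_eq_zero_iff']
    intro n hn h2
    rw [zero_pow hn.ne'] at h2
    exact zero_ne_one h2
  omega

/-- **H1 + H2** -/
theorem not_dvd_of_two {K : Type u} [Field K] [Finite K] {V : Type v} [AddCommGroup V] [Module K V] [Finite V]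
    [FiniteDimensional K V] {p : ℕ} [hp : Fact p.Prime] (hp2 : p ≠ 2) (Fm : CForm K V) {a c : ℕ} (ha0 : 0 < a)
    (hc : 0 < c) (ho : orderOf ((Nat.card K : ℕ) : ZMod p) = 2 * c) (ha : ¬ p ^ (a + 1) ∣ Nat.card K ^ c + 1)
    (hdim : finrank K V < 6 * c) (hfac : (Nat.card Fm.iso).factorization p = 2 * a)
    {M : Ideal AlgInt} (hM : IsPModular p M) {Y Y' : IrrCharacter Fm.iso} (hY : Y ∈ principalBlock M Fm.iso)
    (hne : Y ≠ Y') (hv : ∀ g : Fm.iso, (∀ W ∈ Fm.Om (2 * c), g ∉ stabW Fm.iso.subtype W) →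
      (Y : Fm.iso → ℂ) g + (Y' : Fm.iso → ℂ) g = 0) : ¬ p ∣ charDegree (Y : Fm.iso → ℂ) := by
  have hfinG : Finite (V ≃ₗ[K] V) := Finite.of_injective (fun g : V ≃ₗ[K] V => (g : V → V)) DFunLike.coe_injective
  have hpF : (p : K) ≠ 0 := cast_ne_zero hc ho
  obtain ⟨P⟩ : Nonempty (Sylow p Fm.iso) := inferInstance
  have hPc : Nat.card P = p ^ (2 * a) := by rw [P.card_eq_multiplicity, hfac]
  have hPc' : Nat.card ((P : Subgroup Fm.iso).map Fm.iso.subtype) = p ^ (2 * a) := by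
    rw [← hPc]
    exact (Nat.card_congr ((P : Subgroup Fm.iso).equivMapOfInjective Fm.iso.subtype Fm.iso.subtype_injective).toEquiv).symm
  obtain ⟨D, H⟩ := exists_twoB hp2 hpF (splF Fm) (syl_map Fm.iso P) ha0 hc ho ha hdim hPc'
  exact not_dvd_aux Fm ha0 hc ho hdim P hPc H (Cfsg.Agent.H168.HT.card_reg hpF H hc)
    (fun x hx => Cfsg.Agent.H637.HT.fusion hpF H hx) hM hY hne hv

end Cfsg.Agent.H920.HT
end

-- part: H205/HT/YPart
section
/-!
# S4933, classical groups, unitary primes: the characters `Y₁`, `Y₂` of the group of Witt index `2 c` (helper205, box M5)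

`F` of Witt index `2 c`, `c₀` self-dual cuspidal character of `GL (2 c)` in the principal block:
`R₀ = F.hc c₀ 1 = Y₁ + Y₂`;
* `hc_zero` : `R₀ g = 0` if `g` fixes no totally singular subspace of dimension `2 c`;
* `exists_pair` : `R₀ = Y₁ + Y₂`, `Y₁ ≠ Y₂` irreducible;
* `not_dvd_pair` : `p ∤ Y₁(1)`, `p ∤ Y₂(1)` and one of `Y₁`, `Y₂` is in the principal block;
* `W2 F p c` : the numerical data of `F` (`w2_sp`, `w2_plus`, `w2_odd`, `w2_minus`); `W2.pair`, `W2.exists_pair`.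
-/

set_option autoImplicit false
set_option linter.unusedSectionVars false

open Cfsg
open scoped ComplexConjugate

namespace Cfsg.Agent.H205.HT

open Cfsg.Agent.H53.HC Module Cfsg.Agent.H317.PQ Cfsg.Agent.Characters
open Cfsg.Agent.H477.HC Cfsg.Agent.H61.PQ Cfsg.Agent.H749.Two Cfsg.Agent.Blocks.Basic

universe u v w

section

variable {K : Type u} [Field K] {V : Type v} [AddCommGroup V] [Module K V] {F : CForm K V} {k : ℕ}

/-- the Harish-Chandra induced function vanishes on the isometries which fix no member of `Om k` -/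
theorem hc_zero [Fintype (F.Om k)] (c : GL (Fin k) K → ℂ) (ψ : F.iso → Submodule K V → ℂ) {g : F.iso}
    (hg : ∀ W ∈ F.Om k, W.map (F.iso.subtype g : V →ₗ[K] V) ≠ W) : F.hc c ψ g = 0 := by
  classical
  unfold CForm.hc
  refine Finset.sum_eq_zero fun W _ => ?_
  unfold flagTerm
  rw [dif_neg (hg W.1 W.2), zero_mul]

/-- the conclusion of the height lemma for `F` : two irreducible characters whose sum vanishes on the isometries which
fix no totally singular subspace of dimension `k` -/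
def NotDvd (F : CForm K V) (p k : ℕ) (M : Ideal AlgInt) : Prop :=
  ∀ Y Y' : IrrCharacter F.iso, Y ∈ principalBlock M F.iso → Y ≠ Y' →
    (∀ g : F.iso, (∀ W ∈ F.Om k, W.map (F.iso.subtype g : V →ₗ[K] V) ≠ W) →
      (Y : F.iso → ℂ) g + (Y' : F.iso → ℂ) g = 0) → ¬ p ∣ charDegree (Y : F.iso → ℂ)

/-- **`R₀ = Y₁ + Y₂`** -/
theorem exists_pair [Finite K] [Finite V] [FiniteDimensional K V] [Fintype (F.Om k)] (hk : 0 < k)
    {W₀ : Submodule K V} (hW₀ : W₀ ∈ F.Om k) (hmax : ∀ W : Submodule K V, F.TS W → finrank K W ≤ k)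
    {c : GL (Fin k) K → ℂ} (hc : IsIrrCharacter _ c) (hcusp : _root_.Cfsg.Agent.H53.HC.IsCusp c) (hself : c ∘ F.iota k = c) :
    ∃ Y₁ Y₂ : IrrCharacter F.iso, Y₁ ≠ Y₂ ∧
      F.hc c (fun _ _ => 1) = (Y₁ : F.iso → ℂ) + (Y₂ : F.iso → ℂ) := by
  classical
  have := H47.HT.isoFin F
  let _ : Fintype F.iso := Fintype.ofFinite _
  obtain ⟨f, -, hf, hft⟩ := exists_fP F hW₀
  have hn : classInner (F.hc c (fun _ _ => 1)) (F.hc c (fun _ _ => 1)) = 2 * classInner (fun _ : Unit => (1 : ℂ)) 1 := by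
    refine H47.HT.inner_hc (G' := Unit) hc hcusp hself (fun _ _ _ => rfl) (fun _ _ _ => rfl) hW₀ hk
      (1 : stabW F.iso.subtype W₀ →* Unit) (fun _ _ => rfl) (fun a b => ?_) (χ := fun _ => 1) (χ' := 1)
      Core.isCharacter_one Core.isCharacter_one (fun _ => rfl) (fun _ => rfl) (fun _ _ _ _ _ _ => rfl) ?_
    · let b₀ : Basis (Fin k) K W₀ := finBasisOfFinrankEq K W₀ hW₀.2
      obtain ⟨W₁, hW₁, h01⟩ := F.exists_opp hW₀
      have h0' := CForm.opp_symm hW₀.2 hW₁.2 h01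
      obtain ⟨g, hg1, -, -, hg2⟩ := F.exists_levi hW₀.1 hW₁.1
        (fun w hw hw' => by
          have : w ∈ W₀ ⊓ F.perp W₁ := ⟨hw, hw'⟩
          rw [h01] at this
          exact (Submodule.mem_bot K).1 this)
        (fun w hw hw' => by
          have : w ∈ W₁ ⊓ F.perp W₀ := ⟨hw, fun w' hw'' => F.B_eq_zero (hw' w' hw'')⟩
          rw [h0'] at this
          exact (Submodule.mem_bot K).1 this) a
      exact ⟨⟨g, hg2.1.1⟩, rfl, fun w => hg1 w⟩
    · intro W' hW' h1 h2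
      exact (no_disj hmax (by omega) hW₀ W' hW' h1 h2).elim
  have hn2 : classInner (F.hc c (fun _ _ => 1)) (F.hc c (fun _ _ => 1)) = 2 := by
    rw [hn]
    have : classInner (fun _ : Unit => (1 : ℂ)) 1 = 1 := Core.classInner_irr_self (G := Unit) Core.isIrr_one
    rw [this, mul_one]
  obtain ⟨Y₁, Y₂, h1, h2, h3, h4⟩ := Cfsg.Agent.H113.NormTwoChar.exists_add_of_norm_two
    (H279.Dl.hc_chr hc (H279.Dl.Psi.one F k) hW₀) hn2
  exact ⟨⟨Y₁, h1⟩, ⟨Y₂, h2⟩, fun h => h3 (congrArg Subtype.val h), h4⟩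

/-- **`p ∤ Y₁(1)`, `p ∤ Y₂(1)`, and one of them is in the principal block** -/
theorem not_dvd_pair [Finite K] [Finite V] [FiniteDimensional K V] [Fintype (F.Om k)] {p : ℕ} (hp : p.Prime)
    {M : Ideal AlgInt} (hM : IsPModular p M) {W₀ : Submodule K V} (hW₀ : W₀ ∈ F.Om k)
    {c : IrrCharacter (GL (Fin k) K)} (hc : c ∈ principalBlock M (GL (Fin k) K))
    (hOm : p ∣ Nat.card (F.Om k)) (hnd : NotDvd F p k M) {Y₁ Y₂ : IrrCharacter F.iso} (hne : Y₁ ≠ Y₂)
    (hY : F.hc (c : GL (Fin k) K → ℂ) (fun _ _ => 1) = (Y₁ : F.iso → ℂ) + (Y₂ : F.iso → ℂ)) :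
    ¬ p ∣ charDegree (Y₁ : F.iso → ℂ) ∧ ¬ p ∣ charDegree (Y₂ : F.iso → ℂ) ∧
      (Y₁ ∈ principalBlock M F.iso ∨ Y₂ ∈ principalBlock M F.iso) := by
  classical
  have := H47.HT.isoFin F
  have hcl := Core.isIrr_isClassFunction c.2
  -- the block
  have hB : Y₁ ∈ principalBlock M F.iso ∨ Y₂ ∈ principalBlock M F.iso := by
    rw [← B0_eq hp hM] at hc ⊢
    obtain ⟨f, -, hf, hft⟩ := exists_fP F hW₀
    have hsurj : Function.Surjective f := fun A => by
      obtain ⟨g, -, hg⟩ := hf A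
      exact ⟨g, hg⟩
    obtain ⟨ψ, hψ, hψc⟩ := H766.PQ.mem_B0_comp hsurj hp hc
    rw [mem_B0_iff_sreg hp] at hψ
    have h1 := sreg_hc F p (1 : F.iso →* ℂˣ) hcl hW₀
    have h2 : (fun g : F.iso => (((1 : F.iso →* ℂˣ) g : ℂˣ) : ℂ) * F.hc (c : GL (Fin k) K → ℂ) (fun _ _ => 1) g) =
        (Y₁ : F.iso → ℂ) + (Y₂ : F.iso → ℂ) := by
      rw [← hY]
      funext g
      rw [MonoidHom.one_apply, Units.val_one, one_mul]
    have h3 : (fun g : stabW F.iso.subtype W₀ => (((1 : F.iso →* ℂˣ) g : ℂˣ) : ℂ) *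
        flagTerm F.iso.subtype (c : GL (Fin k) K → ℂ) g W₀) = (ψ : stabW F.iso.subtype W₀ → ℂ) := by
      rw [hψc]
      funext g
      rw [MonoidHom.one_apply, Units.val_one, one_mul, hft _ hcl, Function.comp_apply]
    rw [h2, h3, sreg_add] at h1
    have h4 : (Nat.card (F.Om k) : ℂ) ≠ 0 := by
      have : Nonempty (F.Om k) := ⟨⟨W₀, hW₀⟩⟩
      exact Nat.cast_ne_zero.2 Nat.card_pos.ne'
    by_contra hcon
    push Not at hcon
    rw [mem_B0_iff_sreg hp, mem_B0_iff_sreg hp, not_not, not_not] at hcon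
    rw [hcon.1, hcon.2, add_zero] at h1
    exact mul_ne_zero h4 hψ h1.symm
  -- the degrees
  have hd : p ∣ charDegree (Y₁ : F.iso → ℂ) + charDegree (Y₂ : F.iso → ℂ) := by
    have h1 := F.hc_one hcl (fun _ _ => 1) (d := 1) (fun _ _ => rfl)
    rw [hY, Pi.add_apply, mul_one] at h1
    rw [← (Blocks.HeightZero.charDegree_cast Y₁).1, ← (Blocks.HeightZero.charDegree_cast Y₂).1,
      ← (Blocks.HeightZero.charDegree_cast c).1] at h1
    have h2 : charDegree (Y₁ : F.iso → ℂ) + charDegree (Y₂ : F.iso → ℂ) =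
        Nat.card (F.Om k) * charDegree (c : GL (Fin k) K → ℂ) := by exact_mod_cast h1
    rw [h2]
    exact hOm.mul_right _
  have hv : ∀ g : F.iso, (∀ W ∈ F.Om k, W.map (F.iso.subtype g : V →ₗ[K] V) ≠ W) →
      (Y₁ : F.iso → ℂ) g + (Y₂ : F.iso → ℂ) g = 0 := by
    intro g hg
    have h1 := hc_zero (F := F) (c : GL (Fin k) K → ℂ) (fun _ _ => 1) hg
    rw [hY] at h1
    exact h1
  rcases hB with h | h
  · have h1 := hnd Y₁ Y₂ h hne hv
    exact ⟨h1, fun h2 => h1 ((Nat.dvd_add_left h2).1 hd), Or.inl h⟩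
  · have h1 := hnd Y₂ Y₁ h hne.symm fun g hg => by rw [add_comm]; exact hv g hg
    exact ⟨fun h2 => h1 ((Nat.dvd_add_right h2).1 hd), h1, Or.inr h⟩

/-- the numerical data of the group of Witt index `2 c` -/
structure W2 (F : CForm K V) (p c : ℕ) : Prop where
  c0 : 0 < c
  ord : orderOf ((Nat.card K : ℕ) : ZMod p) = 2 * c
  om : ∃ W₀, W₀ ∈ F.Om (2 * c)
  le : ∀ W : Submodule K V, F.TS W → finrank K W ≤ 2 * c
  dim : finrank K V < 6 * c
  fac : (Nat.card F.iso).factorization p = 2 * padicValNat p (Nat.card K ^ c + 1)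
  vom : padicValNat p (Nat.card (F.Om (2 * c))) = padicValNat p (Nat.card K ^ c + 1)

/-- `p ∣ q ^ c + 1` -/
theorem dvd_of_ord [Finite K] {p c : ℕ} [hp : Fact p.Prime] (hc : 0 < c)
    (ho : orderOf ((Nat.card K : ℕ) : ZMod p) = 2 * c) : p ∣ Nat.card K ^ c + 1 := by
  have h1 : (((Nat.card K : ℕ) : ZMod p) ^ c) ^ 2 = 1 := by
    rw [← pow_mul, mul_comm, ← ho]
    exact pow_orderOf_eq_one _
  have h2 : ((Nat.card K : ℕ) : ZMod p) ^ c ≠ 1 := fun h => by
    have := orderOf_le_of_pow_eq_one hc h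
    omega
  rw [← ZMod.natCast_eq_zero_iff]
  push_cast
  rw [pow_two, mul_self_eq_one_iff] at h1
  rcases h1 with h | h
  · exact absurd h h2
  · rw [h, neg_add_cancel]

theorem W2.pos [Finite K] {p c : ℕ} [hp : Fact p.Prime] (h : W2 F p c) : 0 < padicValNat p (Nat.card K ^ c + 1) :=
  Nat.pos_of_ne_zero fun h0 => (padicValNat.eq_zero_iff.1 h0).elim hp.out.one_lt.ne'
    fun h1 => h1.elim (Nat.succ_ne_zero _) fun h2 => h2 (dvd_of_ord h.c0 h.ord)

/-- the height lemma for `F` -/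
theorem W2.notDvd [Finite K] [Finite V] [FiniteDimensional K V] {p c : ℕ} [hp : Fact p.Prime] (hp2 : p ≠ 2)
    (h : W2 F p c) {M : Ideal AlgInt} (hM : IsPModular p M) : NotDvd F p (2 * c) M := by
  intro Y Y' hY hne hv
  exact H920.HT.not_dvd_of_two hp2 F h.pos h.c0 h.ord
    (pow_succ_padicValNat_not_dvd (Nat.succ_ne_zero _)) h.dim h.fac hM hY hne fun g hg => hv g fun W hW h1 => hg W hW h1

/-- **Box M5**, for given `Y₁`, `Y₂` -/
theorem W2.pair [Finite K] [Finite V] [FiniteDimensional K V] {p c : ℕ} [hp : Fact p.Prime] (hp2 : p ≠ 2)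
    (h : W2 F p c) [Fintype (F.Om (2 * c))] {M : Ideal AlgInt} (hM : IsPModular p M)
    {c₀ : IrrCharacter (GL (Fin (2 * c)) K)} (hc : c₀ ∈ principalBlock M (GL (Fin (2 * c)) K))
    {Y₁ Y₂ : IrrCharacter F.iso} (hne : Y₁ ≠ Y₂)
    (hY : F.hc (c₀ : GL (Fin (2 * c)) K → ℂ) (fun _ _ => 1) = (Y₁ : F.iso → ℂ) + (Y₂ : F.iso → ℂ)) :
    ¬ p ∣ charDegree (Y₁ : F.iso → ℂ) ∧ ¬ p ∣ charDegree (Y₂ : F.iso → ℂ) ∧
      (Y₁ ∈ principalBlock M F.iso ∨ Y₂ ∈ principalBlock M F.iso) := by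
  obtain ⟨W₀, hW₀⟩ := h.om
  refine not_dvd_pair hp.out hM hW₀ hc ?_ (h.notDvd hp2 hM) hne hY
  have h1 := h.pos
  rw [← h.vom] at h1
  exact dvd_of_one_le_padicValNat h1

/-- **Box M5** -/
theorem W2.exists_pair [Finite K] [Finite V] [FiniteDimensional K V] {p c : ℕ} [hp : Fact p.Prime] (hp2 : p ≠ 2)
    (h : W2 F p c) [Fintype (F.Om (2 * c))] {M : Ideal AlgInt} (hM : IsPModular p M)
    {c₀ : IrrCharacter (GL (Fin (2 * c)) K)} (hc : c₀ ∈ principalBlock M (GL (Fin (2 * c)) K))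
    (hcusp : _root_.Cfsg.Agent.H53.HC.IsCusp (c₀ : GL (Fin (2 * c)) K → ℂ))
    (hself : (c₀ : GL (Fin (2 * c)) K → ℂ) ∘ F.iota (2 * c) = (c₀ : GL (Fin (2 * c)) K → ℂ)) :
    ∃ Y₁ Y₂ : IrrCharacter F.iso, Y₁ ≠ Y₂ ∧
      F.hc (c₀ : GL (Fin (2 * c)) K → ℂ) (fun _ _ => 1) = (Y₁ : F.iso → ℂ) + (Y₂ : F.iso → ℂ) ∧
      ¬ p ∣ charDegree (Y₁ : F.iso → ℂ) ∧ ¬ p ∣ charDegree (Y₂ : F.iso → ℂ) ∧
      (Y₁ ∈ principalBlock M F.iso ∨ Y₂ ∈ principalBlock M F.iso) := by
  obtain ⟨W₀, hW₀⟩ := h.om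
  obtain ⟨Y₁, Y₂, hne, hY⟩ := HT.exists_pair (F := F) (Nat.mul_pos two_pos h.c0) hW₀ h.le c₀.2 hcusp hself
  exact ⟨Y₁, Y₂, hne, hY, h.pair hp2 hM hc hne hY⟩

end

section kinds

open Cfsg.Agent.H35.HT.Idx CForm

variable (K : Type u) [Field K] [Finite K] {p c : ℕ} [hp : Fact p.Prime]

theorem w2_sp (hp2 : p ≠ 2) (hc0 : 0 < c) (ho : orderOf ((Nat.card K : ℕ) : ZMod p) = 2 * c) :
    W2 (spF K (2 * c)) p c where
  c0 := hc0
  ord := ho
  om := by
    obtain ⟨W₀, hW₀, -⟩ := spF_cmp K (2 * c) 0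
    exact ⟨W₀, hW₀⟩
  le := H18.HT.spF_le K (2 * c)
  dim := by
    simp only [Module.finrank_fintype_fun_eq_card, Fintype.card_sum, Fintype.card_fin]
    omega
  fac := H195.HT.fac_sp K hp2 hc0 ho rfl
  vom := om_sp K ho hc0 (n := 0) (Or.inr rfl)

theorem w2_plus (hp2 : p ≠ 2) (hc0 : 0 < c) (ho : orderOf ((Nat.card K : ℕ) : ZMod p) = 2 * c) :
    W2 (plusF K (2 * c)) p c where
  c0 := hc0
  ord := ho
  om := by
    obtain ⟨W₀, hW₀, -⟩ := plusF_cmp K (2 * c) 0
    exact ⟨W₀, hW₀⟩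
  le := H18.HT.plusF_le K (2 * c)
  dim := by
    simp only [Module.finrank_fintype_fun_eq_card, Fintype.card_sum, Fintype.card_fin]
    omega
  fac := H195.HT.fac_plus K hp2 hc0 ho rfl
  vom := om_plus K ho hc0 (n := 0) (Or.inr rfl)

theorem w2_odd (h2 : (2 : K) ≠ 0) (hp2 : p ≠ 2) (hc0 : 0 < c) (ho : orderOf ((Nat.card K : ℕ) : ZMod p) = 2 * c) :
    W2 (oddF K (2 * c) h2) p c where
  c0 := hc0
  ord := ho
  om := by
    obtain ⟨W₀, hW₀, -⟩ := oddF_cmp K h2 (2 * c) 0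
    exact ⟨W₀, hW₀⟩
  le := H18.HT.oddF_le K h2 (2 * c)
  dim := by
    simp only [Module.finrank_fintype_fun_eq_card, Fintype.card_sum, Fintype.card_fin, Fintype.card_unit]
    omega
  fac := H195.HT.fac_odd K h2 hp2 hc0 ho rfl
  vom := om_odd K h2 (H195.HT.odd_card K h2) ho hc0 (n := 0) (Or.inr rfl)

theorem w2_minus {α β : K} (hab : ∀ z₁ z₂ : K, z₁ ^ 2 + α * z₁ * z₂ + β * z₂ ^ 2 = 0 → z₁ = 0 ∧ z₂ = 0)
    (hp2 : p ≠ 2) (hc1 : 1 < c) (ho : orderOf ((Nat.card K : ℕ) : ZMod p) = 2 * c) :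
    W2 (minusF K (2 * c) α β hab) p c where
  c0 := by omega
  ord := ho
  om := by
    obtain ⟨W₀, hW₀, -⟩ := minusF_cmp K hab (2 * c) 0
    exact ⟨W₀, hW₀⟩
  le := by
    obtain ⟨W₀, Z₀, W₂, Z', h⟩ := H18.HT.minusF_dbl K hab (2 * c) 0
    exact h.le₂
  dim := by
    simp only [Module.finrank_fintype_fun_eq_card, Fintype.card_sum, Fintype.card_fin]
    omega
  fac := H195.HT.fac_minus K hab hp2 hc1 ho rfl
  vom := om_minus K ho (by omega) (n := 0) hab (Or.inr ⟨rfl, hc1⟩)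

end kinds

end Cfsg.Agent.H205.HT
end

-- part: H766/HT/Seven
section
/-!
# S4933, box M7, the kinds `oddF` and `minusF` (helper766)

`q` of order `2 c` modulo `p`, the weight `W` of rank `m` is `-1` modulo `p`, `p ≤ W < p ^ 2`: a character of the principal
block, `1 ≤ v ≤ 2`, `v = 1` if `W < 2 p`, invariant under the semisimilarities of `p`-power order (`Seven`).
-/

set_option autoImplicit false
set_option linter.unusedSectionVars false

open Cfsg

namespace Cfsg.Agent.H766.HT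

open MulAction Module Cfsg.Agent.H53.HC Cfsg.Agent.H477.HC Cfsg.Agent.H477.HC.CForm Cfsg.Agent.H35.HT
open Cfsg.Agent.H178.HT (Seven fin_abs)

universe u

variable {K : Type u} [Field K] [Finite K] {p : ℕ} [hp : Fact p.Prime] {c m : ℕ} {M : Ideal AlgInt}

/-- **orthogonal groups of odd dimension** -/
theorem seven_odd (ho : (2 : K) ≠ 0) (hd : orderOf ((Nat.card K : ℕ) : ZMod p) = 2 * c) (hc0 : 0 < c)
    (h1 : p ≤ Idx.wSp c m) (h2 : Idx.wSp c m < p ^ 2) (h3 : p ∣ Idx.wSp c m + 1) (hM : IsPModular p M) :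
    Seven p (oddF K m ho) (Idx.wSp c m < 2 * p) M := by
  have hp1 := Val.odd_of hd hc0
  have hp2 : p ≠ 2 := by
    rintro rfl
    exact absurd hp1 (by decide)
  obtain ⟨n, rfl, -⟩ := Wm.split_sp hp1 hc0 h1
  obtain ⟨W₀, Z₀, W₂, Z', D⟩ := H18.HT.oddF_dbl K ho (2 * c) n
  obtain ⟨ρ, hρ, hself, -⟩ := H551.HT.exists_rho K (Val.not_dvd hd hc0) hd
  obtain ⟨χ, hχ⟩ := wm_odd (K := K) ho hd hc0 h1 h2 h3
  refine fin_abs hp1 D (by omega) hρ (hself (even_two_mul c)) hχ ?_ ?_ hM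
  · intro inst
    obtain ⟨Y₁, Y₂, e1, e2, e3, e4, -⟩ := (H205.HT.w2_odd K ho hp2 hc0 hd).exists_pair hp2 hM (hρ.mem hM) hρ.cusp
      (hself (even_two_mul c))
    exact ⟨Y₁, Y₂, e1, e2, e3, e4⟩
  · have hK := H195.HT.odd_card K ho
    rw [Nat.factorization_def _ hp.out, Nat.factorization_def _ hp.out, Idx.om_odd K ho hK hd hc0 (Or.inl h3)]
    exact (Idx.om_odd K ho hK hd hc0 (n := 0) (Or.inr rfl)).symm

/-- **orthogonal groups of minus type** -/
theorem seven_minus (a b : K) (hab : ∀ z₁ z₂ : K, z₁ ^ 2 + a * z₁ * z₂ + b * z₂ ^ 2 = 0 → z₁ = 0 ∧ z₂ = 0)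
    (hd : orderOf ((Nat.card K : ℕ) : ZMod p) = 2 * c) (hc : 2 ≤ c)
    (h1 : p ≤ Idx.wMinus c m) (h2 : Idx.wMinus c m < p ^ 2) (h3 : p ∣ Idx.wMinus c m + 1) (hM : IsPModular p M) :
    Seven p (minusF K m a b hab) (Idx.wMinus c m < 2 * p) M := by
  have hc0 : 0 < c := by omega
  have hp1 := Val.odd_of hd hc0
  have hp2 : p ≠ 2 := by
    rintro rfl
    exact absurd hp1 (by decide)
  obtain ⟨n, rfl, -⟩ := Wm.split_minus hp1 hc0 h1
  obtain ⟨W₀, Z₀, W₂, Z', D⟩ := H18.HT.minusF_dbl K hab (2 * c) n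
  obtain ⟨ρ, hρ, hself, -⟩ := H551.HT.exists_rho K (Val.not_dvd hd hc0) hd
  obtain ⟨χ, hχ⟩ := wm_minus (K := K) a b hab hd hc h1 h2 h3
  refine fin_abs hp1 D (by omega) hρ (hself (even_two_mul c)) hχ ?_ ?_ hM
  · intro inst
    obtain ⟨Y₁, Y₂, e1, e2, e3, e4, -⟩ := (H205.HT.w2_minus K hab hp2 (by omega) hd).exists_pair hp2 hM (hρ.mem hM)
      hρ.cusp (hself (even_two_mul c))
    exact ⟨Y₁, Y₂, e1, e2, e3, e4⟩
  · rw [Nat.factorization_def _ hp.out, Nat.factorization_def _ hp.out, Idx.om_minus K hd hc0 hab (Or.inl h3)]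
    exact (Idx.om_minus K hd hc0 (n := 0) hab (Or.inr ⟨rfl, hc⟩)).symm

end Cfsg.Agent.H766.HT
end

-- part: H766/HT/SevenBd
section
/-!
# S4933, box M7: the form `UBox` of helper553 (helper766)

`Seven.ubox`, `ubox_odd`, `ubox_minus` : `0 < vd ≤ bd p W`.
-/

set_option autoImplicit false
set_option linter.unusedSectionVars false

open Cfsg

namespace Cfsg.Agent.H766.HT

open MulAction Module Cfsg.Agent.H53.HC Cfsg.Agent.H477.HC Cfsg.Agent.H477.HC.CForm Cfsg.Agent.H35.HT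
open Cfsg.Agent.H178.HT (Seven)

universe u v

/-- the form of helper553's `UBox` (definitionally equal) -/
theorem ubox_of {K : Type u} [Field K] {V : Type v} [AddCommGroup V] [Module K V] {F : CForm K V} {p W : ℕ}
    {M : Ideal AlgInt} (h : Seven p F (W < 2 * p) M) :
    ∃ χ : IrrCharacter F.iso, χ ∈ principalBlock M F.iso ∧ 0 < H316.HT.vd p (χ : F.iso → ℂ) ∧
      H316.HT.vd p (χ : F.iso → ℂ) ≤ H487.HT.bd p W ∧ H745.HT.PInv p F (χ : F.iso → ℂ) := by
  obtain ⟨χ, h1, h2, h3, h4, h5⟩ := h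
  exact ⟨χ, h1, h2, H487.HT.bd_le h3 h4, h5⟩

variable {K : Type u} [Field K] [Finite K] {p : ℕ} [hp : Fact p.Prime] {c m : ℕ} {M : Ideal AlgInt}

/-- **orthogonal groups of odd dimension** -/
theorem ubox_odd (ho : (2 : K) ≠ 0) (hd : orderOf ((Nat.card K : ℕ) : ZMod p) = 2 * c) (hc0 : 0 < c)
    (h1 : p ≤ m / c) (h2 : m / c < p ^ 2) (h3 : p ∣ m / c + 1) (hM : IsPModular p M) :
    ∃ χ : IrrCharacter (oddF K m ho).iso, χ ∈ principalBlock M (oddF K m ho).iso ∧
      0 < H316.HT.vd p (χ : (oddF K m ho).iso → ℂ) ∧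
      H316.HT.vd p (χ : (oddF K m ho).iso → ℂ) ≤ H487.HT.bd p (m / c) ∧
      H745.HT.PInv p (oddF K m ho) (χ : (oddF K m ho).iso → ℂ) :=
  ubox_of (seven_odd ho hd hc0 h1 h2 h3 hM)

/-- **orthogonal groups of minus type** -/
theorem ubox_minus (a b : K) (hab : ∀ z₁ z₂ : K, z₁ ^ 2 + a * z₁ * z₂ + b * z₂ ^ 2 = 0 → z₁ = 0 ∧ z₂ = 0)
    (hd : orderOf ((Nat.card K : ℕ) : ZMod p) = 2 * c) (hc : 2 ≤ c)
    (h1 : p ≤ Idx.wMinus c m) (h2 : Idx.wMinus c m < p ^ 2) (h3 : p ∣ Idx.wMinus c m + 1) (hM : IsPModular p M) :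
    ∃ χ : IrrCharacter (minusF K m a b hab).iso, χ ∈ principalBlock M (minusF K m a b hab).iso ∧
      0 < H316.HT.vd p (χ : (minusF K m a b hab).iso → ℂ) ∧
      H316.HT.vd p (χ : (minusF K m a b hab).iso → ℂ) ≤ H487.HT.bd p (Idx.wMinus c m) ∧
      H745.HT.PInv p (minusF K m a b hab) (χ : (minusF K m a b hab).iso → ℂ) :=
  ubox_of (seven_minus a b hab hd hc h1 h2 h3 hM)

end Cfsg.Agent.H766.HT
end

private theorem dce_ff2cdfaddd22 : _root_.True := by
  try have : _root_.True := by simp only [_root_.Cfsg.Agent.H324.AP.SplF.perp.congr_simp]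
  exact _root_.True.intro
end

section
prune_inst 0xbcfcf8aaa825dfdfff7e3faed8ddfc11c0cfffa4dff903bfe0298f0b9f030209e1a3850de010fe0e42401410a87803f97ecabfe06bdc7ffffd5ff41ffbee0fe5f7350851d48c340f340ff603f0778a6f000000000000000000000000000000000200000000

-- part: H487/HT/OddLk_mg
section
prune_inst 0x410106115112202000004001040001ae28300000000070400042508020081800045028e00280000094020000000040068104400200000000000000400000501208880000000000000860009000000410000000000020000000000000000000000004010000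
set_option linter.all false
open scoped Cfsg.Agent.FastGrp

-- part: H719/HT/FixLt
section
/-!
# S4933, box (5): nonabelian `p`-groups with a fixed vector (helper719)

* `lt_finrank` : a nonabelian `p`-group of linear maps with a fixed vector has degree larger than `p e`;
* `two_lt_finrank` : the same for the linear primes and isometries, larger than `2 p e`;
* `exists_fix_of_free` : (after helper345) a `p`-group acting on a set together with a free `p`-group commuting with it;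
* `exists_fix` : a `p`-group fixes a nonsingular vector if the number of nonsingular lines is prime to `p`.
-/

set_option autoImplicit false
set_option linter.unusedSectionVars false

namespace Cfsg.Agent.H719.HT.AbW

open Polynomial Module
open scoped commutatorElement

universe u v

variable {p : ℕ} [hp : Fact p.Prime] {F : Type u} [Field F] [Fintype F]

section main

variable {V : Type v} [AddCommGroup V] [Module F V] [FiniteDimensional F V]

end main

/-! ### fixed vectors -/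

end Cfsg.Agent.H719.HT.AbW
end

-- part: H719/HT/AbW
section
/-!
# S4933, box (5): Sylow `p`-subgroups not abelian implies `p ≤ W` (helper719)

`p` odd, prime to `q = |F|`, `f` the order of `q` modulo `p`, `m` the Witt index:
* `psp`, `oodd` : `p f ≤ m` (`f` odd), `p (f / 2) ≤ m` (`f` even);
* `oplus` : `p f ≤ m` (`f` odd), `p (f / 2) < m` (`f` even);
* `ominus` : `p f ≤ m` (`f` odd), `p (f / 2) ≤ m + 1` (`f` even).
-/

set_option autoImplicit false
set_option linter.unusedSectionVars false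

open Cfsg Subgroup Module QuadraticMap

namespace Cfsg.Agent.H719.HT.AbW

open Cfsg.Agent.H443.XC Cfsg.Agent.H324.AP
open Cfsg.Agent.LieClassical.OrthCore Cfsg.Agent.LieClassical.OrthTrans Cfsg.Agent.LieClassical.OrthForms
open Cfsg.Agent.LieClassical.OrthFinite Cfsg.Agent.H674.XZ.Sp Cfsg.Agent.H914.XR.OrthS Cfsg.Agent.H892.HT

variable {p : ℕ} [hp : Fact p.Prime]

theorem ab_of {S : Type} [Group S] (h : AbSyl p S) : Ab p S :=
  fun P => ⟨⟨fun x y => Subtype.ext (h P x x.2 y y.2)⟩⟩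

/-- a prime number and the characteristic -/
theorem exists_r {F : Type} [Field F] [Fintype F] (hpF : ¬ p ∣ Fintype.card F) :
    ∃ r : ℕ, ∃ _ : Fact r.Prime, CharP F r ∧ r ≠ p := by
  obtain ⟨r, hr⟩ := CharP.exists F
  have hrp : r.Prime := CharP.char_is_prime F r
  obtain ⟨k, hk, hcard⟩ := FiniteField.card F r
  refine ⟨r, ⟨hrp⟩, hr, ?_⟩
  rintro rfl
  apply hpF
  rw [hcard]
  exact dvd_pow_self _ k.pos.ne'

/-! ### `PSp` and `PΩ` in odd dimension -/

/-- **`PΩ_{2m+1}(q)`** -/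
theorem oodd_hv (hp2 : p ≠ 2) {F : Type} [Field F] [Fintype F] {m : ℕ} (hm : 3 ≤ m) (ho : Odd (Fintype.card F))
    (hpF : ¬ p ∣ Fintype.card F) (hab : ¬ Ab p (POmega F (quadFormOdd m F))) : p * hv p (Fintype.card F) ≤ m := by
  by_contra hcon
  obtain ⟨r, hr, hc, hrp⟩ := exists_r hpF
  have hG := Cfsg.Agent.H674.XZ.Odd.good (m := m) (Cfsg.Agent.H674.XZ.Odd.two_ne ho) (by omega)
  rw [← coe_oddForm] at hab
  have hfin : Finite (POmega F ⇑(oddForm m F)) := by
    exact Quotient.finite _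
  refine hab (ab_of (Cfsg.Agent.H674.XZ.Odd.abSyl_E (r := r) hrp hp2 hG (Cfsg.Agent.TitsThree.KSideO.toPOmega hG)
    (Cfsg.Agent.TitsThree.KSideO.toPOmega_surjective hG) ?_))
  rw [Module.finrank_fintype_fun_eq_card, Fintype.card_sum, Fintype.card_sum, Fintype.card_fin, Fintype.card_unit]
  omega

/-! ### the even dimensions -/

section even

variable {F V : Type} [Field F] [Fintype F] [AddCommGroup V] [Module F V] [Finite V] {Q : QuadraticForm F V}
  {S : Type} [Group S] [Finite S]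

end even

/-! ### counting -/

section count

variable {F : Type} [Field F] [Fintype F]

end count

/-! ### the results -/

section res

variable {F : Type} [Field F] [Fintype F] {m : ℕ}

/-! ### the weights -/

/-- the weight in terms of the Witt index `m`: `e = 1` for `PSp_2m`, `PΩ_{2m+1}`, `e = 0` for `PΩ⁺_2m`, `e = 2` for
`PΩ⁻_{2m+2}`, `f` the order of `q` modulo `p` -/
def WOne (m f : ℕ) : ℕ := if Even f then m / (f / 2) else m / f

theorem le_WOne (hpF : ¬ p ∣ Fintype.card F) (h : p * hv p (Fintype.card F) ≤ m) :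
    p ≤ WOne m (orderOf (Fintype.card F : ZMod p)) := by
  have h7 : 0 < hv p (Fintype.card F) := Cfsg.Agent.H674.XZ.Sp.hv_pos hpF
  unfold WOne
  by_cases hev : Even (orderOf (Fintype.card F : ZMod p))
  · rw [if_pos hev, hv_even hev, Nat.mul_div_cancel_left _ Nat.two_pos]
    exact (Nat.le_div_iff_mul_le h7).2 h
  · rw [if_neg hev, hv_odd hev]
    exact (Nat.le_div_iff_mul_le h7).2 h

/-- `PΩ_{2m+1}` : **not abelian implies `p ≤ W`** -/
theorem oodd_W (hp2 : p ≠ 2) (hm : 3 ≤ m) (ho : Odd (Fintype.card F)) (hpF : ¬ p ∣ Fintype.card F)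
    (hab : ¬ Ab p (POmega F (quadFormOdd m F))) : p ≤ WOne m (orderOf (Fintype.card F : ZMod p)) :=
  le_WOne hpF (oodd_hv hp2 hm ho hpF hab)

end res

end Cfsg.Agent.H719.HT.AbW
end

-- part: H487/HT/RowOOddOf
section
/-!
# S4933: the row `POmega_{2m+1}(q)`, `p` odd, cross characteristic, nonabelian Sylow (helper487)

`row_of` : the row from the dual polar characters (`W ≢ -1`) and the Harish-Chandra induced characters (`W ≡ -1`).
-/

set_option autoImplicit false

open Cfsg Cfsg.Agent.H316.HT Cfsg.Agent.H892.HT Cfsg.Agent.H719.HT.AbW Cfsg.Agent.LieClassical.OrthForms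
  Cfsg.Agent.LieClassical.OrthFinite Cfsg.Agent.H477.HC Cfsg.Agent.H477.HC.CForm

namespace Cfsg.Agent.H487.HT.OOdd

variable {p : ℕ} [hp : Fact p.Prime] {F : Type} [Field F] [Fintype F] {m : ℕ}

/-- the weight -/
noncomputable abbrev W (p : ℕ) (F : Type) [Field F] [Fintype F] (m : ℕ) : ℕ := WOne m (orderOf (Fintype.card F : ZMod p))

end Cfsg.Agent.H487.HT.OOdd
end

-- part: H487/HT/OddLin
section
/-!
# S4933: the row `POmega_{2m+1}(q)`: the Harish-Chandra case, `ord_p(q)` odd (helper487)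
-/

set_option autoImplicit false

open Cfsg Cfsg.Agent.H316.HT Cfsg.Agent.H892.HT Cfsg.Agent.H719.HT.AbW Cfsg.Agent.LieClassical.OrthForms
  Cfsg.Agent.LieClassical.OrthFinite Cfsg.Agent.H477.HC Cfsg.Agent.H477.HC.CForm Cfsg.Agent.H139.HT
  Cfsg.Agent.H745.HT

namespace Cfsg.Agent.H487.HT.OOdd

variable {p : ℕ} [hp : Fact p.Prime] {F : Type} [Field F] [Fintype F] {m : ℕ}

/-- helper139's format -/
theorem chars_of_box (h2 : (2 : F) ≠ 0) {b : ℕ} (hb : 1 ≤ b)
    (h : ∀ M : Ideal AlgInt, IsPModular p M → Box p M (oddF F m h2)) :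
    Chars p b (oddForm m F) (oddF F m h2).iso.subtype := by
  intro M hM
  obtain ⟨χ, h1, h3, h4⟩ := h M hM
  exact ⟨χ, h1, by omega, by omega, ssInv_of_isoInv _ (oddF_Q' h2) (oddF_B' h2) h4⟩

/-- helper745's format -/
theorem chars_of_pInv (h2 : (2 : F) ≠ 0) {b : ℕ}
    (h : ∀ M : Ideal AlgInt, IsPModular p M → ∃ χ : IrrCharacter (oddF F m h2).iso,
      χ ∈ principalBlock M (oddF F m h2).iso ∧ 0 < vd p (χ : (oddF F m h2).iso → ℂ) ∧
      vd p (χ : (oddF F m h2).iso → ℂ) ≤ b ∧ PInv p (oddF F m h2) (χ : (oddF F m h2).iso → ℂ)) :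
    Chars p b (oddForm m F) (oddF F m h2).iso.subtype := by
  intro M hM
  obtain ⟨χ, h1, h3, h4, h5⟩ := h M hM
  exact ⟨χ, h1, h3, h4, ssInv_of_pInv _ (oddF_Q' h2) (oddF_B' h2) h5⟩

end Cfsg.Agent.H487.HT.OOdd
end

-- part: H487/HT/OddDP
section
/-!
# S4933: the row `POmega_{2m+1}(q)`: the dual polar characters, `W ≢ -1` (helper487)
-/

set_option autoImplicit false

open Cfsg Cfsg.Agent.H316.HT Cfsg.Agent.H892.HT Cfsg.Agent.H719.HT.AbW Cfsg.Agent.LieClassical.OrthForms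
  Cfsg.Agent.LieClassical.OrthFinite Cfsg.Agent.H477.HC Cfsg.Agent.H477.HC.CForm Cfsg.Agent.H697.HT.XSS

namespace Cfsg.Agent.H487.HT.OOdd

variable {p : ℕ} [hp : Fact p.Prime] {F : Type} [Field F] [Fintype F] {m : ℕ}

/-- **`W ≢ -1`** -/
theorem hdp (hp2 : p ≠ 2) (hm : 3 ≤ m) (h2 : (2 : F) ≠ 0) (hpF : ¬ p ∣ Fintype.card F)
    (h1 : p ≤ W p F m) (h3 : W p F m < p ^ 2) (h4 : ¬ p ∣ W p F m + 1) :
    Chars p (bd p (W p F m)) (oddForm m F) (oddF F m h2).iso.subtype := by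
  intro M hM
  have hr : (oddF F m h2).iso.subtype.range = LieClassical.OrthCore.O (oddForm m F) := by
    rw [Subgroup.range_subtype]
    exact iso_eq_O _ (oddF_Q' h2) (oddF_B' h2)
  have hW : W p F m = wtOdd p (Nat.card F) m := by
    unfold W WOne wtOdd wt
    rw [Nat.card_eq_fintype_card]
    by_cases h : Even (orderOf (Fintype.card F : ZMod p))
    · rw [if_pos h, if_neg (Nat.not_odd_iff_even.2 h)]
    · rw [if_neg h, if_pos (Nat.not_even_iff_odd.1 h)]
  have hfl : Finite ((Unit ⊕ (Fin m ⊕ Fin m) → F) ≃ₗ[F] (Unit ⊕ (Fin m ⊕ Fin m) → F)) :=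
    Finite.of_injective (fun e : (Unit ⊕ (Fin m ⊕ Fin m) → F) ≃ₗ[F] (Unit ⊕ (Fin m ⊕ Fin m) → F) =>
      (e : (Unit ⊕ (Fin m ⊕ Fin m) → F) → (Unit ⊕ (Fin m ⊕ Fin m) → F))) DFunLike.coe_injective
  have hfi : Finite (oddF F m h2).iso := Subtype.finite
  obtain ⟨h5, h6⟩ := xInv_odd hr (H410.BR.typ_odd F h2 (by omega)) hM hp2
    (by rw [Nat.card_eq_fintype_card]; exact hpF) hW h1 h3 h4
  unfold bd
  split_ifs with h
  · exact h6 h
  · exact h5

end Cfsg.Agent.H487.HT.OOdd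
end

-- part: H487/HT/OddLk
section
/-!
# S4933: the row `POmega_{2m+1}(q)`: `DD`, `Pairs` and the linear case (helper487)
-/

set_option autoImplicit false

open Cfsg Cfsg.Agent.H316.HT Cfsg.Agent.H892.HT Cfsg.Agent.H719.HT.AbW Cfsg.Agent.H553.HT Cfsg.Agent.H530.HT
  Cfsg.Agent.LieClassical.OrthForms Cfsg.Agent.H477.HC Cfsg.Agent.H477.HC.CForm Cfsg.Agent.H139.HT

namespace Cfsg.Agent.H487.HT.OOdd

variable {p : ℕ} [hp : Fact p.Prime] {F : Type} [Field F] [Fintype F] {m : ℕ}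

theorem W_eq : nO p (Fintype.card F) m / orderOf (Fintype.card F : ZMod p) = W p F m := by
  show wO p (Fintype.card F) m = W p F m
  unfold W WOne
  rcases Nat.even_or_odd (orderOf (Fintype.card F : ZMod p)) with h | h
  · obtain ⟨c, hc⟩ := h
    have hc' : orderOf (Fintype.card F : ZMod p) = 2 * c := by omega
    rw [wO_even hc', if_pos (by rw [hc']; exact even_two_mul c), hc', Nat.mul_div_cancel_left _ Nat.two_pos]
  · rw [wO_odd h, if_neg (Nat.not_even_iff_odd.2 h)]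

theorem hdd (hp2 : p ≠ 2) (hm : 3 ≤ m) (ho : Odd (Fintype.card F)) (hpF : ¬ p ∣ Fintype.card F)
    (h : p ^ 2 ≤ W p F m) : H720.HT.DD p (POmega F (quadFormOdd m F)) :=
  (lk_oodd hp2 hpF ho (by omega)).dd hp2 rfl hpF (by rw [W_eq]; exact h)

theorem hpr (hp2 : p ≠ 2) (hm : 3 ≤ m) (ho : Odd (Fintype.card F)) (hpF : ¬ p ∣ Fintype.card F)
    (h : 2 * p ≤ W p F m) : Pairs p (POmega F (quadFormOdd m F)) :=
  (lk_oodd hp2 hpF ho (by omega)).pairs hp2 rfl hpF (by rw [W_eq]; exact h)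

/-- **the linear case** -/
theorem hlin (hp2 : p ≠ 2) (h2 : (2 : F) ≠ 0) (ho : Odd (Fintype.card F)) (hpF : ¬ p ∣ Fintype.card F)
    (hodd : Odd (orderOf (Fintype.card F : ZMod p)))
    (h1 : p ≤ W p F m) (h3 : W p F m < p ^ 2) (h4 : p ∣ W p F m + 1) :
    Chars p (bd p (W p F m)) (oddForm m F) (oddF F m h2).iso.subtype := by
  have hW : W p F m = m / orderOf (Fintype.card F : ZMod p) := by
    unfold W WOne
    rw [if_neg (Nat.not_even_iff_odd.2 hodd)]
  refine chars_of_box h2 (one_le_bd _ _) fun M hM => ?_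
  rw [hW] at h1 h3 h4
  exact oddF_fin hp2 hM (by rw [Nat.card_eq_fintype_card]; exact hpF) (by rw [Nat.card_eq_fintype_card]) hodd h4 h1
    (by rw [← pow_two]; exact h3) h2

end Cfsg.Agent.H487.HT.OOdd
end

-- part: H553/HT/WtSp
section
/-!
# S4933, the `p`-subgroups of `Sp_2m(q)` and of `GL_n(q)` (helper553)

`d = orderOf (q : ZMod p)`; `nn p q m = 2 m` if `d` is even, `m` if `d` is odd.

* `fac_GL`, `fac_Sp`, `fac_even`, `fac_odd` : the `p`-parts of the orders;
* `pe_sp`, `pe_sp'` : `Sp_2m(q)` and `GL_(nn)(q)` have the same `p`-subgroups;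
* `psp_w` : `¬ Ab p (PSp m F)` implies `p ≤ w`; `psp_dd` : `p ^ 2 ≤ w` implies `DD`; `psp_pairs` : `2 p ≤ w`,
  `w = wt p q m = nn p q m / d`.
-/

set_option autoImplicit false

open Subgroup Module

namespace Cfsg.Agent.H553.HT

open Cfsg Cfsg.Agent.H316.HT Cfsg.Agent.H720.HT Cfsg.Agent.H487.HT

variable {p : ℕ} [hp : Fact p.Prime] {F : Type} [Field F] [Fintype F] {q : ℕ}

/-- `p ∣ q ^ i - 1` -/
theorem dvd_pow_sub_iff (hpq : ¬ p ∣ q) (i : ℕ) : p ∣ q ^ i - 1 ↔ orderOf (q : ZMod p) ∣ i := by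
  have hq0 : 0 < q := Nat.pos_of_ne_zero fun h => hpq (h ▸ dvd_zero p)
  rw [orderOf_dvd_iff_pow_eq_one, ← ZMod.natCast_eq_zero_iff, Nat.cast_sub (Nat.one_le_pow _ _ hq0), Nat.cast_pow,
    Nat.cast_one, sub_eq_zero]

theorem fac_GL (hq : Fintype.card F = q) (hpq : ¬ p ∣ q) (n : ℕ) :
    (Nat.card (Matrix.GeneralLinearGroup (Fin n) F)).factorization p =
      ∑ i ∈ Finset.range n, (q ^ (i + 1) - 1).factorization p := by
  have hq1 : 1 < q := Cfsg.Agent.H130.GLn.one_lt_q hq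
  rw [Cfsg.Agent.H130.GLn.card_GL hq, Fin.prod_univ_eq_prod_range (fun i => q ^ n - q ^ i) n]
  have hfac : ∀ i ∈ Finset.range n, q ^ n - q ^ i = q ^ i * (q ^ (n - i) - 1) := by
    intro i hi
    have := Finset.mem_range.1 hi
    rw [Nat.mul_sub, ← pow_add, mul_one]
    congr 2
    omega
  have hpos : ∀ i ∈ Finset.range n, q ^ (n - i) - 1 ≠ 0 := by
    intro i hi
    have := Finset.mem_range.1 hi
    have : 1 < q ^ (n - i) := Nat.one_lt_pow (by omega) hq1
    omega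
  have hq0 : q ≠ 0 := by omega
  rw [Nat.factorization_prod (fun i hi => by
    rw [hfac i hi]; exact mul_ne_zero (pow_ne_zero _ hq0) (hpos i hi)), Finsupp.finsetSum_apply,
    ← Finset.sum_range_reflect]
  refine Finset.sum_congr rfl fun i hi => ?_
  have h1 := Finset.mem_range.1 hi
  have h2 : n - 1 - i ∈ Finset.range n := Finset.mem_range.2 (by omega)
  rw [hfac _ h2, Nat.factorization_mul (pow_ne_zero _ hq0) (hpos _ h2), Finsupp.add_apply,
    Nat.factorization_eq_zero_of_not_dvd (fun h => hpq (hp.out.dvd_of_dvd_pow h)), zero_add]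
  have h3 : n - (n - 1 - i) = i + 1 := by omega
  rw [h3]

theorem fac_Sp (hq : Fintype.card F = q) (hpq : ¬ p ∣ q) (m : ℕ) :
    (Nat.card (Matrix.symplecticGroup (Fin m) F)).factorization p =
      ∑ i ∈ Finset.range m, (q ^ (2 * (i + 1)) - 1).factorization p := by
  have hq1 : 1 < q := Cfsg.Agent.H130.GLn.one_lt_q hq
  rw [Cfsg.Agent.LieClassical.SympCount.card_symplecticGroup, hq]
  have hpos : ∀ i ∈ Finset.range m, q ^ (2 * (i + 1)) - 1 ≠ 0 := by
    intro i hi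
    have : 1 < q ^ (2 * (i + 1)) := Nat.one_lt_pow (by omega) hq1
    omega
  have hq0 : q ≠ 0 := by omega
  rw [Nat.factorization_mul (pow_ne_zero _ hq0) (Finset.prod_ne_zero_iff.2 hpos), Finsupp.add_apply,
    Nat.factorization_eq_zero_of_not_dvd (fun h => hpq (hp.out.dvd_of_dvd_pow h)), zero_add,
    Nat.factorization_prod hpos, Finsupp.finsetSum_apply]

/-- `d` even -/
theorem fac_even (hpq : ¬ p ∣ q) (he : Even (orderOf (q : ZMod p))) (m : ℕ) :
    ∑ i ∈ Finset.range (m + m), (q ^ (i + 1) - 1).factorization p =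
      ∑ i ∈ Finset.range m, (q ^ (2 * (i + 1)) - 1).factorization p := by
  induction m with
  | zero => rfl
  | succ m ih =>
    have h1 : m + 1 + (m + 1) = m + m + 1 + 1 := by ring
    rw [h1, Finset.sum_range_succ, Finset.sum_range_succ, ih, Finset.sum_range_succ]
    have h2 : (q ^ (m + m + 1) - 1).factorization p = 0 := by
      refine Nat.factorization_eq_zero_of_not_dvd fun h => ?_
      have h3 := (dvd_pow_sub_iff hpq _).1 h
      have h4 : Even (m + m + 1) := he.trans_dvd h3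
      rw [Nat.even_iff] at h4
      omega
    rw [h2, add_zero]
    congr 4
    ring

/-- `d` odd -/
theorem fac_odd (hp2 : p ≠ 2) (hq1 : 1 < q) (hpq : ¬ p ∣ q) (ho : Odd (orderOf (q : ZMod p))) (m : ℕ) :
    ∑ i ∈ Finset.range m, (q ^ (i + 1) - 1).factorization p =
      ∑ i ∈ Finset.range m, (q ^ (2 * (i + 1)) - 1).factorization p := by
  refine Finset.sum_congr rfl fun i _ => ?_
  have h0 : 1 < q ^ (i + 1) := Nat.one_lt_pow (by omega) hq1
  have h1 : q ^ (2 * (i + 1)) - 1 = (q ^ (i + 1) + 1) * (q ^ (i + 1) - 1) := by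
    have := Nat.sq_sub_sq (q ^ (i + 1)) 1
    rw [one_pow] at this
    rw [mul_comm 2, pow_mul, this]
  rw [h1, Nat.factorization_mul (by omega) (by omega), Finsupp.add_apply]
  have h2 : (q ^ (i + 1) + 1).factorization p = 0 := by
    refine Nat.factorization_eq_zero_of_not_dvd fun h => ?_
    have h3 : p ∣ q ^ (2 * (i + 1)) - 1 := h1 ▸ Dvd.dvd.mul_right h _
    have h4 := (dvd_pow_sub_iff hpq _).1 h3
    have h5 : orderOf (q : ZMod p) ∣ i + 1 :=
      Nat.Coprime.dvd_of_dvd_mul_left (Nat.coprime_comm.1 (Nat.coprime_two_left.2 ho)) h4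
    have h6 := (dvd_pow_sub_iff hpq _).2 h5
    have h7 : p ∣ (q ^ (i + 1) + 1) - (q ^ (i + 1) - 1) := Nat.dvd_sub h h6
    have h8 : (q ^ (i + 1) + 1) - (q ^ (i + 1) - 1) = 2 := by omega
    rw [h8] at h7
    exact hp2 ((Nat.prime_dvd_prime_iff_eq hp.out Nat.prime_two).1 h7)
  rw [h2, zero_add]

/-- the dimension of the linear group with the same `p`-subgroups -/
noncomputable def nn (p q m : ℕ) : ℕ := if Even (orderOf (q : ZMod p)) then m + m else m

/-- the weight -/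
noncomputable def wt (p q m : ℕ) : ℕ := nn p q m / orderOf (q : ZMod p)

theorem wt_odd {m : ℕ} (ho : Odd (orderOf (q : ZMod p))) : wt p q m = m / orderOf (q : ZMod p) := by
  unfold wt nn
  rw [if_neg (Nat.not_even_iff_odd.2 ho)]

theorem wt_even {m c : ℕ} (hc : orderOf (q : ZMod p) = 2 * c) : wt p q m = m / c := by
  unfold wt nn
  rw [if_pos (by rw [hc]; exact even_two_mul c), hc, ← two_mul, Nat.mul_div_mul_left _ _ (by norm_num)]

theorem pe_sp (hq : Fintype.card F = q) (hpq : ¬ p ∣ q) (m : ℕ) :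
    PE p (Matrix.GeneralLinearGroup (Fin (nn p q m)) F) (Matrix.symplecticGroup (Fin m) F) := by
  have hq1 : 1 < q := Cfsg.Agent.H130.GLn.one_lt_q hq
  by_cases he : Even (orderOf (q : ZMod p))
  · rw [show nn p q m = m + m from if_pos he]
    exact PE.of_card (Cfsg.Agent.H130.Spn.toGL m F) (Cfsg.Agent.H130.Spn.toGL_injective m F)
      (by rw [fac_GL hq hpq, fac_Sp hq hpq, fac_even hpq he])
  · rw [show nn p q m = m from if_neg he]
    exact PE.of_injective (Cfsg.Agent.S0778.blkHom m) (Cfsg.Agent.S0778.blkHom_injective m)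

theorem pe_sp' (hp2 : p ≠ 2) (hq : Fintype.card F = q) (hpq : ¬ p ∣ q) (m : ℕ) :
    PE p (Matrix.symplecticGroup (Fin m) F) (Matrix.GeneralLinearGroup (Fin (nn p q m)) F) := by
  have hq1 : 1 < q := Cfsg.Agent.H130.GLn.one_lt_q hq
  by_cases he : Even (orderOf (q : ZMod p))
  · rw [show nn p q m = m + m from if_pos he]
    exact PE.of_injective (Cfsg.Agent.H130.Spn.toGL m F) (Cfsg.Agent.H130.Spn.toGL_injective m F)
  · rw [show nn p q m = m from if_neg he]
    exact PE.of_card (Cfsg.Agent.S0778.blkHom m) (Cfsg.Agent.S0778.blkHom_injective m)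
      (by rw [fac_GL hq hpq, fac_Sp hq hpq, fac_odd hp2 hq1 hpq (Nat.not_even_iff_odd.1 he)])

theorem not_dvd_ker (hp2 : p ≠ 2) {m : ℕ} (hm : 1 ≤ m) :
    ¬ p ∣ Nat.card (QuotientGroup.mk' (center (Matrix.symplecticGroup (Fin m) F))).ker := by
  rw [QuotientGroup.ker_mk', Cfsg.Agent.S0246.result rfl m hm]
  intro h
  exact hp2 ((Nat.prime_dvd_prime_iff_eq hp.out Nat.prime_two).1 (h.trans (Nat.gcd_dvd_left _ _)))

theorem pe_psp (hp2 : p ≠ 2) (hq : Fintype.card F = q) (hpq : ¬ p ∣ q) {m : ℕ} (hm : 1 ≤ m) :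
    PE p (Matrix.GeneralLinearGroup (Fin (nn p q m)) F) (PSp m F) :=
  (pe_sp hq hpq m).trans (PE.of_quot (QuotientGroup.mk' (center (Matrix.symplecticGroup (Fin m) F)))
    (not_dvd_ker hp2 hm))

theorem pe_psp' (hp2 : p ≠ 2) (hq : Fintype.card F = q) (hpq : ¬ p ∣ q) {m : ℕ} (hm : 1 ≤ m) :
    PE p (PSp m F) (Matrix.GeneralLinearGroup (Fin (nn p q m)) F) :=
  (PE.of_quot' (QuotientGroup.mk' (center (Matrix.symplecticGroup (Fin m) F))) (QuotientGroup.mk'_surjective _)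
    (not_dvd_ker hp2 hm)).trans (pe_sp' hp2 hq hpq m)

theorem lk_psp (hp2 : p ≠ 2) (hq : Fintype.card F = q) (hpq : ¬ p ∣ q) {m : ℕ} (hm : 1 ≤ m) :
    Lk p (PSp m F) F (nn p q m) := ⟨pe_psp hp2 hq hpq hm, pe_psp' hp2 hq hpq hm⟩

/-- **weight at least `p`** -/
theorem psp_w (hp2 : p ≠ 2) (hq : Fintype.card F = q) (hpq : ¬ p ∣ q) {m : ℕ} (hm : 1 ≤ m)
    (h : ¬ Cfsg.Agent.H892.HT.Ab p (PSp m F)) : p ≤ wt p q m :=
  (lk_psp hp2 hq hpq hm).le hq hpq h

/-- **weight at least `p ^ 2`** -/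
theorem psp_dd (hp2 : p ≠ 2) (hq : Fintype.card F = q) (hpq : ¬ p ∣ q) {m : ℕ} (hm : 1 ≤ m)
    (h : p ^ 2 ≤ wt p q m) : DD p (PSp m F) :=
  dd_of_le hp2 hq hpq (pe_psp hp2 hq hpq hm) h

/-- **weight at least `2 p`** -/
theorem psp_pairs (hp2 : p ≠ 2) (hq : Fintype.card F = q) (hpq : ¬ p ∣ q) {m : ℕ} (hm : 1 ≤ m)
    (h : 2 * p ≤ wt p q m) : Pairs p (PSp m F) :=
  pairs_of_le hp2 hq hpq (pe_psp hp2 hq hpq hm) h

end Cfsg.Agent.H553.HT
end

-- part: H553/HT/DpSp
section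
/-!
# S4933, `PSp_2m(q)`: the dual polar characters (helper553)

* `inv_unitary` : `orderOf (q : ZMod p) = 2 c`, `p ≤ m / c < p ^ 2`, `¬ p ∣ m / c + 1` : `Inv p (bd ..) (PSp m F)`;
* `inv_linear` : `orderOf (q : ZMod p) = f` odd, `p ≤ m / f < p ^ 2`, `¬ p ∣ m / f + 1`.
-/

set_option autoImplicit false

open Subgroup Module

namespace Cfsg.Agent.H553.HT

open Cfsg Cfsg.Agent.H316.HT Cfsg.Agent.H720.HT Cfsg.Agent.H487.HT Cfsg.Agent.H697.HT.DPB0 Cfsg.Agent.H722.DPol
open Cfsg.Agent.H895.BR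
open Cfsg.Agent.H711.DPol (cd)

variable {p : ℕ} [hp : Fact p.Prime] {F : Type} [Field F] [Fintype F] {m : ℕ}

theorem orderOf_pow {G : Type*} [Group G] {a : G} (h : ∃ k : ℕ, a ^ p ^ k = 1) : ∃ j : ℕ, orderOf a = p ^ j := by
  obtain ⟨k, hk⟩ := h
  obtain ⟨j, -, hj⟩ := (Nat.dvd_prime_pow hp.out).1 (orderOf_dvd_of_pow_eq_one hk)
  exact ⟨j, hj⟩

/-- `Inv` from the scheme -/
theorem inv_of_chi (hp2 : p ≠ 2) (hm : 2 ≤ m) (h22 : m = 2 → 3 ≤ Nat.card F) {b j : ℕ}
    (h1 : 1 ≤ padicValRat p (ff ((Nat.card F : ℕ) : ℚ) ((Nat.card F : ℕ) : ℚ) m j))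
    (h2 : padicValRat p (ff ((Nat.card F : ℕ) : ℚ) ((Nat.card F : ℕ) : ℚ) m j) ≤ b)
    (h : ∀ M : Ideal AlgInt, IsPModular p M →
      letI := (H2.BR.polInst_sp (F := F) hp.out hp2 hm h22).model.mulAction m
      ∃ χ : IrrCharacter (PSp m F), χ ∈ principalBlock M (PSp m F) ∧
        IsChi (X := (spPol m F).X m) _root_.Cfsg.Agent.H711.DPol.cd m (Nat.card F) (Nat.card F) j (χ : PSp m F → ℂ)) :
    _root_.Cfsg.Agent.H487.HT.Inv p b (PSp m F) := by
  refine inv_of_aut fun M hM => ?_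
  let _ := (H2.BR.polInst_sp (F := F) hp.out hp2 hm h22).model.mulAction m
  obtain ⟨χ, hB, hχ⟩ := h M hM
  have hv := hχ.factorization hp.out
  refine ⟨χ, hB, ?_, ?_, fun α hα s => ?_⟩
  · have h3 : (1 : ℤ) ≤ ((charDegree (χ : PSp m F → ℂ)).factorization p : ℤ) := hv ▸ h1
    unfold vd
    omega
  · have h3 : ((charDegree (χ : PSp m F → ℂ)).factorization p : ℤ) ≤ (b : ℤ) := hv ▸ h2
    unfold vd
    omega
  · exact hχ.2 α (H504.HT.iso_of_inst (H2.BR.polInst_sp (F := F) hp.out hp2 hm h22) α (orderOf_pow hα)) s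

/-- **unitary primes** -/
theorem inv_unitary (hp2 : p ≠ 2) (hm : 2 ≤ m) (h22 : m = 2 → 3 ≤ Nat.card F) {c w : ℕ}
    (hc : orderOf ((Nat.card F : ℕ) : ZMod p) = 2 * c) (hc0 : 0 < c) (hw : w = m / c) (h1 : p ≤ w) (h2 : w < p ^ 2)
    (h3 : ¬ p ∣ w + 1) : _root_.Cfsg.Agent.H487.HT.Inv p (bd p w) (PSp m F) := by
  have hQ : 2 ≤ Nat.card F := Finite.one_lt_card
  obtain ⟨k, hk, hk0, hkn, hv1, hv2, hv3⟩ := H35.HT.Val.exists_sp hQ hc hc0 hw h1 h2 h3
  rw [pow_one] at hv1 hv2 hv3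
  refine inv_of_chi hp2 hm h22 (j := c * k) hv1 ?_ fun M hM => ?_
  · unfold bd
    split_ifs with hlt
    · exact (hv3 hlt).le
    · exact hv2
  · let _ := (H2.BR.polInst_sp (F := F) hp.out hp2 hm h22).model.mulAction m
    have _ : Nonempty ((spPol m F).X m) := H504.HT.nonempty_sp
    have hfin : Finite ((spPol m F).X m) := inferInstance
    have hneg : ((Nat.card F : ℕ) : ZMod p) ^ c = -1 := by
      have e1 : (((Nat.card F : ℕ) : ZMod p) ^ c) ^ 2 = 1 := by
        rw [← pow_mul, mul_comm, ← hc]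
        exact pow_orderOf_eq_one _
      rcases sq_eq_one_iff.1 e1 with h | h
      · exfalso
        have h4 := orderOf_dvd_of_pow_eq_one h
        rw [hc] at h4
        have h5 := Nat.le_of_dvd hc0 h4
        omega
      · exact h
    refine mem_unitary hM hQ (t := 1) (pow_one _).symm (by omega) (H504.HT.dp_sp hp2 hm h22) hkn hneg ?_
    obtain ⟨l, rfl⟩ := hk
    rw [← orderOf_dvd_iff_pow_eq_one, hc]
    exact ⟨l, by ring⟩

/-- **linear primes** -/
theorem inv_linear (hp2 : p ≠ 2) (hm : 2 ≤ m) (h22 : m = 2 → 3 ≤ Nat.card F) {f w : ℕ}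
    (hf : orderOf ((Nat.card F : ℕ) : ZMod p) = f) (hodd : Odd f) (hw : w = m / f) (h1 : p ≤ w) (h2 : w < p ^ 2)
    (h3 : ¬ p ∣ w + 1) (hpF : ¬ p ∣ Nat.card F) : _root_.Cfsg.Agent.H487.HT.Inv p (bd p w) (PSp m F) := by
  have hQ : 2 ≤ Nat.card F := Finite.one_lt_card
  have hI : letI := (H2.BR.polInst_sp (F := F) hp.out hp2 hm h22).model.mulAction m
      Ines1 p f (PSp m F) (X := (spPol m F).X m) _root_.Cfsg.Agent.H711.DPol.cd := fun x y hxy =>
    Cfsg.Agent.H711.DPol.ines_psp hp2 hm h22 hpF (by rw [hf]; exact hodd) (H344.BR.isEmpty_X (by omega)) x y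
      (by rw [hf]; exact hxy)
  have hf0 : 0 < f := hodd.pos
  have hv := H766.HT.val_ff_linear hp2 hQ hf hodd (m := m) 1 (by rwa [← hw]) (by rw [← hw, ← sq]; exact h2) (by
    rw [← hw]
    intro h4
    apply h3
    have h5 := Nat.div_add_mod w p
    rw [h4] at h5
    have h6 := hp.out.pos
    refine ⟨w / p + 1, ?_⟩
    rw [mul_add, mul_one]
    omega)
  rw [pow_one] at hv
  have hj : f * (p - 1) ≤ m := by
    have h4 : f * w ≤ m := by
      rw [hw]
      exact Nat.mul_div_le m f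
    exact (Nat.mul_le_mul_left f ((Nat.sub_le p 1).trans h1)).trans h4
  refine inv_of_chi hp2 hm h22 (j := f * (p - 1)) hv.ge ?_ fun M hM => ?_
  · rw [hv]
    unfold bd
    split_ifs
    · norm_num
    · norm_num
  · let _ := (H2.BR.polInst_sp (F := F) hp.out hp2 hm h22).model.mulAction m
    have _ : Nonempty ((spPol m F).X m) := H504.HT.nonempty_sp
    have hfin : Finite ((spPol m F).X m) := inferInstance
    refine mem_linear hM hQ (by omega) (by omega) (H504.HT.dp_sp hp2 hm h22) hj (e := f) (fun k hk hkf h => ?_) ?_ hI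
    · have h4 := Nat.le_of_dvd hk (orderOf_dvd_of_pow_eq_one h)
      omega
    · rw [← orderOf_dvd_iff_pow_eq_one, hf]
      exact dvd_mul_right _ _

end Cfsg.Agent.H553.HT
end

-- part: H553/HT/OutSp
section
/-!
# S4933: `CycOut` from the Sylow subgroups of `Out(S)`, and `PSp_2m(q)` (helper553)

* `cycOut_of_out` : the `p`-subgroups of `Out(S)` are cyclic;
* `cycOut_psp` : `CycOut p (PSp m F)`, `m ≥ 3`, `p` odd.
-/

set_option autoImplicit false

open Cfsg Subgroup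

namespace Cfsg.Agent.H553.HT

open Cfsg.Agent.H487.HT Cfsg.Agent.H719.HT

universe u v

variable {p : ℕ} [hp : Fact p.Prime] {S : Type v} [Group S]

omit hp in
/-- **the `p`-subgroups of `Out(S)` are cyclic** -/
theorem cycOut_of_out (hO : ∀ Q : Subgroup (Cfsg.Out S), IsPGroup p Q → IsCyclic Q) : CycOut p S := by
  intro A _ _ N _ ⟨e⟩ hcen P
  let φ : (N ⊔ P : Subgroup A) →* Cfsg.Out S :=
    (QuotientGroup.mk' (Cfsg.Inn S)).comp ((cA e).comp (N ⊔ P : Subgroup A).subtype)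
  have hker : N.subgroupOf (N ⊔ P) = φ.ker := by
    ext x
    rw [mem_subgroupOf, MonoidHom.mem_ker]
    show _ ↔ (QuotientGroup.mk (cA e x) : Cfsg.Out S) = 1
    rw [QuotientGroup.eq_one_iff]
    constructor
    · intro hx
      rw [show ((x : A)) = ((⟨(x : A), hx⟩ : N) : A) from rfl, cA_mem]
      exact ⟨_, rfl⟩
    · exact fun hx => mem_of_cA hcen e hx
  have hP : IsPGroup p φ.range := by
    intro y
    obtain ⟨_, x, rfl⟩ := y
    obtain ⟨n, hn, z, hz, h1⟩ := mem_sup_of_normal_left.1 x.2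
    obtain ⟨k, hk⟩ := P.2 ⟨z, hz⟩
    refine ⟨k, Subtype.ext ?_⟩
    show (φ x) ^ p ^ k = 1
    have h2 : φ x = QuotientGroup.mk (cA e z) := by
      show QuotientGroup.mk (cA e (x : A)) = _
      have h5 : cA e n ∈ Cfsg.Inn S := ⟨e ⟨n, hn⟩, (cA_mem e ⟨n, hn⟩).symm⟩
      rw [← h1, map_mul, QuotientGroup.mk_mul, (QuotientGroup.eq_one_iff _).2 h5, one_mul]
    rw [h2]
    show (QuotientGroup.mk (cA e z) : Cfsg.Out S) ^ p ^ k = 1
    have h3 : z ^ p ^ k = 1 := congrArg Subtype.val hk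
    rw [← QuotientGroup.mk_pow, ← map_pow, h3, map_one]
    rfl
  have h1 := hO φ.range hP
  have e2 := (QuotientGroup.quotientMulEquivOfEq hker).trans (QuotientGroup.quotientKerEquivRange φ)
  exact isCyclic_of_surjective e2.symm e2.symm.surjective

/-- an element whose order is divisible by the `p`-part of the order of the group -/
theorem isCyclic_of_orderOf {O : Type u} [Group O] [Finite O] {x : O} {f g : ℕ} (hx : f ∣ orderOf x)
    (hcard : Nat.card O = g * f) (hg : ¬ p ∣ g) (Q : Subgroup O) (hQ : IsPGroup p Q) : IsCyclic Q := by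
  have h1 : (zpowers x).index ∣ g := by
    have h2 := card_mul_index (zpowers x)
    rw [Nat.card_zpowers, hcard] at h2
    obtain ⟨k, hk⟩ := hx
    have hf : 0 < f := by
      have h3 : 0 < Nat.card O := Nat.card_pos
      rw [hcard] at h3
      exact Nat.pos_of_mul_pos_left h3 |> fun _ => Nat.pos_of_ne_zero (by rintro rfl; simp at h3)
    rw [hk, mul_comm g f, mul_assoc] at h2
    have h3 := Nat.eq_of_mul_eq_mul_left hf h2
    exact ⟨k, by rw [← h3, mul_comm]⟩
  have h2 : ¬ p ∣ (zpowers x).index := fun h => hg (h.trans h1)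
  obtain ⟨P⟩ : Nonempty (Sylow p (zpowers x)) := inferInstance
  -- the image of `P` is a Sylow subgroup of `O`
  let R : Subgroup O := (P : Subgroup (zpowers x)).map (zpowers x).subtype
  have hR : IsPGroup p R := P.2.map _
  have hRi : ¬ p ∣ R.index := by
    intro h
    have h3 : R.index = (P : Subgroup (zpowers x)).index * (zpowers x).index := by
      show ((P : Subgroup (zpowers x)).map (zpowers x).subtype).index = _
      rw [index_map_subtype]
    rw [h3] at h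
    rcases hp.out.dvd_mul.1 h with h | h
    · exact P.not_dvd_index h
    · exact h2 h
  let R' : Sylow p O := hR.toSylow hRi
  have hcR : IsCyclic (R' : Subgroup O) := by
    have h3 : IsCyclic (P : Subgroup (zpowers x)) := inferInstance
    exact isCyclic_of_surjective ((P : Subgroup (zpowers x)).equivMapOfInjective (zpowers x).subtype
      (subtype_injective _)) (MulEquiv.surjective _)
  obtain ⟨Q', hQ'⟩ := hQ.exists_le_sylow
  have h4 : IsCyclic (Q' : Subgroup O) := isCyclic_of_surjective (R'.equiv Q') (MulEquiv.surjective _)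
  exact isCyclic_of_injective (inclusion hQ') (inclusion_injective hQ')

/-- **`PSp_2m(q)`** -/
theorem cycOut_psp (hp2 : p ≠ 2) (F : Type*) [Field F] [Fintype F] {m : ℕ} (hm : 3 ≤ m) : CycOut p (PSp m F) := by
  have hs : IsSimpleGroup (PSp m F) := Cfsg.Agent.S0270.result m (by omega) (fun h => by omega)
  have hna := Cfsg.Agent.H686.CgPsp.psp_nonab (F := F) (m := m) (by omega) (fun h => by omega)
  apply cycOut_of_out
  obtain ⟨r, f, hr, hf, hF⟩ := Cfsg.Agent.H907.ExtFree.exists_card F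
  have hfp : Fact r.Prime := ⟨hr⟩
  have hfin : Finite (PSp m F) := inferInstance
  have hfinA : Finite (MulAut (PSp m F)) := by
    have h1 : Function.Injective (fun α : MulAut (PSp m F) => (α : PSp m F → PSp m F)) := DFunLike.coe_injective
    exact Finite.of_injective _ h1
  have hfinO : Finite (Cfsg.Out (PSp m F)) := Quotient.finite _
  have hcard := Cfsg.Agent.H907.ExtFree.card_out_psp hr hf hF (m := m) (by omega) (by omega) hs hna
  obtain ⟨σ, hσ⟩ := H933.SubField.exists_orderOf hf hF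
  obtain ⟨x, hx⟩ := H933.SubPSp.exists_out (F := F) (m := m) (by omega) σ
  rw [hσ] at hx
  refine isCyclic_of_orderOf hx hcard fun h => hp2 ?_
  exact (Nat.prime_dvd_prime_iff_eq hp.out Nat.prime_two).1 (h.trans (Nat.gcd_dvd_left _ _))

end Cfsg.Agent.H553.HT
end

-- part: H719/HT/FromSp
section
/-!
# S4933: from the isometry group of the symplectic form to `PSp` (helper719)

`I` a finite group with an injective homomorphism `act` onto the isometries of `sympForm m F`.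
* `SSInvSp p act χ` : `χ` is invariant under the semisimilarities of `p`-power order;
* `inv_of_Sp` : a character of the principal block of `I`, `1 ≤ vd ≤ b`, with `SSInvSp`, gives `Inv p b (PSp m F)`;
* `inv_spF` : the same for `I = (spF F m).iso`.
-/

set_option autoImplicit false
set_option linter.unusedSectionVars false

open Cfsg Subgroup
open Cfsg.Agent.Characters.Core Cfsg.Agent.H316.HT Cfsg.Agent.H487.HT
open Cfsg.Agent.ClassicalGeometry.SympAutSemi

namespace Cfsg.Agent.H719.HT.Sp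

universe u v w

/-- the isometries of `sympForm m F` -/
def IsoS (m : ℕ) (F : Type u) [Field F] : Subgroup ((Fin m ⊕ Fin m → F) ≃ₗ[F] (Fin m ⊕ Fin m → F)) where
  carrier := {g | ∀ u v, sympForm m F (g u) (g v) = sympForm m F u v}
  mul_mem' := by
    intro a b ha hb u v
    have h1 : ∀ w, (a * b) w = a (b w) := fun _ => rfl
    rw [h1, h1, ha, hb]
  one_mem' := fun _ _ => rfl
  inv_mem' := by
    intro a ha u v
    have key : ∀ v, a (a⁻¹ v) = v := a.apply_symm_apply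
    rw [← ha, key, key]

variable {F : Type u} [Field F] {m : ℕ}

/-- invariance under the semisimilarities of `p`-power order -/
def SSInvSp (p : ℕ) (m : ℕ) (F : Type u) [Field F] {I : Type w} [Group I]
    (act : I →* ((Fin m ⊕ Fin m → F) ≃ₗ[F] (Fin m ⊕ Fin m → F))) (χ : I → ℂ) : Prop :=
  ∀ (M : Equiv.Perm (Fin m ⊕ Fin m → F)) (τ : F ≃+* F) (l : F), l ≠ 0 → IsSemi M τ l → (∃ k : ℕ, M ^ p ^ k = 1) →
    (∃ k : ℕ, τ ^ p ^ k = 1) →
    ∀ g g' : I, (∀ v, act g' (M v) = M (act g v)) → χ g' = χ g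

/-- powers of a semisimilarity -/
theorem pow_smul' {M : Equiv.Perm (Fin m ⊕ Fin m → F)} {τ : F ≃+* F} {l : F} (h : IsSemi M τ l) (n : ℕ) (a : F)
    (v : Fin m ⊕ Fin m → F) : (M ^ n) (a • v) = (τ ^ n) a • (M ^ n) v := by
  induction n with
  | zero => rfl
  | succ n ih =>
    rw [pow_succ', pow_succ', Equiv.Perm.mul_apply, Equiv.Perm.mul_apply, ih, h.2.1]
    rfl

theorem tau_pow {M : Equiv.Perm (Fin m ⊕ Fin m → F)} {τ : F ≃+* F} {l : F} (h : IsSemi M τ l) (hm : 0 < m) {n : ℕ}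
    (hn : M ^ n = 1) : τ ^ n = 1 := by
  apply RingEquiv.ext
  intro a
  have h1 := pow_smul' h n a (fun _ => 1)
  rw [hn] at h1
  have h2 := congrFun h1 (Sum.inl ⟨0, hm⟩)
  simp only [Equiv.Perm.one_apply, Pi.smul_apply, smul_eq_mul, mul_one] at h2
  exact h2.symm

section main

variable {I : Type w} [Group I] (act : I →* ((Fin m ⊕ Fin m → F) ≃ₗ[F] (Fin m ⊕ Fin m → F)))

theorem exists_A (hr : ∀ g : I, act g ∈ IsoS m F) (g : I) :
    ∃ A : Matrix.symplecticGroup (Fin m) F, ∀ v, rho m F A v = act g v := by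
  obtain ⟨A, hA⟩ := exists_rho_eq (act g).toEquiv (fun u v => (act g).map_add u v) (fun a v => (act g).map_smul a v)
    (hr g)
  exact ⟨A, fun v => by rw [hA]; rfl⟩

/-- the isomorphism with the matrix group -/
noncomputable def toA (hr : ∀ g : I, act g ∈ IsoS m F) : I →* Matrix.symplecticGroup (Fin m) F where
  toFun g := (exists_A act hr g).choose
  map_one' := by
    apply rho_injective
    ext1 v
    rw [(exists_A act hr 1).choose_spec, map_one, map_one]
    rfl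
  map_mul' a b := by
    apply rho_injective
    ext1 v
    rw [(exists_A act hr (a * b)).choose_spec, map_mul, map_mul, Equiv.Perm.mul_apply, (exists_A act hr b).choose_spec,
      (exists_A act hr a).choose_spec]
    rfl

theorem toA_spec (hr : ∀ g : I, act g ∈ IsoS m F) (g : I) (v) : rho m F (toA act hr g) v = act g v :=
  (exists_A act hr g).choose_spec v

theorem toA_inj (hr : ∀ g : I, act g ∈ IsoS m F) (hinj : Function.Injective act) :
    Function.Injective (toA act hr) := by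
  intro a b h
  apply hinj
  apply LinearEquiv.ext
  intro v
  rw [← toA_spec act hr, ← toA_spec act hr, h]

/-- a symplectic matrix as an isometry -/
noncomputable def lin (A : Matrix.symplecticGroup (Fin m) F) : IsoS m F :=
  ⟨LinearEquiv.ofLinearMap (Matrix.mulVecLin A.1) (Matrix.mulVecLin (A⁻¹ : Matrix.symplecticGroup (Fin m) F).1)
    (LinearMap.ext fun v => by
      show A.1.mulVec ((A⁻¹ : Matrix.symplecticGroup (Fin m) F).1.mulVec v) = v
      exact (rho m F A).apply_symm_apply v)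
    (LinearMap.ext fun v => by
      show (A⁻¹ : Matrix.symplecticGroup (Fin m) F).1.mulVec (A.1.mulVec v) = v
      exact (rho m F A).symm_apply_apply v),
  fun u v => sympForm_rho A u v⟩

theorem toA_surj (hr' : ∀ g : I, act g ∈ IsoS m F) (hr : act.range = IsoS m F) :
    Function.Surjective (toA act hr') := by
  intro A
  have h1 : (lin A).1 ∈ act.range := by rw [hr]; exact (lin A).2
  obtain ⟨g, hg⟩ := h1
  refine ⟨g, ?_⟩
  apply rho_injective
  ext1 v
  rw [toA_spec, hg]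
  rfl

variable {p : ℕ} [hp : Fact p.Prime]

/-- a semisimilarity of `p`-power order inducing a given automorphism of `p`-power order -/
theorem exists_p_part [Finite F] (α : MulAut (PSp m F)) (hs : α ∈ (Psi m F).range) (hα : ∃ k : ℕ, α ^ p ^ k = 1) :
    ∃ M : semiSim m F, Psi m F M = α ∧ ∃ k : ℕ, M ^ p ^ k = 1 := by
  obtain ⟨k, hk⟩ := hα
  obtain ⟨M, hM⟩ := hs
  have hf : Finite (semiSim m F) := inferInstance
  have hn : orderOf M ≠ 0 := (orderOf_pos M).ne'
  obtain ⟨a, r, hr, har⟩ := Nat.exists_eq_pow_mul_and_not_dvd hn p hp.out.ne_one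
  have hco : Nat.Coprime (p ^ k) r := Nat.Coprime.pow_left _ ((Nat.Prime.coprime_iff_not_dvd hp.out).2 hr)
  obtain ⟨t, ht1, ht2⟩ := Nat.chineseRemainder hco 1 0
  refine ⟨M ^ t, ?_, a, ?_⟩
  · rw [map_pow, hM]
    have h1 : α ^ t = α ^ 1 := by
      rw [pow_eq_pow_iff_modEq]
      exact ht1.of_dvd (orderOf_dvd_of_pow_eq_one hk)
    rw [h1, pow_one]
  · rw [← pow_mul]
    apply orderOf_dvd_iff_pow_eq_one.1
    rw [har, mul_comm (p ^ a) r]
    exact mul_dvd_mul ((Nat.modEq_zero_iff_dvd).1 ht2) (dvd_refl _)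

/-- **from a group of isometries to `PSp`** -/
theorem inv_of_Sp [Finite F] [Finite I] (hm : 0 < m)
    (hs : ∀ α : MulAut (PSp m F), (∃ k : ℕ, α ^ p ^ k = 1) → α ∈ (Psi m F).range)
    (hp2 : p ≠ 2) (hinj : Function.Injective act) (hr : act.range = IsoS m F) {b : ℕ}
    (h : ∀ M : Ideal AlgInt, IsPModular p M → ∃ χ : IrrCharacter I, χ ∈ principalBlock M I ∧
      0 < vd p (χ : I → ℂ) ∧ vd p (χ : I → ℂ) ≤ b ∧ SSInvSp p m F act (χ : I → ℂ)) : _root_.Cfsg.Agent.H487.HT.Inv p b (PSp m F) := by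
  have hr' : ∀ g : I, act g ∈ IsoS m F := fun g => hr ▸ ⟨g, rfl⟩
  let e : I ≃* Matrix.symplecticGroup (Fin m) F :=
    MulEquiv.ofBijective (toA act hr') ⟨toA_inj act hr' hinj, toA_surj act hr' hr⟩
  have he : ∀ (g : I) v, rho m F (e g) v = act g v := toA_spec act hr'
  let π : (⊤ : Subgroup I) →* PSp m F :=
    (QuotientGroup.mk' (center (Matrix.symplecticGroup (Fin m) F))).comp (e.toMonoidHom.comp (⊤ : Subgroup I).subtype)
  have hπ_apply : ∀ n : (⊤ : Subgroup I), π n = QuotientGroup.mk (e n) := fun _ => rfl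
  have hπ : Function.Surjective π := by
    intro x
    obtain ⟨y, rfl⟩ := QuotientGroup.mk_surjective x
    refine ⟨⟨e.symm y, mem_top _⟩, ?_⟩
    rw [hπ_apply]
    show QuotientGroup.mk (e (e.symm y)) = _
    rw [e.apply_symm_apply]
  have hidx : ¬ p ∣ (⊤ : Subgroup I).index := by
    rw [index_top]
    exact hp.out.not_dvd_one
  have hK : ¬ p ∣ Nat.card π.ker := by
    intro hd
    obtain ⟨g, hg⟩ := exists_prime_orderOf_dvd_card' p hd
    have h1 : π (g : (⊤ : Subgroup I)) = 1 := g.2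
    rw [hπ_apply, QuotientGroup.eq_one_iff] at h1
    obtain ⟨a, ha⟩ := (Cfsg.Agent.LieClassical.SympCenter.mem_center_iff m _).1 h1
    have h2 : ∀ v, act ((g : (⊤ : Subgroup I)) : I) v = a • v := by
      intro v
      rw [← he, rho_apply, ha, Matrix.smul_mulVec, Matrix.one_mulVec]
    have haa : a * a = 1 := by
      have h3 := hr' ((g : (⊤ : Subgroup I)) : I) (Pi.single (Sum.inl ⟨0, hm⟩) 1) (Pi.single (Sum.inr ⟨0, hm⟩) 1)
      rw [h2, h2, ClassicalGeometry.SympBasic.sympForm_smul_left, ClassicalGeometry.SympBasic.sympForm_smul_right,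
        ← mul_assoc] at h3
      have h4 : sympForm m F (Pi.single (Sum.inl ⟨0, hm⟩) 1) (Pi.single (Sum.inr ⟨0, hm⟩) 1) ≠ 0 := by
        rw [ClassicalGeometry.SympBasic.sympForm_eq_sum]
        simp only [Pi.single_apply, _root_.ne_eq, _root_.reduceCtorEq, _root_.not_false_eq_true, _root_.Pi.single_eq_of_ne, _root_.MulZeroClass.mul_zero, _root_.Sum.inl.injEq, _root_.Sum.inr.injEq, _root_.mul_ite, _root_.mul_one, _root_.zero_sub, _root_.Finset.sum_neg_distrib, _root_.Finset.sum_ite_eq', _root_.Finset.mem_univ, ↓ _root_.reduceIte, _root_.neg_eq_zero, _root_.one_ne_zero]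
      exact mul_right_cancel₀ h4 (h3.trans (one_mul _).symm)
    have h5 : g * g = 1 := by
      apply Subtype.ext
      apply Subtype.ext
      apply hinj
      show act (((g : (⊤ : Subgroup I)) : I) * ((g : (⊤ : Subgroup I)) : I)) = act 1
      rw [map_mul, map_one]
      apply LinearEquiv.ext
      intro v
      show act _ (act _ v) = v
      rw [h2, h2, smul_smul, haa, one_smul]
    have h6 := orderOf_dvd_of_pow_eq_one ((pow_two g).trans h5)
    rw [hg] at h6
    exact hp2 ((Nat.prime_dvd_prime_iff_eq hp.out Nat.prime_two).1 h6)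
  refine inv_of_iso (⊤ : Subgroup I) hidx π hπ hK fun M hM => ?_
  obtain ⟨χ, h1, h2, h3, h4⟩ := h M hM
  refine ⟨χ, h1, h2, h3, fun α hα => ?_⟩
  obtain ⟨S, rfl, k, hk⟩ := exists_p_part α (hs α hα) hα
  let β : MulAut I := (e.trans (ClassicalGeometry.SympAutSemi.conjHom m F S)).trans e.symm
  have hβ : ∀ g : I, e (β g) = ClassicalGeometry.SympAutSemi.conjHom m F S (e g) := fun g => e.apply_symm_apply _
  refine ⟨β, fun n => mem_top _, fun n => ?_, fun g => ?_⟩
  · rw [hπ_apply, hπ_apply, Psi_mk]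
    show QuotientGroup.mk (e (β n)) = _
    rw [hβ]
  · obtain ⟨τ, l, hl, hτ⟩ := S.2
    have hSk : S.1 ^ p ^ k = 1 := congrArg Subtype.val hk
    refine h4 S.1 τ l hl hτ ⟨k, hSk⟩ ⟨k, tau_pow hτ hm hSk⟩ g (β g) fun v => ?_
    rw [← he, hβ, rho_conjHom, Equiv.Perm.mul_apply, Equiv.Perm.mul_apply, perm_inv_apply_self, he]

end main

/-! ### all automorphisms of `p`-power order are semisimilarities -/

section range

variable {p : ℕ} [hp : Fact p.Prime] [Finite F]

theorem mem_range (hp2 : p ≠ 2) (hm : 2 ≤ m) (h22 : m = 2 → 3 ≤ Nat.card F) (α : MulAut (PSp m F))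
    (hα : ∃ k : ℕ, α ^ p ^ k = 1) : α ∈ (Psi m F).range := by
  have := Fintype.ofFinite F
  have hB : ∀ α : MulAut (PSp m F), Cfsg.Agent.ClassicalGeometry.AutPSpCount.Pres α →
      α ∈ (Psi m F).range := by
    intro α hα
    obtain ⟨g, hg⟩ := Cfsg.Agent.ClassicalGeometry.SympAutExists.exists_semi hm α hα
    exact ⟨g, hg⟩
  by_cases hcase : m = 2 ∧ (2 : F) = 0
  · obtain ⟨rfl, h2⟩ := hcase
    have hchar : CharP F 2 := by
      obtain ⟨p, hp⟩ := CharP.exists F
      have h3 : p ∣ 2 := (CharP.cast_eq_zero_iff F p 2).1 (by exact_mod_cast h2)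
      have h4 : p.Prime := CharP.char_is_prime F p
      rwa [(Nat.prime_dvd_prime_iff_eq h4 Nat.prime_two).1 h3] at hp
    have ht : ∃ t : F, t ≠ 0 ∧ t ≠ 1 := by
      by_contra hcon
      push Not at hcon
      have h3 : Fintype.card F ≤ 2 := by
        classical
        have : (Finset.univ : Finset F) ⊆ {0, 1} := by
          intro t _
          by_cases h0 : t = 0
          · simp only [h0, _root_.Finset.mem_insert, _root_.Finset.mem_singleton, _root_.zero_ne_one, _root_.or_false]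
          · simp only [hcon t h0, _root_.Finset.mem_insert, _root_.one_ne_zero, _root_.Finset.mem_singleton, _root_.or_true]
        exact (Finset.card_le_card this).trans (Finset.card_le_two)
      have h4 := h22 rfl
      rw [Nat.card_eq_fintype_card] at h4
      omega
    have hidx := Cfsg.Agent.ClassicalGeometry.SympAutTwo.index_two ht hB
    obtain ⟨k, hk⟩ := hα
    have h1 : α ^ 2 ∈ (Psi 2 F).range := by
      have hn : ((Psi 2 F).range).Normal := normal_of_index_eq_two hidx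
      have := (Psi 2 F).range.pow_index_mem α
      rwa [hidx] at this
    have hodd : Odd (p ^ k) := (hp.out.odd_of_ne_two hp2).pow
    obtain ⟨j, hj⟩ := hodd
    have h2 : α = (α ^ 2) ^ (j + 1) := by
      rw [← pow_mul]
      have e1 : 2 * (j + 1) = p ^ k + 1 := by omega
      rw [e1, pow_succ, hk, one_mul]
    rw [h2]
    exact pow_mem h1 _
  · apply hB
    refine Cfsg.Agent.ClassicalGeometry.SympAutOddA.recog hm ?_ α
    by_cases hm2 : m = 2
    · right
      intro h2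
      exact hcase ⟨hm2, h2⟩
    · left; omega

end range

/-! ### the model `spF` -/

section model

open Cfsg.Agent.H477.HC Cfsg.Agent.H477.HC.CForm Cfsg.Agent.H139.HT

theorem spF_B' (u v : Fin m ⊕ Fin m → F) : (spF F m).B u v = - sympForm m F u v := by
  rw [ClassicalGeometry.SympBasic.sympForm_eq_sum, spF_B, ← Finset.sum_neg_distrib]
  try rw [← Finset.sum_sub_distrib]
  exact Finset.sum_congr rfl fun i _ => by ring

theorem iso_eq_IsoS : (spF F m).iso = IsoS m F := by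
  ext g
  constructor
  · intro h u v
    have h1 := h.1 u v
    rw [spF_B', spF_B'] at h1
    exact neg_injective h1
  · intro h
    refine ⟨fun u v => ?_, fun v => rfl⟩
    rw [spF_B', spF_B', h]

theorem ssim_of {M : Equiv.Perm (Fin m ⊕ Fin m → F)} {τ : F ≃+* F} {l : F} (hl : l ≠ 0) (hM : IsSemi M τ l) :
    SSim (spF F m) { M with map_add' := hM.1 } τ := by
  refine ⟨hM.2.1, l, hl, fun u v => ?_, fun v => ?_⟩
  · rw [spF_B', spF_B', map_neg, mul_neg]
    congr 1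
    exact hM.2.2 u v
  · show (0 : F) = l * τ 0
    rw [map_zero, mul_zero]

theorem ssInvSp_of_isoInv {p : ℕ} {χ : (spF F m).iso → ℂ}
    (h : ∀ τ : F ≃+* F, (∃ k : ℕ, τ ^ p ^ k = 1) → IsoInv (spF F m) τ χ) : SSInvSp p m F (spF F m).iso.subtype χ := by
  intro M τ l hl hM _ hτ g g' hg
  exact h τ hτ { M with map_add' := hM.1 } (ssim_of hl hM) g g' hg

/-- helper745's `PInv` -/
theorem ssInvSp_of_pInv {p : ℕ} {χ : (spF F m).iso → ℂ}
    (h : ∀ (γ : (Fin m ⊕ Fin m → F) ≃+ (Fin m ⊕ Fin m → F)) (τ : F ≃+* F), SSim (spF F m) γ τ →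
      (∃ (k : ℕ) (μ : F), μ ≠ 0 ∧ ∀ v, γ^[p ^ k] v = μ • v) → ∀ g g' : (spF F m).iso, _root_.Cfsg.Agent.H139.HT.Inter γ g g' → χ g' = χ g) :
    SSInvSp p m F (spF F m).iso.subtype χ := by
  intro M τ l hl hM hk _ g g' hg
  obtain ⟨k, hk⟩ := hk
  refine h { M with map_add' := hM.1 } τ (ssim_of hl hM) ⟨k, 1, one_ne_zero, fun v => ?_⟩ g g' hg
  rw [one_smul]
  have h1 : ∀ n : ℕ, (⇑({ M with map_add' := hM.1 } : (Fin m ⊕ Fin m → F) ≃+ (Fin m ⊕ Fin m → F)))^[n] v = (M ^ n) v := by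
    intro n
    induction n with
    | zero => rfl
    | succ n ih =>
      rw [Function.iterate_succ_apply', ih, pow_succ', Equiv.Perm.mul_apply]
      rfl
  rw [h1, hk]
  rfl

variable {p : ℕ} [hp : Fact p.Prime]

/-- **`PSp_2m(q)`**, from `(spF F m).iso` -/
theorem inv_spF [Finite F] (hp2 : p ≠ 2) (hm : 2 ≤ m) (h22 : m = 2 → 3 ≤ Nat.card F) {b : ℕ}
    (h : ∀ M : Ideal AlgInt, IsPModular p M → ∃ χ : IrrCharacter (spF F m).iso, χ ∈ principalBlock M (spF F m).iso ∧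
      0 < vd p (χ : (spF F m).iso → ℂ) ∧ vd p (χ : (spF F m).iso → ℂ) ≤ b ∧
      SSInvSp p m F (spF F m).iso.subtype (χ : (spF F m).iso → ℂ)) : _root_.Cfsg.Agent.H487.HT.Inv p b (PSp m F) := by
  have : Finite ((Fin m ⊕ Fin m → F) ≃ₗ[F] (Fin m ⊕ Fin m → F)) :=
    Finite.of_injective (fun e : (Fin m ⊕ Fin m → F) ≃ₗ[F] (Fin m ⊕ Fin m → F) =>
      (e : (Fin m ⊕ Fin m → F) → (Fin m ⊕ Fin m → F))) DFunLike.coe_injective
  exact inv_of_Sp (spF F m).iso.subtype (by omega) (mem_range hp2 hm h22) hp2 (spF F m).iso.subtype_injective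
    (by rw [range_subtype]; exact iso_eq_IsoS) h

end model

end Cfsg.Agent.H719.HT.Sp
end

-- part: H553/HT/RowSp
section
/-!
# S4933, the row `PSp_2m(q)`, `p` odd (helper553)

`row_psp_of` : the row from the two Harish-Chandra boxes (weight `= -1` modulo `p`).
-/

set_option autoImplicit false

open Subgroup Module

namespace Cfsg.Agent.H553.HT

open Cfsg Cfsg.Agent.H316.HT Cfsg.Agent.H720.HT Cfsg.Agent.H487.HT Cfsg.Agent.H477.HC Cfsg.Agent.H139.HT
open Cfsg.Agent.H477.HC.CForm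

variable {p : ℕ} [hp : Fact p.Prime] {F : Type} [Field F] [Fintype F] {m : ℕ}

/-- a character of `F.iso` in the principal block, `1 ≤ vd ≤ b`, invariant under the semisimilarities of `p`-power order -/
def UBox {K : Type*} [Field K] {V : Type*} [AddCommGroup V] [Module K V] (p b : ℕ) (M : Ideal AlgInt) (F : CForm K V) :
    Prop :=
  ∃ χ : IrrCharacter F.iso, χ ∈ principalBlock M F.iso ∧ 0 < vd p (χ : F.iso → ℂ) ∧ vd p (χ : F.iso → ℂ) ≤ b ∧
    H745.HT.PInv p F (χ : F.iso → ℂ)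

/-- **the row from the Harish-Chandra boxes** -/
theorem row_psp_of (hp2 : p ≠ 2) (hm : 2 ≤ m) (hpF : ¬ p ∣ Fintype.card F) (hab : ¬ Cfsg.Agent.H892.HT.Ab p (PSp m F))
    (hlin : ∀ f, orderOf ((Nat.card F : ℕ) : ZMod p) = f → Odd f → p ≤ m / f → m / f < p ^ 2 → p ∣ m / f + 1 →
      ∀ M : Ideal AlgInt, IsPModular p M → Box p M (spF F m))
    (huni : ∀ c, 0 < c → orderOf ((Nat.card F : ℕ) : ZMod p) = 2 * c → p ≤ m / c → m / c < p ^ 2 → p ∣ m / c + 1 →
      ∀ M : Ideal AlgInt, IsPModular p M → UBox p (bd p (m / c)) M (spF F m)) : Row p (PSp m F) := by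
  have hpc : ¬ p ∣ Nat.card F := by rwa [Nat.card_eq_fintype_card]
  have hq : Fintype.card F = Nat.card F := Nat.card_eq_fintype_card.symm
  have hW := psp_w hp2 hq hpc (m := m) (by omega) hab
  have hp3 : 3 ≤ p := by
    have := hp.out.two_le
    omega
  have hle : wt p (Nat.card F) m ≤ m := by
    rcases Nat.even_or_odd (orderOf ((Nat.card F : ℕ) : ZMod p)) with ⟨c, hc⟩ | ho
    · rw [wt_even (c := c) (by rw [hc]; ring)]
      exact Nat.div_le_self m c
    · rw [wt_odd ho]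
      exact Nat.div_le_self m _
  have hm3 : 3 ≤ m := hp3.trans (hW.trans hle)
  have h22 : m = 2 → 3 ≤ Nat.card F := fun h => by omega
  have hord : 0 < orderOf ((Nat.card F : ℕ) : ZMod p) := by
    rw [orderOf_pos_iff, isOfFinOrder_iff_pow_eq_one]
    refine ⟨p - 1, by omega, ZMod.pow_card_sub_one_eq_one ?_⟩
    rwa [Ne, ZMod.natCast_eq_zero_iff]
  refine row_of_weight (W := wt p (Nat.card F) m) (fun h => psp_dd hp2 hq hpc (by omega) h)
    (fun h => psp_pairs hp2 hq hpc (by omega) h) (cycOut_psp hp2 F hm3) fun hW2 => ?_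
  rcases Nat.even_or_odd (orderOf ((Nat.card F : ℕ) : ZMod p)) with ⟨c, hc⟩ | ho
  · have hc' : orderOf ((Nat.card F : ℕ) : ZMod p) = 2 * c := by rw [hc]; ring
    have hc0 : 0 < c := by omega
    have hw := wt_even (p := p) (q := Nat.card F) (m := m) hc'
    by_cases hW1 : p ∣ m / c + 1
    · refine H719.HT.Sp.inv_spF hp2 hm h22 fun M hM => ?_
      obtain ⟨χ, h1, h2, h3, h4⟩ := huni c hc0 hc' (by rw [← hw]; exact hW) (by rw [← hw]; exact hW2) hW1 M hM
      refine ⟨χ, h1, h2, ?_, H719.HT.Sp.ssInvSp_of_pInv h4⟩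
      rw [hw]
      exact h3
    · rw [hw]
      exact inv_unitary hp2 hm h22 hc' hc0 rfl (by rw [← hw]; exact hW) (by rw [← hw]; exact hW2) hW1
  · have hw := wt_odd (p := p) (q := Nat.card F) (m := m) ho
    by_cases hW1 : p ∣ m / orderOf ((Nat.card F : ℕ) : ZMod p) + 1
    · refine H719.HT.Sp.inv_spF hp2 hm h22 fun M hM => ?_
      obtain ⟨χ, h1, h2, h3⟩ := hlin _ rfl ho (by rw [← hw]; exact hW) (by rw [← hw]; exact hW2) hW1 M hM
      refine ⟨χ, h1, by rw [h2]; exact one_pos, ?_, H719.HT.Sp.ssInvSp_of_isoInv h3⟩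
      rw [h2]
      exact one_le_bd _ _
    · rw [hw]
      exact inv_linear hp2 hm h22 rfl ho rfl (by rw [← hw]; exact hW) (by rw [← hw]; exact hW2) hW1 hpc

end Cfsg.Agent.H553.HT
end
end

-- part: H8/HT/LyThree_mg
section
prune_inst 0x42030705449a202000000051250203e02d20005b0002f8400dd210e44068a5f60458227208c8019094a00220500350008114400000200000000000400011c018008a010002100010882009e001086400000000000020000000000000000041004000000000
set_option linter.all false
open scoped Cfsg.Agent.FastGrp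

-- part: H8/HT/McLPairs
section
/-!
# Two commuting nonabelian pairs inside an extraspecial subgroup of order `3 ^ 5` of the McLaughlin group (helper8)

`exists_pairs` : in a group `L ≅ McL` there are `x₁, y₁, x₂, y₂`, the `xᵢ, yᵢ` do not commute, the two pairs commute,
and the group generated by the four elements is a 3-group (for S4933: `(Ly, 3)`, `(McL, 3)`).
-/

set_option autoImplicit false
set_option maxRecDepth 100000

namespace Cfsg.Agent.H8.HT.McLPairs

open Cfsg.Agent.SporadicA.PermTab Cfsg.Agent.McLType.X275 Cfsg.Agent.McLType.Gens Cfsg.Agent.H904.McLCent Subgroup Equiv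

universe u

/-! ### adjoining one element to a `p`-subgroup -/

theorem isPGroup_zpowers {G : Type u} [Group G] {p : ℕ} {g : G} (hg : g ^ p = 1) : IsPGroup p ↥(zpowers g) := by
  rintro ⟨_, n, rfl⟩
  refine ⟨1, Subtype.ext ?_⟩
  show (g ^ n) ^ p ^ 1 = 1
  rw [pow_one, ← zpow_natCast, ← zpow_mul, mul_comm, zpow_mul, zpow_natCast, hg, one_zpow]

theorem step {G : Type u} [Group G] [Finite G] {p : ℕ} {S : Set G} (hK : IsPGroup p ↥(closure S)) {g : G}
    (hg : g ^ p = 1) (hn : ∀ s ∈ S, g * s * g⁻¹ ∈ _root_.Subgroup.closure S) : IsPGroup p ↥(closure (insert g S)) := by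
  have h1 : g ∈ normalizer (closure S : Set G) := by
    refine mem_normalizer_fintype (S := (closure S : Set G)) fun n hn' => ?_
    have h2 : (closure S).map (MulAut.conj g).toMonoidHom ≤ closure S := by
      rw [MonoidHom.map_closure, closure_le]
      rintro _ ⟨s, hs, rfl⟩
      exact hn s hs
    exact h2 ⟨n, hn', rfl⟩
  have h2 := (isPGroup_zpowers hg).to_sup_of_normal_right' hK (zpowers_le.2 h1)
  have h3 : _root_.Subgroup.closure (insert g S) = zpowers g ⊔ _root_.Subgroup.closure S := by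
    rw [Set.insert_eq, Subgroup.closure_union, zpowers_eq_closure]
  rwa [h3]

theorem conj_mem_of_comm {G : Type u} [Group G] {S : Set G} {g s : G} (hs : s ∈ S) (h : g * s = s * g) :
    g * s * g⁻¹ ∈ _root_.Subgroup.closure S := by
  rw [h, mul_inv_cancel_right]
  exact _root_.Subgroup.subset_closure hs

/-- the group generated by two commuting pairs with the same commutator of order `p` -/
theorem isPGroup_five {G : Type u} [Group G] [Finite G] {p : ℕ} {z x₁ y₁ x₂ y₂ : G} (hz : z ^ p = 1)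
    (hx₁ : x₁ ^ p = 1) (hy₁ : y₁ ^ p = 1) (hx₂ : x₂ ^ p = 1) (hy₂ : y₂ ^ p = 1) (z₁ : z * x₁ = x₁ * z)
    (z₂ : z * y₁ = y₁ * z) (z₃ : z * x₂ = x₂ * z) (z₄ : z * y₂ = y₂ * z) (c₁ : x₁ * x₂ = x₂ * x₁)
    (c₂ : x₁ * y₂ = y₂ * x₁) (c₃ : y₁ * x₂ = x₂ * y₁) (c₄ : y₁ * y₂ = y₂ * y₁) (h₁ : x₁ * y₁ = y₁ * x₁ * z)
    (h₂ : x₂ * y₂ = y₂ * x₂ * (z * z)) : IsPGroup p ↥(_root_.Subgroup.closure ({y₂, x₂, y₁, x₁, z} : Set G)) := by
  have k₀ : IsPGroup p ↥(_root_.Subgroup.closure ({z} : Set G)) := by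
    rw [← zpowers_eq_closure]
    exact isPGroup_zpowers hz
  have k₁ : IsPGroup p ↥(_root_.Subgroup.closure ({x₁, z} : Set G)) := by
    refine step k₀ hx₁ ?_
    intro s hs
    rw [Set.mem_singleton_iff] at hs
    subst hs
    exact conj_mem_of_comm rfl z₁.symm
  have k₂ : IsPGroup p ↥(_root_.Subgroup.closure ({y₁, x₁, z} : Set G)) := by
    refine step k₁ hy₁ ?_
    intro s hs
    simp only [Set.mem_insert_iff, Set.mem_singleton_iff] at hs
    rcases hs with rfl | rfl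
    · have h3 : y₁ * s * y₁⁻¹ = s * z⁻¹ := by
        have h4 : y₁ * s = s * y₁ * z⁻¹ := by rw [h₁]; group
        rw [h4, mul_assoc s, ← (show Commute z y₁ from z₂).inv_left.eq]
        group
      rw [h3]
      exact mul_mem (_root_.Subgroup.subset_closure (by simp)) (inv_mem (_root_.Subgroup.subset_closure (by simp)))
    · exact conj_mem_of_comm (by simp) z₂.symm
  have k₃ : IsPGroup p ↥(_root_.Subgroup.closure ({x₂, y₁, x₁, z} : Set G)) := by
    refine step k₂ hx₂ ?_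
    intro s hs
    simp only [Set.mem_insert_iff, Set.mem_singleton_iff] at hs
    rcases hs with rfl | rfl | rfl
    · exact conj_mem_of_comm (by simp) c₃.symm
    · exact conj_mem_of_comm (by simp) c₁.symm
    · exact conj_mem_of_comm (by simp) z₃.symm
  refine step k₃ hy₂ ?_
  intro s hs
  simp only [Set.mem_insert_iff, Set.mem_singleton_iff] at hs
  rcases hs with rfl | rfl | rfl | rfl
  · have hc : Commute (z * z) y₂ := (show Commute z y₂ from z₄).mul_left (show Commute z y₂ from z₄)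
    have h3 : y₂ * s * y₂⁻¹ = s * (z * z)⁻¹ := by
      have h4 : y₂ * s = s * y₂ * (z * z)⁻¹ := by rw [h₂]; group
      rw [h4, mul_assoc s, ← hc.inv_left.eq]
      group
    rw [h3]
    have h5 : z ∈ _root_.Subgroup.closure ({s, y₁, x₁, z} : Set G) := _root_.Subgroup.subset_closure (by simp)
    exact mul_mem (_root_.Subgroup.subset_closure (by simp)) (inv_mem (mul_mem h5 h5))
  · exact conj_mem_of_comm (by simp) c₄.symm
  · exact conj_mem_of_comm (by simp) c₂.symm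
  · exact conj_mem_of_comm (by simp) z₄.symm

/-! ### tables -/

/-- a word in the seven generators -/
theorem word7 (W : List ℕ) {S : ℕ} (hW : (W.all fun P => e7.contains P) = true) (hS : chkWord 275 S W = true) :
    InG K0 S := by
  refine InG.word (L := W) (fun P hP => inAll P ?_) hS
  rw [List.all_eq_true] at hW
  exact List.contains_iff_mem.1 (hW P hP)

/-- the table of an element of order three -/
def tx1 : ℕ := 0x440788e32221f87a06e1ac434710751a81a41b1041a63846587d1e41fc7e8841b63743c8f61ee3ac7a90a0983b4879091de1d07f86c1f03a4720e81f4338418ea2243c07010206a378738cc14c2580e82204c27c138a11541142c85504a29c2309b13a2604890e06e3407f07a1f8394408710e033c40072210354688f91ae400548240ac2942c0970a62ac220f30f840c398341cc3ec3c0770d4208838ca216324808da1b83344c8a00b42702901c0422484f0d80de1ac830ec20a3643b06d03c16c288c31841283283118a3205b0ae0601885c0b20900a85d84b16a1840d8170121080088c0140f84682c0ce1986082e0503105e0b310c0340402d0be2c05c832052180630ad09c0f4018640bc2bc090ac1dc2880f8a41a4268238540f64306f85c04628c4a85712824c5402006622c2083918e2c45e84301e1402001501c2241e01a1742dc5f0190082401d00b02801c4503b18018c5a02f17e174340490560140880203004c278100702384781610e0182683f10a03044000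

/-- the table of an element of order three -/
def ty1 : ℕ := 0x320788e514c1f87f85513e43443071170140338ae1b625c7f0692140247e81721e288128f21ee3ac7a8f60863b4698e20840907c0311e8130608ab1ce31c418392241205e89d02a344200f91543903d033050310408b62223f01b06605c338701001662ec1e0e30443bc460621864381801b1082843f80d1302b04588d07c2c8820650d8350050c50c22d45889c0e640c0887b1b03ec3205b0300b41e8c0114220668ba12a23c5c8ca0c02d03c005018430578900b4010838b013242c2680709e17c2f0452203743a0561c2308678a904e0745289b14807c840d51d00203a870100340390cb058224660580b21b84b07901e358489022120042985c0ee2688280203c1bc490930a24182e85209c21c3504b1d41280d0f008e3b05f82b0323181f8820640ec5f00316e2386d02f06e378220ee14e104230e904c1f47d00e06a35c5e02a1500e06e0340263986f8760400586c849140070798141a415c108a302018c3e0230241ac148541282b48086d13c0180583a1921a042800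

/-- the table of an element of order three -/
def tx2 : ℕ := 0x20c888c221e38c7687c0ee3c85d8621b82f8630de2060c43007d1f04087e8fa1f60cc3c8f41ee4287a8ff1743d8788751d01947590121a1d02586706e2fc870ee1ca4205e8800d0198638641b60d02f8d2054120180cc1a60b4370b51641c03782e1663642e9101081cc700f01ce3207510b1041e03f8610f41ec860f90ec4001b0da0d81a41a8cd0da344158270b22a84581902e2984681b02829c4d88a1480582b0a80a023c4901d08c0e42900b020044040470b41501289d0aa16c0d05700e260018dd0fc398748c51c24485b0b91e64245c10618018c620c120a2f06b04a1602b8148cb15a124678321de4107210716e388390ec1943242f0901402682104109c230548130020f4428a113c2200e0d5102338178710b80242000e1582ac0a82204207c4a8530400301204d186340160b41f837c7f04c0d43506c0b10d60a0578d7086224528960741140101201e21c4303813e0984e0a314413c2c01811c0ec4c80407c0284882300a1104b80d03c0184a0930a20fc1e000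

/-- the table of an element of order three -/
def ty2 : ℕ := 0x40c790d31fe2983f06e10c438500620a4190828111d6158460cf1842c07e8d821a05c349101ee38c7a8c8138394768981243a8418cd2240e4541040e020888834154328300b315a3785f9001e80907102d03816c6083d1f029c688c61b81286587d1d8364018db1ba1542d07712043c3d90b18e26c810880f41945c9061282f8548f30622840808f0bc1f00989615c3d8398741444288390809a3484a88a0be144360b416c4044c81d0de064590380d61984285c1fc0102809a1164243185d09c3002b8221e2114180e112e3ec128ab1aa120468d40ea0a0620e916a1b46b0370fe1080404607e048170580ce3bc218b8028290008800360785e0c30e20242c8021222f46800e01a2941487910e13c078da1c811c3b0bb19c2747302b1744302a0841260143c0c9016238770b71ce0d82204b1f40307002707c3e47e03206a0684f0491020ec6604c042100050d70542bc7802013e07c5606a066184588891be060740151461040382c04c08c628720a60181783a0781a00b000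

/-- the table of the commutator -/
def tz : ℕ := 0x20c530c21b638c7586e03a3d82401b1362c8458e81e2024188791e81187e8d22060b4290ff1ee3c87a8f80724287d8771240c0869021da09c5d0110b831c870d51ca2904786f02019c200501a61d0310a70282280c8dc21e05c2c8c611a0dc2b06417a420041100441546690b08e320560981081a42d0070e20906889503e3e4398ea0fe0941089d0ae2ac0a8340f84445a8650662a85f05f0163e8660bb1b2174400ee05c2cc6f07520212c3e82a01c1980b0ce0d80d43c0e006c1e8178530063c0308450fc374798b01344485c0ae12c3581e8cf10c03c6004315221c500c3118108270e10820e0528041323bc260a107c27c0f0fe1c42440684a21232c5c83a0023146802c0522d85e0d41920f0130a80f639c2685b0e01805f8681b4430060820a80808006d0ec0ac4081a120414010c11b024c4b89c03841c5103f0b0060440a3168124830e915a39809863024214620891941a8720941f8178118051622dc8200a0760c84f06b05037c7604f0a20186b8440e423857800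

theorem in_tx1 : InG K0 tx1 := word7 [e_g, e_x, e_a, e_g, e_a] (by decide +kernel) (by decide +kernel)

theorem in_ty1 : InG K0 ty1 := word7 [e_c, e_w, e_g, e_w, e_x, e_g, e_a, e_c, e_w, e_g, e_w, e_x, e_g, e_a] (by decide +kernel) (by decide +kernel)

theorem in_tx2 : InG K0 tx2 := word7 [e_b, e_c, e_a, e_x, e_b, e_c, e_a, e_x] (by decide +kernel) (by decide +kernel)

theorem in_ty2 : InG K0 ty2 := word7 [e_b, e_x, e_g, e_w, e_g, e_b, e_x, e_g, e_w, e_g] (by decide +kernel) (by decide +kernel)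

theorem in_tz : InG K0 tz := InG.word (L := [ty1, tx1, ty1, ty1, tx1, tx1]) (fun P hP => by
  simp only [List.mem_cons, List.not_mem_nil, or_false] at hP
  rcases hP with rfl | rfl | rfl | rfl | rfl | rfl
  · exact in_ty1
  · exact in_tx1
  · exact in_ty1
  · exact in_ty1
  · exact in_tx1
  · exact in_tx1) (by decide +kernel)

/-- `x` acts as `f` -/
def T {L : Type u} [Group L] (θ : L →* Perm (Fin 275)) (x : L) (f : ℕ → ℕ) : Prop :=
  ∀ i : Fin 275, ((θ x i : Fin 275) : ℕ) = f i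

variable {L : Type u} [Group L] {θ : L →* Perm (Fin 275)}

theorem T.mul {x y : L} {f g : ℕ → ℕ} (hx : T θ x f) (hy : T θ y g) : T θ (x * y) (fun i => f (g i)) := by
  intro i
  rw [map_mul, Perm.mul_apply, hx, hy]

theorem T.one : T θ 1 (fun i => i) := by
  intro i
  rw [map_one, Perm.one_apply]

theorem T.eq (R : _root_.Cfsg.Agent.H904.McLCent.Rep L θ) {x y : L} {f g : ℕ → ℕ} (hx : T θ x f) (hy : T θ y g)
    (h : allB (fun i => Nat.beq (f i) (g i)) 275 = true) : x = y := by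
  apply R.inj
  refine Equiv.ext fun i => Fin.ext ?_
  rw [hx i, hy i]
  exact Nat.eq_of_beq_eq_true ((allB_iff _ _).1 h i i.2)

theorem T.ne {x y : L} {f g : ℕ → ℕ} (hx : T θ x f) (hy : T θ y g) (j : Fin 275) (h : f j ≠ g j) : x ≠ y := by
  rintro rfl
  exact h ((hx j).symm.trans (hy j))

theorem T.cube (R : _root_.Cfsg.Agent.H904.McLCent.Rep L θ) {x : L} {f : ℕ → ℕ} (hx : T θ x f)
    (h : allB (fun i => Nat.beq (f (f (f i))) i) 275 = true) : x ^ 3 = 1 := by
  rw [show x ^ 3 = x * (x * x) by rw [pow_succ, pow_two, mul_assoc]]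
  exact T.eq R (hx.mul (hx.mul hx)) T.one h

/-- **two commuting nonabelian pairs in a 3-subgroup of the McLaughlin group** -/
theorem exists_pairs [Finite L] (h : Cfsg.Spor.IsoMcL L) : ∃ x₁ y₁ x₂ y₂ : L, x₁ * y₁ ≠ y₁ * x₁ ∧ x₂ * y₂ ≠ y₂ * x₂ ∧
    x₁ * x₂ = x₂ * x₁ ∧ x₁ * y₂ = y₂ * x₁ ∧ y₁ * x₂ = x₂ * y₁ ∧ y₁ * y₂ = y₂ * y₁ ∧
    ∃ E : Subgroup L, IsPGroup 3 ↥E ∧ x₁ ∈ E ∧ y₁ ∈ E ∧ x₂ ∈ E ∧ y₂ ∈ E := by
  obtain ⟨θ, R⟩ := exists_rep h
  obtain ⟨x₁, hx₁⟩ := R.exists_of in_tx1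
  obtain ⟨y₁, hy₁⟩ := R.exists_of in_ty1
  obtain ⟨x₂, hx₂⟩ := R.exists_of in_tx2
  obtain ⟨y₂, hy₂⟩ := R.exists_of in_ty2
  obtain ⟨z, hz⟩ := R.exists_of in_tz
  have hx₁ : T θ x₁ (lk tx1) := hx₁
  have hy₁ : T θ y₁ (lk ty1) := hy₁
  have hx₂ : T θ x₂ (lk tx2) := hx₂
  have hy₂ : T θ y₂ (lk ty2) := hy₂
  have hz : T θ z (lk tz) := hz
  have c₁ : x₁ * x₂ = x₂ * x₁ := T.eq R (hx₁.mul hx₂) (hx₂.mul hx₁) (by decide +kernel)
  have c₂ : x₁ * y₂ = y₂ * x₁ := T.eq R (hx₁.mul hy₂) (hy₂.mul hx₁) (by decide +kernel)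
  have c₃ : y₁ * x₂ = x₂ * y₁ := T.eq R (hy₁.mul hx₂) (hx₂.mul hy₁) (by decide +kernel)
  have c₄ : y₁ * y₂ = y₂ * y₁ := T.eq R (hy₁.mul hy₂) (hy₂.mul hy₁) (by decide +kernel)
  have z₁ : z * x₁ = x₁ * z := T.eq R (hz.mul hx₁) (hx₁.mul hz) (by decide +kernel)
  have z₂ : z * y₁ = y₁ * z := T.eq R (hz.mul hy₁) (hy₁.mul hz) (by decide +kernel)
  have z₃ : z * x₂ = x₂ * z := T.eq R (hz.mul hx₂) (hx₂.mul hz) (by decide +kernel)
  have z₄ : z * y₂ = y₂ * z := T.eq R (hz.mul hy₂) (hy₂.mul hz) (by decide +kernel)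
  have h₁ : x₁ * y₁ = y₁ * x₁ * z := T.eq R (hx₁.mul hy₁) ((hy₁.mul hx₁).mul hz) (by decide +kernel)
  have h₂ : x₂ * y₂ = y₂ * x₂ * (z * z) := T.eq R (hx₂.mul hy₂) ((hy₂.mul hx₂).mul (hz.mul hz)) (by decide +kernel)
  have n₁ : x₁ * y₁ ≠ y₁ * x₁ := T.ne (hx₁.mul hy₁) (hy₁.mul hx₁) 1 (by decide +kernel)
  have n₂ : x₂ * y₂ ≠ y₂ * x₂ := T.ne (hx₂.mul hy₂) (hy₂.mul hx₂) 1 (by decide +kernel)
  refine ⟨x₁, y₁, x₂, y₂, n₁, n₂, c₁, c₂, c₃, c₄, _root_.Subgroup.closure ({y₂, x₂, y₁, x₁, z} : Set L), ?_, _root_.Subgroup.subset_closure (by simp),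
    _root_.Subgroup.subset_closure (by simp), _root_.Subgroup.subset_closure (by simp), _root_.Subgroup.subset_closure (by simp)⟩
  exact isPGroup_five (hz.cube R (by decide +kernel)) (hx₁.cube R (by decide +kernel)) (hy₁.cube R (by decide +kernel))
    (hx₂.cube R (by decide +kernel)) (hy₂.cube R (by decide +kernel)) z₁ z₂ z₃ z₄ c₁ c₂ c₃ c₄ h₁ h₂

end Cfsg.Agent.H8.HT.McLPairs
end

-- part: H8/HT/LyThree
section
/-!
# S4933, `Ly` at `p = 3` (helper8)

* the character of degree `1534500 = 2² 3² 5³ 11 31` is in the principal 3-block (lattice test on `Ly / G₂(5)`);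
* the degrees of a Sylow 3-subgroup are not `1, 3` only: `McL = C(x₀) / ⟨x₀⟩` contains two commuting nonabelian
  pairs inside a 3-subgroup.
-/

set_option autoImplicit false

open Cfsg

namespace Cfsg.Agent.H8.HT

open Cfsg.Agent.H468.HT Cfsg.Agent.H681.IP Subgroup

universe u v

set_option maxRecDepth 100000 in
theorem hecke_three (S : Finset (Fin 5)) (h0 : 0 ∈ S)
    (h : ∀ α ∈ H894.PQ.Ly.αs, ¬ 3 ∣ (∑ l ∈ S, α l).den) : 2 ∈ S := by
  revert S
  decide +kernel

theorem posLe_ly_three : PosLe 3 2 Spor.Ly := by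
  obtain ⟨χ, -, h2, h3⟩ := H894.PQ.Ly.exists_chi
  obtain ⟨S, hS, h4⟩ := h3 3 Nat.prime_three (fun S => 2 ∈ S) hecke_three
  have h5 : charDegree (χ 2 : Spor.Ly → ℂ) = 1534500 := h2 1
  exact ⟨χ 2, (hS 2).1 h4, by rw [h5]; norm_num, by rw [h5]; norm_num⟩

/-- subgroups, for `a = 1` -/
theorem TD.sub {p : ℕ} (hp : p.Prime) {P : Type u} [Group P] [Finite P] (h : TD p 1 P) {H : Type v} [Group H]
    [Finite H] (hH : IsPGroup p H) (i : H →* P) (hi : Function.Injective i) : TD p 1 H := by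
  intro ψ
  have : Fact p.Prime := ⟨hp⟩
  have h1 := TD.le hp h i hi ψ
  have h2 := Cfsg.Agent.H597.Degrees.charDegree_dvd_card ψ.2
  obtain ⟨n, hn⟩ := IsPGroup.iff_card.1 hH
  rw [hn] at h2
  obtain ⟨k, -, hk⟩ := (Nat.dvd_prime_pow hp).1 h2
  rw [hk] at h1 ⊢
  have h3 := (Nat.pow_le_pow_iff_right hp.one_lt).1 h1
  interval_cases k
  · left; rfl
  · right; rfl

/-- if `C / Z` with `Z` a `p`-group contains two commuting nonabelian pairs in a `p`-subgroup, `C ≤ G`, then `a = 1`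
is impossible -/
theorem false_of_section {p : ℕ} [hp : Fact p.Prime] {G : Type u} [Group G] [Finite G] (P : Sylow p G) (h : TD p 1 ↥P)
    {C : Subgroup G} {M : Type v} [Group M] (π : ↥C →* M) (hπ : Function.Surjective π) (hker : IsPGroup p π.ker)
    {E : Subgroup M} (hE : IsPGroup p ↥E) {x₁ y₁ x₂ y₂ : M} (e₁ : x₁ ∈ E) (e₂ : y₁ ∈ E) (e₃ : x₂ ∈ E) (e₄ : y₂ ∈ E)
    (n₁ : x₁ * y₁ ≠ y₁ * x₁) (n₂ : x₂ * y₂ ≠ y₂ * x₂) (c₁ : x₁ * x₂ = x₂ * x₁) (c₂ : x₁ * y₂ = y₂ * x₁)
    (c₃ : y₁ * x₂ = x₂ * y₁) (c₄ : y₁ * y₂ = y₂ * y₁) : False := by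
  have h1 : IsPGroup p ↥(E.comap π) := hE.comap_of_ker_isPGroup π hker
  obtain ⟨i, hi⟩ := exists_hom P (C.subtype.comp (E.comap π).subtype)
    (C.subtype_injective.comp (E.comap π).subtype_injective) h1
  have h2 : TD p 1 ↥(E.comap π) := TD.sub hp.out h h1 i hi
  have h3 : TD p 1 ↥E := h2.surj (π.subgroupComap E) (MonoidHom.subgroupComap_surjective_of_surjective π E hπ)
  have : Finite M := Finite.of_surjective π hπ
  exact h3.false_of_pairs hp.out hE (x₁ := ⟨x₁, e₁⟩) (y₁ := ⟨y₁, e₂⟩) (x₂ := ⟨x₂, e₃⟩) (y₂ := ⟨y₂, e₄⟩)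
    (fun h => n₁ (congrArg Subtype.val h)) (fun h => n₂ (congrArg Subtype.val h)) (Subtype.ext c₁) (Subtype.ext c₂)
    (Subtype.ext c₃) (Subtype.ext c₄)

theorem not_td_ly (P : Sylow 3 Spor.Ly) : ¬ TD 3 1 ↥P := by
  intro h
  have hfin : Finite Spor.Ly := Cfsg.Agent.Ly.Setup.finite_ly
  have h3F : Fact (Nat.Prime 3) := ⟨Nat.prime_three⟩
  obtain ⟨x₀, h₀⟩ := Cfsg.Agent.CpAutLy.Base.exists_three
  obtain ⟨x₁, y₁, x₂, y₂, n₁, n₂, c₁, c₂, c₃, c₄, E, hE, e₁, e₂, e₃, e₄⟩ := McLPairs.exists_pairs h₀.quot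
  refine false_of_section P h (QuotientGroup.mk' (center ↥(centralizer ({x₀} : Set Spor.Ly))))
    (QuotientGroup.mk'_surjective _) ?_ hE e₁ e₂ e₃ e₄ n₁ n₂ c₁ c₂ c₃ c₄
  rw [QuotientGroup.ker_mk']
  exact IsPGroup.of_card (n := 1) (by rw [h₀.zcard, pow_one])

theorem good_Ly_3 {S : Type u} [Group S] [Finite S] (h : Spor.IsoLy S) : Good 3 S := by
  obtain ⟨e⟩ := h
  have hfin : Finite Spor.Ly := Cfsg.Agent.Ly.Setup.finite_ly
  refine (posLe_ly_three.of_equiv e.symm).good fun P a ha hcd => ?_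
  by_contra hcon
  obtain rfl : a = 1 := by omega
  have h3F : Fact (Nat.Prime 3) := ⟨Nat.prime_three⟩
  obtain ⟨Q⟩ : Nonempty (Sylow 3 Spor.Ly) := inferInstance
  have h1 : IsPGroup 3 ↥Q := Q.isPGroup'
  obtain ⟨i, hi⟩ := exists_hom P (e.symm.toMonoidHom.comp (Q : Subgroup Spor.Ly).subtype)
    (e.symm.injective.comp (Q : Subgroup Spor.Ly).subtype_injective) h1
  exact not_td_ly Q (TD.sub Nat.prime_three hcd.1 h1 i hi)

end Cfsg.Agent.H8.HT
end

-- part: H713/HT/FiIn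
section
/-!
# `(Fi24', 7)` of S4933: the input of the mixed moment test (helper713)
-/

set_option autoImplicit false
set_option maxRecDepth 100000

namespace Cfsg.Agent.H713.HT.FiIn

open Cfsg Cfsg.Agent Subgroup Equiv
open Cfsg.Agent.H842.SevenSyl
open Cfsg.Agent.H468.K6.Fi
open Cfsg.Agent.H713.HT.FiCent Cfsg.Agent.H713.HT.FiCx
open Cfsg.Agent.H266.M13 (Hyp nA)
open Cfsg.Agent.H994.HT (In)
open Cfsg.Spor (Fi24 Fi24')

universe u

theorem hRC : datF.P ≤ centralizer ({cc} : Set Fi24') := by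
  rintro _ ⟨k, i, j, rfl⟩
  rw [mem_centralizer_singleton_iff]
  have h1 : Commute uu cc := datF.cu.symm
  have h2 : Commute yy cc := datF.cy.symm
  exact (((h1.pow_left k).mul_left (h2.pow_left i)).mul_left ((Commute.refl cc).pow_left j)).eq

/-- `P` is normal in `C(cc)` -/
theorem hRx (hc : Nat.card ↥(centralizer ({cc} : Set Fi24')) = 2058) :
    ∀ c ∈ centralizer ({cc} : Set Fi24'), ∀ r ∈ datF.P, c * r * c⁻¹ ∈ datF.P := by
  have h0 : Nat.card ↥(datF.P.subgroupOf (centralizer ({cc} : Set Fi24'))) = 7 ^ 3 := by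
    rw [Nat.card_congr (subgroupOfEquivOfLe hRC).toEquiv, datF.card_P]
  have hf : (Nat.card ↥(centralizer ({cc} : Set Fi24'))).factorization 7 = 3 := by
    rw [hc, show (2058 : ℕ) = 7 ^ 3 * 6 by norm_num, Nat.factorization_mul (by norm_num) (by norm_num), Finsupp.add_apply,
      Nat.Prime.factorization_pow (by norm_num), Finsupp.single_eq_same, Nat.factorization_eq_zero_of_not_dvd (by norm_num)]
  let Q : Sylow 7 ↥(centralizer ({cc} : Set Fi24')) :=
    Sylow.ofCard (datF.P.subgroupOf (centralizer ({cc} : Set Fi24'))) (by rw [h0, hf])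
  have hQ : (Q : Subgroup ↥(centralizer ({cc} : Set Fi24'))) = datF.P.subgroupOf (centralizer ({cc} : Set Fi24')) := rfl
  have h1 : Nat.card (Sylow 7 ↥(centralizer ({cc} : Set Fi24'))) ∣ 6 := by
    have h2 := Q.card_dvd_index
    have h3 := (Q : Subgroup ↥(centralizer ({cc} : Set Fi24'))).card_mul_index
    rw [hQ, h0, hc] at h3
    have h4 : (datF.P.subgroupOf (centralizer ({cc} : Set Fi24'))).index = 6 := by omega
    rw [hQ, h4] at h2
    exact h2
  have h2 := card_sylow_modEq_one 7 ↥(centralizer ({cc} : Set Fi24'))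
  have h3 : Nat.card (Sylow 7 ↥(centralizer ({cc} : Set Fi24'))) = 1 := by
    have h4 := Nat.le_of_dvd (by norm_num) h1
    unfold Nat.ModEq at h2
    omega
  have hs : Subsingleton (Sylow 7 ↥(centralizer ({cc} : Set Fi24'))) := (Nat.card_eq_one_iff_unique.1 h3).1
  intro c hcc r hr
  have h4 : (⟨c, hcc⟩ : ↥(centralizer ({cc} : Set Fi24'))) • Q = Q := Subsingleton.elim _ _
  have h5 : (⟨c, hcc⟩ : ↥(centralizer ({cc} : Set Fi24'))) * ⟨r, hRC hr⟩ * (⟨c, hcc⟩ : ↥(centralizer ({cc} : Set Fi24')))⁻¹ ∈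
      (Q : Subgroup ↥(centralizer ({cc} : Set Fi24'))) := by
    rw [← h4, Sylow.coe_subgroup_smul]
    exact ⟨⟨r, hRC hr⟩, by rw [hQ]; exact hr, rfl⟩
  rw [hQ] at h5
  exact h5

theorem hna : ∃ r ∈ datF.P, ∃ s ∈ datF.P, r * s ≠ s * r := by
  refine ⟨uu, ⟨1, 0, 0, by simp⟩, yy, ⟨0, 1, 0, by simp only [_root_.pow_zero, _root_.pow_one, _root_.one_mul, _root_.mul_one]⟩, fun h => ?_⟩
  rw [datF.uy] at h
  have h1 : yy * cc = yy := mul_right_cancel h
  have h2 : cc = 1 := by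
    have : yy * cc = yy * 1 := by rw [h1, mul_one]
    exact mul_left_cancel this
  exact datF.c1 h2

theorem hyp (hy : Nat.card ↥(centralizer ({yy} : Set Fi24')) = 17640) : Hyp 7 yy cc datF.P where
  ha := yy_order
  hx := cc_order
  hca := ⟨360, by norm_num, by rw [hy]; norm_num⟩
  hR := datF.card_P
  hRC := hRC
  hRx := hRx (card_cc hy)
  hna := hna
  h4 := by rw [card_F]; norm_num
  hra := hra
  hrx := hrx
  hax := hax

theorem inp {L : Subgroup Fi24'} (hy : Nat.card ↥(centralizer ({yy} : Set Fi24')) = 17640)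
    (hcR : ∀ v : Fi24', (∀ r ∈ datF.P, v * r = r * v) → v ∈ datF.P)
    (hLc : ∀ u : Fi24', IsConj cc u → u * yy = yy * u → u ∈ L) (hLa : yy ∉ L) (hn : nA yy datF.P = 84) :
    In 7 6 3659491863529626009600 6 yy cc datF.P L where
  toHyp := hyp hy
  ex := ex
  cR := hcR
  cl := fun _ _ ho => cl_all ho
  cx := by rw [card_cc hy]; norm_num
  cG := by rw [card_F]; norm_num
  Lc := hLc
  La := hLa
  ca := by rw [hn]; norm_num

theorem posLe_of {L : Subgroup Fi24'} (hy : Nat.card ↥(centralizer ({yy} : Set Fi24')) = 17640)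
    (hcR : ∀ v : Fi24', (∀ r ∈ datF.P, v * r = r * v) → v ∈ datF.P)
    (hLc : ∀ u : Fi24', IsConj cc u → u * yy = yy * u → u ∈ L) (hLa : yy ∉ L) (hn : nA yy datF.P = 84) :
    H468.HT.PosLe 7 1 Fi24' :=
  (inp hy hcR hLc hLa hn).posLe (by norm_num) (by norm_num)

/-- **(Fi24', 7)** of S4933, from the facts on `C(7A)` and the Sylow subgroup -/
theorem good_of {L : Subgroup Fi24'} (hy : Nat.card ↥(centralizer ({yy} : Set Fi24')) = 17640)
    (hcR : ∀ v : Fi24', (∀ r ∈ datF.P, v * r = r * v) → v ∈ datF.P)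
    (hLc : ∀ u : Fi24', IsConj cc u → u * yy = yy * u → u ∈ L) (hLa : yy ∉ L) (hn : nA yy datF.P = 84)
    {S : Type u} [Group S] [Finite S] (h : Spor.IsoFi24' S) : H468.HT.Good 7 S := by
  obtain ⟨e⟩ := h
  exact ((posLe_of hy hcR hLc hLa hn).of_equiv e.symm).good fun _ a ha _ => ha

end Cfsg.Agent.H713.HT.FiIn
end

-- part: H702/E4/FiNA
section
/-!
# S4933, `Fi24'`, `p = 7`: the number of 7A-elements of a Sylow subgroup (helper702, for helper713)
-/

set_option autoImplicit false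
set_option maxRecDepth 100000

open Cfsg

namespace Cfsg.Agent.H702.E4.Fi

open Subgroup
open Cfsg.Agent.H468.K6.Fi
open Cfsg.Agent.H842 Cfsg.Agent.H842.Seven Cfsg.Agent.H842.SevenSyl
open Cfsg.Agent.Fischer.Fi24RepDef Cfsg.Agent.Fischer.Fi24Rep
open Cfsg.Spor (Fi24 Fi24')

section heis

variable {G : Type*} [Group G] {p : ℕ} {y c u : G}

theorem exists_inv_mod (hp : p.Prime) {a : ℕ} (ha : a % p ≠ 0) : ∃ m : ℕ, (a * m) % p = 1 := by
  have := Fact.mk hp
  have h1 : (a : ZMod p) ≠ 0 := by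
    intro h2
    rw [ZMod.natCast_eq_zero_iff] at h2
    exact ha (Nat.mod_eq_zero_of_dvd h2)
  refine ⟨((a : ZMod p)⁻¹).val, ?_⟩
  have h2 : ((a * ((a : ZMod p)⁻¹).val : ℕ) : ZMod p) = ((1 : ℕ) : ZMod p) := by
    push_cast
    rw [ZMod.natCast_zmod_val, mul_inv_cancel₀ h1]
  rw [ZMod.natCast_eq_natCast_iff'] at h2
  rw [h2, Nat.mod_eq_of_lt hp.one_lt]

theorem conj_y (h : Heis.Dat p y c u) {k i j : ℕ} (hk : k % p = 0) (hi : i % p ≠ 0) : ∃ (g : G) (m : ℕ),
    (i * m) % p = 1 ∧ g * (u ^ k * y ^ i * c ^ j) ^ m * g⁻¹ = y := by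
  have hk1 : u ^ k = 1 := by rw [← Heis.Dat.pow_mod h.up, hk, pow_zero]
  obtain ⟨m, hm⟩ := exists_inv_mod h.hp hi
  obtain ⟨j', hj⟩ := h.pow_form k i j m
  have h1 : (u ^ k * y ^ i * c ^ j) ^ m = y * c ^ j' := by
    have e1 : u ^ (k * m) = 1 := by rw [pow_mul, hk1, one_pow]
    rw [hj, e1, one_mul, ← Heis.Dat.pow_mod h.yp (i * m), hm, pow_one]
  refine ⟨u ^ ((p - 1) * j'), m, hm, ?_⟩
  have hc : Commute (c ^ j') (u ^ ((p - 1) * j'))⁻¹ := (h.cui _ _).inv_right
  have e2 : c ^ ((p - 1) * j') * c ^ j' = 1 := by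
    rw [← pow_add]
    obtain ⟨q, hq⟩ : ∃ q, p = q + 1 := ⟨p - 1, by have := h.pos; omega⟩
    have h3 : (p - 1) * j' + j' = p * j' := by rw [hq, Nat.add_sub_cancel]; ring
    rw [h3, pow_mul, h.cp, one_pow]
  rw [h1]
  calc u ^ ((p - 1) * j') * (y * c ^ j') * (u ^ ((p - 1) * j'))⁻¹
      = (u ^ ((p - 1) * j') * y) * (c ^ j' * (u ^ ((p - 1) * j'))⁻¹) := by simp only [mul_assoc]
    _ = (y * c ^ ((p - 1) * j') * u ^ ((p - 1) * j')) * ((u ^ ((p - 1) * j'))⁻¹ * c ^ j') := by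
        rw [h.u_pow_y, hc.eq]
    _ = y * (c ^ ((p - 1) * j') * c ^ j') := by group
    _ = y := by rw [e2, mul_one]

theorem conj_u (h : Heis.Dat p y c u) {k i j : ℕ} (hk : k % p ≠ 0) : ∃ (g : G) (m : ℕ),
    (k * m) % p = 1 ∧ g * (u ^ k * y ^ i * c ^ j) ^ m * g⁻¹ = u * y ^ (i * m % p) := by
  obtain ⟨m, hm⟩ := exists_inv_mod h.hp hk
  obtain ⟨j', hj⟩ := h.pow_form k i j m
  have h1 : (u ^ k * y ^ i * c ^ j) ^ m = u * y ^ (i * m % p) * c ^ j' := by
    rw [hj, ← Heis.Dat.pow_mod h.up (k * m), hm, pow_one, Heis.Dat.pow_mod h.yp]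
  refine ⟨y ^ j', m, hm, ?_⟩
  rw [h1]
  generalize i * m % p = r
  have e1 : u * y ^ j' = y ^ j' * c ^ j' * u := by
    have := h.u_pow_y_pow 1 j'
    rwa [pow_one, one_mul] at this
  have hc2 : Commute (c ^ j') (y ^ r) := h.cyi r j'
  have hc3 : Commute (c ^ j') u := (show Commute c u from h.cu).pow_left j'
  have hc1 : Commute (c ^ j') (y ^ j')⁻¹ := (h.cyi _ _).inv_right
  have hyy : Commute (y ^ r) (y ^ j')⁻¹ := ((Commute.refl y).pow_pow r j').inv_right
  have e2 : y ^ j' * u * c ^ j' = u * y ^ j' := by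
    rw [e1, mul_assoc, mul_assoc, hc3.eq]
  calc y ^ j' * (u * y ^ r * c ^ j') * (y ^ j')⁻¹
      = y ^ j' * u * (y ^ r * c ^ j') * (y ^ j')⁻¹ := by simp only [mul_assoc]
    _ = y ^ j' * u * (c ^ j' * y ^ r) * (y ^ j')⁻¹ := by rw [hc2.eq]
    _ = (y ^ j' * u * c ^ j') * (y ^ r * (y ^ j')⁻¹) := by simp only [mul_assoc]
    _ = u * y ^ j' * ((y ^ j')⁻¹ * y ^ r) := by rw [e2, hyy.eq]
    _ = u * y ^ r := by group

end heis

/-! ### powers of `y7` -/

theorem t6_pow_y7 (e : ℕ) : t6 ^ e * y7 * (t6 ^ e)⁻¹ = y7 ^ (3 ^ e) := by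
  induction e with
  | zero => simp
  | succ e ih =>
    calc t6 ^ (e + 1) * y7 * (t6 ^ (e + 1))⁻¹ = t6 * (t6 ^ e * y7 * (t6 ^ e)⁻¹) * t6⁻¹ := by
          rw [pow_succ']; group
      _ = t6 * y7 ^ (3 ^ e) * t6⁻¹ := by rw [ih]
      _ = (t6 * y7 * t6⁻¹) ^ (3 ^ e) := by rw [conj_pow]
      _ = y7 ^ (3 ^ (e + 1)) := by rw [t6_y7, ← pow_mul, pow_succ']

theorem y7_conj_pow {n : ℕ} (hn : n % 7 ≠ 0) : ∃ g : Fi24, g * y7 * g⁻¹ = y7 ^ n := by
  have key : ∀ e : ℕ, 3 ^ e % 7 = n % 7 → ∃ g : Fi24, g * y7 * g⁻¹ = y7 ^ n := by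
    intro e he
    refine ⟨t6 ^ e, ?_⟩
    rw [t6_pow_y7, ← Heis.Dat.pow_mod y7_pow (3 ^ e), he, Heis.Dat.pow_mod y7_pow]
  have h7 : n % 7 < 7 := Nat.mod_lt _ (by norm_num)
  generalize hr : n % 7 = r at *
  interval_cases r
  · exact absurd rfl hn
  · exact key 0 (by norm_num)
  · exact key 2 (by norm_num)
  · exact key 1 (by norm_num)
  · exact key 4 (by norm_num)
  · exact key 5 (by norm_num)
  · exact key 3 (by norm_num)

theorem y7_pow_eq {n : ℕ} : y7 ^ n = 1 ↔ n % 7 = 0 := by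
  rw [← orderOf_dvd_iff_pow_eq_one, y7_order]
  omega

theorem pow7 {v : Fi24} (hv : v ∈ dat.P) {m : ℕ} (hm : ¬ 7 ∣ m) (h : (v ^ m) ^ 7 = 1) : v ^ 7 = 1 := by
  have h1 : orderOf v ∣ 7 ^ 3 := by
    rw [← dat.card_P, ← Subgroup.orderOf_mk v hv]
    exact _root_.orderOf_dvd_natCard _
  have h2 : orderOf v ∣ 7 * m := by
    apply orderOf_dvd_of_pow_eq_one
    rw [mul_comm, pow_mul, h]
  have h3 : Nat.Coprime (orderOf v) m :=
    Nat.Coprime.coprime_dvd_left h1 (Nat.Coprime.pow_left 3 (((Nat.Prime.coprime_iff_not_dvd (by norm_num)).2 hm)))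
  exact orderOf_dvd_iff_pow_eq_one.1 (h3.dvd_of_dvd_mul_right h2)

theorem back {v : Fi24} (h7 : v ^ 7 = 1) {m s : ℕ} (hms : (s * m) % 7 = 1) : (v ^ m) ^ s = v := by
  rw [← pow_mul, mul_comm, ← Heis.Dat.pow_mod h7, hms, pow_one]

/-- from a conjugate of `v ^ m` to `v` -/
theorem cj_of {v : Fi24} (hv : v ∈ dat.P) {m s n : ℕ} (hms : (s * m) % 7 = 1) {g : Fi24} (hn : n % 7 ≠ 0)
    (h : g * v ^ m * g⁻¹ = y7 ^ n) : ∃ g : Fi24, g * y7 * g⁻¹ = v := by
  have hm : ¬ 7 ∣ m := by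
    rintro ⟨t, rfl⟩
    rw [mul_left_comm, Nat.mul_mod_right] at hms
    omega
  have hs : ¬ 7 ∣ s := by
    rintro ⟨t, rfl⟩
    rw [mul_assoc, Nat.mul_mod_right] at hms
    omega
  have h7 : v ^ 7 = 1 := by
    refine pow7 hv hm ?_
    have h1 : g * (v ^ m) ^ 7 * g⁻¹ = 1 := by
      rw [← conj_pow, h, ← pow_mul, y7_pow_eq]
      omega
    have h2 : (v ^ m) ^ 7 = g⁻¹ * (g * (v ^ m) ^ 7 * g⁻¹) * g := by group
    rw [h2, h1]; group
  have hns : n * s % 7 ≠ 0 := by
    intro h0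
    rcases (Nat.Prime.dvd_mul (by norm_num : Nat.Prime 7)).1 (Nat.dvd_of_mod_eq_zero h0) with h1 | h1
    · omega
    · exact hs h1
  obtain ⟨g', hg'⟩ := y7_conj_pow hns
  refine ⟨g⁻¹ * g', ?_⟩
  calc g⁻¹ * g' * y7 * (g⁻¹ * g')⁻¹ = g⁻¹ * (g' * y7 * g'⁻¹) * g := by group
    _ = g⁻¹ * ((g * v ^ m * g⁻¹) ^ s) * g := by rw [hg', h, ← pow_mul]
    _ = (v ^ m) ^ s := by rw [conj_pow]; group
    _ = v := back h7 hms

/-- `c` is not conjugate into `⟨y7⟩` -/
theorem no_q {v : Fi24} {g : Fi24} (hv : g * y7 * g⁻¹ = v) {m : ℕ} {X : Fi24} {q : Fi24} (hq : X * v ^ m * X⁻¹ = q) {e : ℕ}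
    (hc : q ^ e = c) : False := by
  refine not_conj_y7 (g := (X * g)⁻¹) ?_
  have h1 : (X * g)⁻¹ * c * (X * g)⁻¹⁻¹ = y7 ^ (m * e) := by
    rw [← hc, ← hq, ← hv]
    have e0 : (g * y7 * g⁻¹) ^ m = g * y7 ^ m * g⁻¹ := conj_pow
    calc (X * g)⁻¹ * (X * (g * y7 * g⁻¹) ^ m * X⁻¹) ^ e * (X * g)⁻¹⁻¹
        = (X * g)⁻¹ * (X * (g * y7 ^ m * g⁻¹) * X⁻¹) ^ e * (X * g)⁻¹⁻¹ := by rw [e0]
      _ = (X * g)⁻¹ * ((X * g) * y7 ^ m * (X * g)⁻¹) ^ e * (X * g)⁻¹⁻¹ := by
          congr 3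
          group
      _ = (X * g)⁻¹ * ((X * g) * (y7 ^ m) ^ e * (X * g)⁻¹) * (X * g)⁻¹⁻¹ := by rw [conj_pow]
      _ = (y7 ^ m) ^ e := by group
      _ = y7 ^ (m * e) := by rw [pow_mul]
  rw [h1]
  exact pow_mem (mem_zpowers y7) _

theorem c_back {s : ℕ} (hs : s % 7 ≠ 0) : ∃ e : ℕ, (c ^ s) ^ e = c := by
  obtain ⟨m, hm⟩ := exists_inv_mod (by norm_num : Nat.Prime 7) hs
  exact ⟨m, by rw [← pow_mul, ← Heis.Dat.pow_mod _root_.Cfsg.Agent.H842.SevenSyl.c_pow, hm, pow_one]⟩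

theorem c_inv : c⁻¹ = c ^ 6 := by
  rw [inv_eq_iff_mul_eq_one, ← pow_succ']
  exact _root_.Cfsg.Agent.H842.SevenSyl.c_pow

theorem uy_conj {r : ℕ} (hr : r % 7 ≠ 0) (hr7 : r < 7) : ∃ (g : Fi24) (s : ℕ), s % 7 ≠ 0 ∧ g * c ^ s * g⁻¹ = u * y7 ^ r := by
  interval_cases r
  · exact absurd rfl hr
  · exact ⟨word SevenK.g1, 6, by norm_num, by rw [← c_inv]; exact conj1⟩
  · exact ⟨word SevenK.g2, 1, by norm_num, by rw [pow_one]; exact conj2⟩
  · exact ⟨word SevenK.g3, 6, by norm_num, by rw [← c_inv]; exact conj3⟩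
  · exact ⟨word SevenK.g4, 6 * 3, by norm_num, by rw [pow_mul, ← c_inv]; exact conj4⟩
  · exact ⟨word SevenK.g5, 6 * 2, by norm_num, by rw [pow_mul, ← c_inv]; exact conj5⟩
  · exact ⟨word SevenK.g6, 2, by norm_num, conj6⟩

theorem cj_iff (k i j : ℕ) : (∃ g : Fi24, g * y7 * g⁻¹ = u ^ k * y7 ^ i * c ^ j) ↔
    ((k % 7 = 0 ∧ i % 7 ≠ 0) ∨ (k % 7 ≠ 0 ∧ i % 7 = 0)) := by
  have hP : u ^ k * y7 ^ i * c ^ j ∈ dat.P := ⟨k, i, j, rfl⟩
  constructor
  · rintro ⟨g, hg⟩
    by_cases hk : k % 7 = 0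
    · by_cases hi : i % 7 = 0
      · exfalso
        have e1 : u ^ k * y7 ^ i * c ^ j = c ^ j := by
          rw [← Heis.Dat.pow_mod u_pow, hk, ← Heis.Dat.pow_mod y7_pow, hi]
          simp
        rw [e1] at hg
        by_cases hj : j % 7 = 0
        · rw [← Heis.Dat.pow_mod _root_.Cfsg.Agent.H842.SevenSyl.c_pow, hj, pow_zero, mul_inv_eq_one, mul_eq_left] at hg
          exact y7_ne hg
        · obtain ⟨e, he⟩ := c_back hj
          exact no_q hg (m := 1) (X := 1) (q := c ^ j) (by simp) he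
      · exact Or.inl ⟨hk, hi⟩
    · by_cases hi : i % 7 = 0
      · exact Or.inr ⟨hk, hi⟩
      · exfalso
        obtain ⟨g1, m, hm, h1⟩ := conj_u dat (i := i) (j := j) hk
        have hr : i * m % 7 % 7 ≠ 0 := by
          rw [Nat.mod_mod]
          intro h0
          rcases (Nat.Prime.dvd_mul (by norm_num : Nat.Prime 7)).1 (Nat.dvd_of_mod_eq_zero h0) with h2 | h2
          · omega
          · obtain ⟨t, rfl⟩ := h2
            rw [mul_left_comm, Nat.mul_mod_right] at hm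
            omega
        obtain ⟨g2, s, hs, h2⟩ := uy_conj hr (Nat.mod_lt _ (by norm_num))
        obtain ⟨e, he⟩ := c_back hs
        refine no_q hg (m := m) (X := g2⁻¹ * g1) (q := c ^ s) ?_ he
        calc g2⁻¹ * g1 * (u ^ k * y7 ^ i * c ^ j) ^ m * (g2⁻¹ * g1)⁻¹
            = g2⁻¹ * (g1 * (u ^ k * y7 ^ i * c ^ j) ^ m * g1⁻¹) * g2 := by group
          _ = g2⁻¹ * (g2 * c ^ s * g2⁻¹) * g2 := by rw [h1, h2]
          _ = c ^ s := by group
  · rintro (⟨hk, hi⟩ | ⟨hk, hi⟩)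
    · obtain ⟨g, m, hm, h1⟩ := conj_y dat (j := j) hk hi
      exact cj_of hP hm (n := 1) (by norm_num) (by rw [pow_one]; exact h1)
    · obtain ⟨g, m, hm, h1⟩ := conj_u dat (i := i) (j := j) hk
      have h0 : i * m % 7 = 0 := by rw [Nat.mul_mod, hi, zero_mul, Nat.zero_mod]
      rw [h0, pow_zero, mul_one] at h1
      refine cj_of hP hm (n := 3) (g := (word SevenK.g0)⁻¹ * g) (by norm_num) ?_
      calc (word SevenK.g0)⁻¹ * g * (u ^ k * y7 ^ i * c ^ j) ^ m * ((word SevenK.g0)⁻¹ * g)⁻¹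
          = (word SevenK.g0)⁻¹ * (g * (u ^ k * y7 ^ i * c ^ j) ^ m * g⁻¹) * word SevenK.g0 := by group
        _ = (word SevenK.g0)⁻¹ * (word SevenK.g0 * y7 ^ 3 * (word SevenK.g0)⁻¹) * word SevenK.g0 := by rw [h1, conj0]
        _ = y7 ^ 3 := by group

/-- **84 elements of class 7A in the Sylow subgroup.** -/
theorem nA_fi (hy : ∀ v : Fi24', (∃ g : Fi24, g * y7 * g⁻¹ = (v : Fi24)) → IsConj yy v) :
    H266.M13.nA yy datF.P = 84 := by
  have hc : ∀ v : Fi24', IsConj yy v ↔ ∃ g : Fi24, g * y7 * g⁻¹ = (v : Fi24) := by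
    intro v
    refine ⟨fun h => ?_, hy v⟩
    obtain ⟨g, hg⟩ := isConj_iff.1 h
    exact ⟨g, congrArg Subtype.val hg⟩
  have hv : ∀ k i j : ℕ, ((uu ^ k * yy ^ i * cc ^ j : Fi24') : Fi24) = u ^ k * y7 ^ i * c ^ j := fun k i j => rfl
  let f : {x : Fin 7 × Fin 7 × Fin 7 // (x.1 = 0 ∧ x.2.1 ≠ 0) ∨ (x.1 ≠ 0 ∧ x.2.1 = 0)} →
      {v : Fi24' // IsConj yy v ∧ v ∈ datF.P} := fun x =>
    ⟨uu ^ (x.1.1 : ℕ) * yy ^ (x.1.2.1 : ℕ) * cc ^ (x.1.2.2 : ℕ), by
      rw [hc, hv, cj_iff]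
      obtain ⟨⟨k, i, j⟩, h⟩ := x
      simp only [Nat.mod_eq_of_lt k.2, Nat.mod_eq_of_lt i.2, ne_eq, Fin.val_eq_zero_iff]
      exact h, _, _, _, rfl⟩
  have hf : Function.Bijective f := by
    constructor
    · rintro ⟨⟨a, b, d⟩, _⟩ ⟨⟨a', b', d'⟩, _⟩ hab
      obtain ⟨h1, h2, h3⟩ := datF.form_inj (congrArg Subtype.val hab)
      simp only at h1 h2 h3
      rw [Nat.mod_eq_of_lt a.2, Nat.mod_eq_of_lt a'.2] at h1
      rw [Nat.mod_eq_of_lt b.2, Nat.mod_eq_of_lt b'.2] at h2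
      rw [Nat.mod_eq_of_lt d.2, Nat.mod_eq_of_lt d'.2] at h3
      apply Subtype.ext
      simp only [Prod.mk.injEq]
      exact ⟨Fin.ext h1, Fin.ext h2, Fin.ext h3⟩
    · rintro ⟨_, h1, k, i, j, rfl⟩
      rw [hc, hv, cj_iff] at h1
      have h7 : (0 : ℕ) < 7 := by norm_num
      refine ⟨⟨⟨⟨k % 7, Nat.mod_lt _ h7⟩, ⟨i % 7, Nat.mod_lt _ h7⟩, ⟨j % 7, Nat.mod_lt _ h7⟩⟩, ?_⟩, Subtype.ext ?_⟩
      · simpa only [ne_eq, Fin.ext_iff, Fin.val_zero] using h1
      · show uu ^ (k % 7) * yy ^ (i % 7) * cc ^ (j % 7) = _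
        rw [Heis.Dat.pow_mod datF.up, Heis.Dat.pow_mod datF.yp, Heis.Dat.pow_mod datF.cp]
  rw [H266.M13.nA, ← Nat.card_eq_of_bijective f hf, Nat.card_eq_fintype_card]
  decide +kernel

end Cfsg.Agent.H702.E4.Fi
end

-- part: H713/HT/Fi24
section
/-!
# `(Fi24', 7)` of S4933 (helper713; facts: helper143, helper702; test: helper994)
-/

set_option autoImplicit false

namespace Cfsg.Agent.H713.HT.Fi24

open Cfsg Cfsg.Agent
open Cfsg.Agent.H468.K6.Fi

universe u

theorem nA_eq : H266.M13.nA yy datF.P = 84 :=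
  Cfsg.Agent.H702.E4.Fi.nA_fi fun _ ⟨_, hg⟩ => Cfsg.Agent.H713.HT.FiCent.conj_yy hg

/-- **(Fi24', 7)** of S4933 -/
theorem good_Fi24_7 {S : Type u} [Group S] [Finite S] (h : Spor.IsoFi24' S) : H468.HT.Good 7 S :=
  Cfsg.Agent.H713.HT.FiIn.good_of (L := Cfsg.Agent.H143.HT.FiYY.L) Cfsg.Agent.H143.HT.FiYY.card_yy
    Cfsg.Agent.H143.HT.FiYY.cR Cfsg.Agent.H143.HT.FiYY.Lc Cfsg.Agent.H143.HT.FiYY.La nA_eq h

end Cfsg.Agent.H713.HT.Fi24
end

-- part: H474/HT/Vac
section
/-!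
# S4933: groups with an extraspecial subgroup of small index (helper474)

`Q ≤ P` extraspecial of order `p ^ (2 k + 1)` (or more) with `Z(Q) ≤ Z(P)`, `|P : Q| < p ^ k`, `P / Z(Q)` nonabelian: `P` has
characters of degree at least `p ^ k` and nonlinear characters of degree less than `p ^ k`, so `CD p a P` fails.

* `exists_large` : degree at least `p ^ k`;
* `exists_small` : nonlinear of degree at most `|P : Q|`;
* `not_cd` : `¬ CD p a P`.
-/

set_option autoImplicit false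

namespace Cfsg.Agent.H474.HT

open Cfsg Subgroup Cfsg.Agent.Characters.Core Cfsg.Agent.H316.HT
open Cfsg.Agent.CharactersDeep.Extraspecial
open Cfsg.Agent.Blocks.Basic (charDegree_of_eq irr_one_eq_charDegree charDegree_pos)

universe u

variable {P : Type u} [Group P] [Finite P] {p : ℕ}

/-- a character of degree at least `p ^ k` -/
theorem exists_large [hp : Fact p.Prime] {k : ℕ} (Q : Subgroup P) (hcard : p ^ (2 * k + 1) ≤ Nat.card Q)
    (hZ : Nat.card (center Q) = p) (hQ : commutator Q ≤ center Q) (hZP : (center Q).map Q.subtype ≤ center P) :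
    ∃ φ : IrrCharacter P, p ^ k ≤ charDegree (φ : P → ℂ) := by
  classical
  have : Fintype Q := Fintype.ofFinite Q
  have hnt : Nontrivial (center Q) := by
    rw [← Finite.one_lt_card_iff_nontrivial, hZ]
    exact hp.out.one_lt
  obtain ⟨w, hw⟩ := exists_ne (1 : center Q)
  have hw1 : ((w : Q) : P) ≠ 1 := fun h => hw (Subtype.ext (Subtype.ext h))
  obtain ⟨χ, hχ, hne⟩ : ∃ χ : P → ℂ, IsIrrCharacter P χ ∧ χ ((w : Q) : P) ≠ χ 1 := by
    by_contra hcon
    push Not at hcon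
    exact hw1 (isConj_one_right.1 (Characters.GaloisIrr.isConj_iff_forall_irr.2 hcon).symm)
  obtain ⟨c, hc, -⟩ := exists_central_hom hχ
  -- the restriction of the central character
  let ι : center Q →* center P :=
    (Q.subtype.comp (center Q).subtype).codRestrict (center P) fun z => hZP ⟨z, z.2, rfl⟩
  let c' : center Q →* ℂˣ := c.comp ι
  have hfc : ∀ (x : Q) (z : center Q), (χ ∘ Q.subtype) (x * z) = (χ ∘ Q.subtype) x * (c' z : ℂ) := fun x z =>
    hc x (ι z)
  have hfc1 : ∀ z : center Q, (χ ∘ Q.subtype) z = χ 1 * (c' z : ℂ) := by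
    intro z
    have h1 := hfc 1 z
    rw [one_mul] at h1
    rw [h1]
    show χ ((1 : Q) : P) * _ = _
    rw [Subgroup.coe_one]
  have hcne : c' ≠ 1 := by
    intro h
    have h1 := hfc1 w
    rw [h, MonoidHom.one_apply, Units.val_one, mul_one] at h1
    exact hne h1
  have hf := isCharacter_comp Q.subtype (isIrr_isCharacter hχ)
  have h0 : ∀ x ∉ center Q, (χ ∘ Q.subtype) x = 0 := fun x hx =>
    eq_zero_of_notMem_center hQ (isCharacter_isClassFunction hf) (fun z => (c' z : ℂ))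
      (fun z hz h => hom_ne_one_of_prime_card hZ c' hcne hz (Units.ext h)) hfc hx
  have h1 := classInner_of_center (χ 1) c' h0 hfc1
  obtain ⟨n, hn⟩ := classInner_isNat hf hf
  set d := charDegree χ with hd
  have hχ1 : χ 1 = (d : ℂ) := irr_one_eq_charDegree hχ
  rw [hn, hZ, hχ1, Complex.conj_natCast] at h1
  have hQ0 : (Nat.card Q : ℂ) ≠ 0 := card_ne_zero_complex
  have h2 : Nat.card Q * n = p * (d * d) := by
    have h3 : (Nat.card Q : ℂ) * n = p * (d * d) := by
      rw [h1, mul_inv_cancel_left₀ hQ0]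
    exact_mod_cast h3
  have hd0 : 0 < d := charDegree_pos hχ
  have hn0 : 0 < n := by
    rcases Nat.eq_zero_or_pos n with h | h
    · rw [h, mul_zero] at h2
      have := Nat.mul_pos hp.out.pos (Nat.mul_pos hd0 hd0)
      omega
    · exact h
  refine ⟨⟨χ, hχ⟩, ?_⟩
  change p ^ k ≤ d
  have h3 : p * (p ^ k * p ^ k) ≤ p * (d * d) := by
    rw [← h2]
    calc p * (p ^ k * p ^ k) = p ^ (2 * k + 1) := by ring
      _ ≤ Nat.card Q := hcard
      _ ≤ Nat.card Q * n := Nat.le_mul_of_pos_right _ hn0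
  exact Nat.mul_self_le_mul_self_iff.1 (Nat.le_of_mul_le_mul_left h3 hp.out.pos)

/-- a nonlinear character of degree at most the index of a subgroup which is abelian modulo `K` -/
theorem exists_small (K : Subgroup P) [K.Normal] (B : Subgroup P) (hKB : K ≤ B)
    (hB : ∀ x ∈ B, ∀ y ∈ B, x * y * x⁻¹ * y⁻¹ ∈ K) (hn : ∃ x y : P, x * y * x⁻¹ * y⁻¹ ∉ K) :
    ∃ φ : IrrCharacter P, charDegree (φ : P → ℂ) ≠ 1 ∧ charDegree (φ : P → ℂ) ≤ B.index := by
  have hmk : ∀ x y : P, x * y * x⁻¹ * y⁻¹ ∈ K ↔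
      QuotientGroup.mk' K x * QuotientGroup.mk' K y = QuotientGroup.mk' K y * QuotientGroup.mk' K x := by
    intro x y
    have h1 : x * y * x⁻¹ * y⁻¹ ∈ K ↔ QuotientGroup.mk' K (x * y * x⁻¹ * y⁻¹) = 1 := by
      rw [← MonoidHom.mem_ker, QuotientGroup.ker_mk']
    rw [h1, map_mul, map_mul, map_mul, map_inv, map_inv, mul_inv_eq_one, mul_inv_eq_iff_eq_mul]
  obtain ⟨ψ, hψ⟩ : ∃ ψ : IrrCharacter (P ⧸ K), charDegree (ψ : P ⧸ K → ℂ) ≠ 1 := by
    by_contra hcon
    push Not at hcon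
    obtain ⟨x, y, hxy⟩ := hn
    exact hxy ((hmk x y).2 (H596.comm_of_charDegree_eq_one hcon _ _))
  have h1 : charDegree (ψ : P ⧸ K → ℂ) ≤ (B.map (QuotientGroup.mk' K)).index := by
    refine H596.charDegree_le_index ψ.2 _ ?_
    rintro _ ⟨x, hx, rfl⟩ _ ⟨y, hy, rfl⟩
    exact (hmk x y).1 (hB x hx y hy)
  have h2 : (B.map (QuotientGroup.mk' K)).index = B.index := by
    rw [Subgroup.index_map, QuotientGroup.ker_mk', sup_eq_left.2 hKB,
      MonoidHom.range_eq_top.2 (QuotientGroup.mk'_surjective K), index_top, mul_one]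
  refine ⟨⟨_, isIrr_comp (QuotientGroup.mk' K) (QuotientGroup.mk'_surjective K) ψ.2⟩, ?_, ?_⟩
  · change charDegree ((ψ : P ⧸ K → ℂ) ∘ QuotientGroup.mk' K) ≠ 1
    rwa [H596.charDegree_comp _ ψ.2]
  · change charDegree ((ψ : P ⧸ K → ℂ) ∘ QuotientGroup.mk' K) ≤ _
    rw [H596.charDegree_comp _ ψ.2, ← h2]
    exact h1

/-- **no `a` at all** -/
theorem not_cd [hp : Fact p.Prime] {k : ℕ} (Q : Subgroup P) (hcard : p ^ (2 * k + 1) ≤ Nat.card Q)
    (hind : Q.index < p ^ k) (hZ : Nat.card (center Q) = p) (hQ : commutator Q ≤ center Q)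
    (hZP : (center Q).map Q.subtype ≤ center P)
    (hn : ∃ x y : P, x * y * x⁻¹ * y⁻¹ ∉ (center Q).map Q.subtype) {a : ℕ} : ¬ CD p a P := by
  intro hcd
  obtain ⟨φ, hφ⟩ := exists_large Q hcard hZ hQ hZP
  have hK : ((center Q).map Q.subtype).Normal := by
    constructor
    intro x hx g
    have h1 := mem_center_iff.1 (hZP hx) g
    rw [h1, mul_inv_cancel_right]
    exact hx
  obtain ⟨ψ, hψ1, hψ⟩ := exists_small ((center Q).map Q.subtype) Q
    (by rintro _ ⟨x, -, rfl⟩; exact x.2) (by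
      intro x hx y hy
      refine ⟨⟨x, hx⟩ * ⟨y, hy⟩ * ⟨x, hx⟩⁻¹ * ⟨y, hy⟩⁻¹, ?_, rfl⟩
      exact hQ (commutator_mem_commutator (mem_top _) (mem_top _))) hn
  have h0 : 0 < Q.index := Nat.pos_of_ne_zero Subgroup.index_ne_zero_of_finite
  have h1 := hcd.1 φ
  have h2 := hcd.1 ψ
  omega

omit [Finite P] in
/-- `CD` for isomorphic groups -/
theorem cd_congr {P' : Type*} [Group P'] (e : P' ≃* P) {a : ℕ} (h : CD p a P) : CD p a P' := by
  have hs : ∀ χ : IrrCharacter P', charDegree ((χ : P' → ℂ) ∘ e.symm.toMonoidHom) = charDegree (χ : P' → ℂ) :=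
    fun χ => H596.charDegree_comp _ χ.2
  have ht : ∀ χ : IrrCharacter P, charDegree ((χ : P → ℂ) ∘ e.toMonoidHom) = charDegree (χ : P → ℂ) :=
    fun χ => H596.charDegree_comp _ χ.2
  refine ⟨fun φ => ?_, ?_⟩
  · rw [← hs φ]
    exact h.1 ⟨_, isIrr_comp e.symm.toMonoidHom e.symm.surjective φ.2⟩
  · obtain ⟨φ, hφ⟩ := h.2
    refine ⟨⟨_, isIrr_comp e.toMonoidHom e.surjective φ.2⟩, ?_⟩
    rw [← hφ]
    exact ht φ

end Cfsg.Agent.H474.HT
end

-- part: H474/HT/HNThree
section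
/-!
# S4933, box `s.HN.3` (helper474)

* `not_cd_ext` : `¬ CD p a P` for a group `P` with a subgroup `p ^ (1 + 4)` given by generators (`H839.Rad.Ext`), of index less than
  `p ^ 2`, with `w` central in `P` and `P / ⟨w⟩` nonabelian;
* `good_hn_3` : `Good 3 S` for `S ≃* HN` (no `a` at all: the Sylow 3-subgroup `3 ^ (1 + 4) : 3`).
-/

set_option autoImplicit false

namespace Cfsg.Agent.H474.HT

open Cfsg Subgroup Cfsg.Agent.H316.HT

universe u v

section ext
variable {K : Type u} [Group K] [Finite K] {p : ℕ} {w a b c d : K}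

theorem not_cd_ext [hp : Fact p.Prime] (E : H839.Rad.Ext p w a b c d) {P : Subgroup K} (hQP : E.Q ≤ P)
    (hw : ∀ x ∈ P, x * w = w * x) (hcard : Nat.card P < p ^ 2 * p ^ 5)
    (hn : ∃ x ∈ P, ∃ y ∈ P, x * y * x⁻¹ * y⁻¹ ∉ zpowers w) {n : ℕ} : ¬ CD p n ↥P := by
  set Q' : Subgroup ↥P := E.Q.subgroupOf P with hQ'
  let φ : ↥Q' →* K := P.subtype.comp Q'.subtype
  have hφ : Function.Injective φ := P.subtype_injective.comp Q'.subtype_injective
  have hcQ : Nat.card ↥Q' = Nat.card ↥E.Q := Nat.card_congr (subgroupOfEquivOfLe hQP).toEquiv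
  have hmem : ∀ x : ↥Q', φ x ∈ E.Q := fun x => mem_subgroupOf.1 x.2
  have hwQ : w ∈ E.Q := E.w_mem
  have hmap : (center ↥Q').map φ = zpowers w := by
    apply le_antisymm
    · rintro _ ⟨x, hx, rfl⟩
      refine E.center (hmem x) fun y hy => ?_
      have h1 := mem_center_iff.1 hx ⟨⟨y, hQP hy⟩, mem_subgroupOf.2 hy⟩
      exact (congrArg φ h1).symm
    · rw [zpowers_le]
      refine ⟨⟨⟨w, hQP hwQ⟩, mem_subgroupOf.2 hwQ⟩, mem_center_iff.2 fun y => hφ ?_, rfl⟩
      exact E.comm_w _ (hmem y)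
  have hZ : Nat.card (center ↥Q') = p := by
    rw [← card_map_of_injective hφ, hmap, Nat.card_zpowers, E.hw]
  have hQ : commutator ↥Q' ≤ center ↥Q' := by
    rw [commutator_def, commutator_le]
    intro x _ y _
    have h1 : φ (x * y * x⁻¹ * y⁻¹) ∈ (center ↥Q').map φ := by
      rw [hmap]
      exact E.commutator_mem _ (hmem x) _ (hmem y)
    obtain ⟨z, hz, h2⟩ := h1
    change x * y * x⁻¹ * y⁻¹ ∈ _
    rwa [← hφ h2]
  have hmapP : ∀ x : ↥P, x ∈ (center ↥Q').map Q'.subtype ↔ (x : K) ∈ zpowers w := by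
    intro x
    rw [← hmap]
    constructor
    · rintro ⟨z, hz, rfl⟩
      exact ⟨z, hz, rfl⟩
    · rintro ⟨z, hz, h2⟩
      exact ⟨z, hz, P.subtype_injective h2⟩
  have hZP : (center ↥Q').map Q'.subtype ≤ center ↥P := by
    intro x hx
    obtain ⟨m, hm⟩ := mem_zpowers_iff.1 ((hmapP x).1 hx)
    refine mem_center_iff.2 fun y => Subtype.ext ?_
    have h1 : Commute (y : K) w := hw y y.2
    have h2 := (h1.zpow_right m).eq
    rw [hm] at h2
    exact h2
  have hle := E.le_card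
  have hind : Q'.index < p ^ 2 := by
    by_contra hcon
    push Not at hcon
    have h1 := Q'.card_mul_index
    rw [hcQ] at h1
    have h2 := Nat.mul_le_mul hle hcon
    rw [h1] at h2
    have h3 : p ^ 5 * p ^ 2 = p ^ 2 * p ^ 5 := mul_comm _ _
    omega
  refine not_cd (k := 2) Q' (by rw [hcQ]; exact hle) hind hZ hQ hZP ?_
  obtain ⟨x, hx, y, hy, hxy⟩ := hn
  exact ⟨⟨x, hx⟩, ⟨y, hy⟩, fun h => hxy ((hmapP _).1 h)⟩

end ext

section hn
open H285.HN3 H839.Rad.Ext

theorem F_A_not : F * A * F⁻¹ * A⁻¹ ∉ zpowers W := by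
  intro h1
  rw [F_A] at h1
  obtain ⟨n, hn⟩ := mem_zpowers_iff.1 h1
  have h2 : nf W A B C₁ D 1 1 0 0 1 = nf W A B C₁ D 1 0 0 0 n := by
    have h3 : nf W A B C₁ D 1 1 0 0 1 = W ^ n * A := by rw [hn]; group
    rw [h3, ((show Commute W A from ext.wa).zpow_left n).eq]
    simp [nf]
  have h3 : nf W A B C₁ D 1 0 0 0 n * nf W A B C₁ D 1 0 0 0 0 = nf W A B C₁ D 1 0 0 0 0 * nf W A B C₁ D 1 0 0 0 n :=
    ext.comm_iff.2 (by norm_num)
  rw [← h2] at h3
  have h4 := ext.comm_iff.1 h3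
  norm_num at h4

theorem P_comm_W {x : Spor.HN} (hx : x ∈ H285.HN3.P) : x * W = W * x := by
  obtain ⟨q, hq, s, rfl⟩ := hx
  have h1 : Commute q W := ext.comm_w q hq
  have h2 : Commute F W := mul_inv_eq_iff_eq_mul.1 F_W
  exact (h1.mul_left (h2.zpow_left s)).eq

theorem card_P_lt : Nat.card ↥H285.HN3.P < 3 ^ 2 * 3 ^ 5 := by
  obtain ⟨n, hn⟩ := IsPGroup.iff_card.1 isPGroup_P
  have h1 : 3 ^ n ∣ 273030912000000 := by
    rw [← hn, ← card_HN]
    exact card_subgroup_dvd_card _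
  have h2 : n < 7 := by
    by_contra hcon
    push Not at hcon
    have h3 := (pow_dvd_pow 3 hcon).trans h1
    norm_num at h3
  rw [hn, ← pow_add]
  exact Nat.pow_lt_pow_right (by norm_num) h2

theorem not_cd_hn (P' : Sylow 3 Spor.HN) {a : ℕ} : ¬ CD 3 a ↥P' := by
  intro h
  let P0 : Sylow 3 Spor.HN := isPGroup_P.toSylow index_P
  have e : ↥P0 ≃* ↥P' := P0.equiv P'
  have h2 : CD 3 a ↥H285.HN3.P := cd_congr e h
  exact not_cd_ext _root_.Cfsg.Agent.H285.HN3.ext Q_le_P (fun x hx => P_comm_W hx) card_P_lt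
    ⟨F, F_mem_P, A, Q_le_P ext.a_mem, F_A_not⟩ h2

end hn

theorem not_cd_of_equiv {S : Type u} {T : Type v} [Group S] [Group T] [Finite S] [Finite T] {p : ℕ} [Fact p.Prime] (e : S ≃* T)
    {a : ℕ} (h : ∀ P : Sylow p T, ¬ CD p a ↥P) (P : Sylow p S) : ¬ CD p a ↥P := by
  intro hcd
  have h1 : IsPGroup p ↥((P : Subgroup S).map e.toMonoidHom) := P.isPGroup'.map _
  have h2 : ¬ p ∣ ((P : Subgroup S).map e.toMonoidHom).index := by
    rw [index_map_of_bijective e.bijective]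
    exact P.not_dvd_index
  exact h (h1.toSylow h2) (cd_congr ((P : Subgroup S).equivMapOfInjective e.toMonoidHom e.injective).symm hcd)

theorem good_hn_3 {S : Type u} [Group S] [Finite S] (h : Spor.IsoHN S) : H468.HT.Good 3 S := by
  obtain ⟨e⟩ := h
  exact H468.HT.Good.of_vac fun P a _ hcd => not_cd_of_equiv e (fun P' => not_cd_hn P') P hcd

end Cfsg.Agent.H474.HT
end

-- part: H160/HT/Perm
section
/-!
# The principal block part of a transitive permutation character (helper160)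

`pow_dvd_degSum` : the degree of the part of the permutation character of `G` on `X` in the principal `p`-block is divisible
by the power of `p` in `|X|`.
-/

set_option autoImplicit false
set_option linter.unusedSectionVars false

namespace Cfsg.Agent.H160.HT

open Cfsg Subgroup Cfsg.Agent.Blocks Cfsg.Agent.H145.BR Cfsg.Agent.Characters.Core Cfsg.Agent.H471.EP
open scoped ComplexConjugate BigOperators

universe u v w

variable {G : Type u} [Group G] [Finite G] {p : ℕ} [hp : Fact p.Prime]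

theorem dvd_of_local {M : Ideal AlgInt} (hM : IsPModular p M) {k : ℕ} :
    ∀ {n : ℕ} {r : ℂ}, MemLocalRing M r → (n : ℂ) = (p : ℂ) ^ k * r → p ^ k ∣ n := by
  induction k with
  | zero => intro n r _ _; simp
  | succ k ih =>
    intro n r hr h
    have hp1 : MemLocalIdeal M ((p : ℂ) * r) :=
      Blocks.LocalRing.memLocalIdeal_mul_right hM (Blocks.Local.memLocalIdeal_p hM) hr
    obtain ⟨m, hm⟩ := ih (n := n) (r := (p : ℂ) * r)
      (Blocks.LocalRing.memLocalRing_mul hM (Blocks.LocalRing.memLocalRing_natCast hM p) hr)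
      (by rw [h, pow_succ]; ring)
    have hp0 : ((p : ℂ) ^ k) ≠ 0 := pow_ne_zero _ (by exact_mod_cast hp.out.ne_zero)
    have h1 : (m : ℂ) = (p : ℂ) * r := by
      apply mul_left_cancel₀ hp0
      rw [← mul_assoc, ← pow_succ, ← h, hm]
      push_cast
      ring
    have h2 : MemLocalIdeal M (((m : ℤ) : ℂ)) := by
      rw [Int.cast_natCast, h1]
      exact hp1
    rw [Blocks.Local.memLocalIdeal_intCast_iff hM] at h2
    have h3 : p ∣ m := by exact_mod_cast h2
    rw [hm, pow_succ]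
    exact Nat.mul_dvd_mul_left _ h3

theorem sum_block [Fintype G] (B : Set (IrrCharacter G)) (χ : IrrCharacter G) [Decidable (χ ∈ B)] :
    ∑ g : G, (χ : G → ℂ) g * blockCoeff B g = if χ ∈ B then (charDegree (χ : G → ℂ) : ℂ) else 0 := by
  classical
  have := finite_irr (G := G)
  have := Fintype.ofFinite (IrrCharacter G)
  have h1 : ∀ g : G, blockCoeff B g = (Nat.card G : ℂ)⁻¹ * ∑ ψ : IrrCharacter G,
      if ψ ∈ B then (ψ : G → ℂ) 1 * conj ((ψ : G → ℂ) g) else 0 := by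
    intro g
    unfold blockCoeff
    rw [finsum_mem_def, finsum_eq_sum_of_fintype]
    rfl
  have h2 : ∀ g : G, (χ : G → ℂ) g * blockCoeff B g = ∑ ψ : IrrCharacter G,
      (if ψ ∈ B then (ψ : G → ℂ) 1 else 0) * ((Nat.card G : ℂ)⁻¹ * ((χ : G → ℂ) g * conj ((ψ : G → ℂ) g))) := by
    intro g
    rw [h1, Finset.mul_sum, Finset.mul_sum]
    refine Finset.sum_congr rfl fun ψ _ => ?_
    split_ifs
    · ring
    · ring
  rw [Finset.sum_congr rfl fun g _ => h2 g, Finset.sum_comm]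
  have h3 : ∀ ψ : IrrCharacter G, ∑ g : G, (if ψ ∈ B then (ψ : G → ℂ) 1 else 0) *
      ((Nat.card G : ℂ)⁻¹ * ((χ : G → ℂ) g * conj ((ψ : G → ℂ) g))) =
      (if ψ ∈ B then (ψ : G → ℂ) 1 else 0) * (if χ = ψ then 1 else 0) := by
    intro ψ
    rw [← Finset.mul_sum, ← Finset.mul_sum, ← classInner_def]
    congr 1
    by_cases e : χ = ψ
    · rw [if_pos e, e, classInner_irr_self ψ.2]
    · rw [if_neg e, classInner_irr_ne χ.2 ψ.2 fun h => e (Subtype.ext h)]
  rw [Finset.sum_congr rfl fun ψ _ => h3 ψ]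
  simp only [mul_ite, mul_one, mul_zero, Finset.sum_ite_eq, Finset.mem_univ, if_true]
  split_ifs
  · exact Blocks.Basic.irr_one_eq_charDegree χ.2
  · rfl

/-- the sum of a class function against a transitive permutation character -/
theorem sum_permC [Fintype G] {X : Type v} [Finite X] [MulAction G X] [MulAction.IsPretransitive G X] (x : X) {F : G → ℂ}
    (hF : ∀ a g : G, F (a * g * a⁻¹) = F g) [DecidablePred fun g : G => g • x = x] :
    ∑ g : G, permC G X g * F g = (Nat.card X : ℂ) * ∑ g : G, if g • x = x then F g else 0 := by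
  classical
  have := Fintype.ofFinite X
  have h1 : ∀ g : G, permC G X g * F g = ∑ y : X, if g • y = y then F g else 0 := by
    intro g
    unfold permC
    rw [← Finset.sum_filter, Finset.sum_const, nsmul_eq_mul]
    congr 2
    rw [Nat.card_eq_fintype_card, ← Fintype.card_subtype]
    rfl
  rw [Finset.sum_congr rfl fun g _ => h1 g, Finset.sum_comm]
  have h2 : ∀ y : X, (∑ g : G, if g • y = y then F g else 0) = ∑ g : G, if g • x = x then F g else 0 := by
    intro y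
    obtain ⟨a, rfl⟩ := MulAction.exists_smul_eq G x y
    refine (Fintype.sum_equiv (MulAut.conj a).toEquiv _ _ fun g => ?_).symm
    show (if g • x = x then F g else 0) = if (a * g * a⁻¹) • (a • x) = a • x then F (a * g * a⁻¹) else 0
    have h3 : (a * g * a⁻¹) • (a • x) = a • (g • x) := by
      rw [← mul_smul, ← mul_smul]
      congr 1
      group
    rw [h3, hF]
    exact if_congr (smul_left_cancel_iff a).symm rfl rfl
  rw [Finset.sum_congr rfl fun y _ => h2 y, Finset.sum_const, nsmul_eq_mul, Finset.card_univ, Nat.card_eq_fintype_card]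

/-- **The part of a transitive permutation character in the principal block.** -/
theorem pow_dvd_degSum {M : Ideal AlgInt} (hM : IsPModular p M) {X : Type v} [Finite X] [Nonempty X] [MulAction G X]
    [MulAction.IsPretransitive G X] {ι : Type w} [Fintype ι] (χ : ι → IrrCharacter G)
    (hs : ∀ g : G, permC G X g = 1 + ∑ i, (χ i : G → ℂ) g) {k : ℕ} (hk : p ^ k ∣ Nat.card X) : p ^ k ∣ degSum M χ := by
  classical
  have := Fintype.ofFinite G
  have hMp : M.IsPrime := Blocks.Local.isPrime_of_isPModular hM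
  obtain ⟨x⟩ : Nonempty X := inferInstance
  let ε : IrrCharacter G := ⟨fun _ => 1, Blocks.Basic.isIrrCharacter_one⟩
  have hε : ε ∈ principalBlock M G := Blocks.Basic.mem_blockOf_self ε
  have hd : charDegree (ε : G → ℂ) = 1 := by
    show charDegree (fun _ : G => (1 : ℂ)) = 1
    unfold charDegree
    simp
  have hB : IsPBlock M (principalBlock M G) := ⟨ε, rfl⟩
  have hcl : ∀ a g : G, blockCoeff (principalBlock M G) (a * g * a⁻¹) = blockCoeff (principalBlock M G) g := by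
    intro a g
    unfold blockCoeff
    congr 1
    refine finsum_mem_congr rfl fun ψ _ => ?_
    rw [isIrr_isClassFunction ψ.2]
  have h1 := sum_permC (G := G) (X := X) x hcl
  have h2 : ∑ g : G, permC G X g * blockCoeff (principalBlock M G) g = (degSum M χ : ℂ) := by
    have h3 : ∀ g : G, permC G X g * blockCoeff (principalBlock M G) g =
        (ε : G → ℂ) g * blockCoeff (principalBlock M G) g +
          ∑ i, (χ i : G → ℂ) g * blockCoeff (principalBlock M G) g := by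
      intro g
      rw [hs, add_mul, Finset.sum_mul]
    rw [Finset.sum_congr rfl fun g _ => h3 g, Finset.sum_add_distrib, Finset.sum_comm, sum_block,
      Finset.sum_congr rfl fun i _ => sum_block (principalBlock M G) (χ i), if_pos hε, hd]
    unfold degSum
    push_cast
    congr 1
  have h4 : MemLocalRing M (∑ g : G, if g • x = x then blockCoeff (principalBlock M G) g else 0) := by
    refine Blocks.LocalRing.memLocalRing_sum hM _ _ fun g _ => ?_
    split_ifs
    · exact Blocks.Osima.memLocalRing_blockCoeff hM hB g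
    · exact Blocks.LocalRing.memLocalRing_zero hM
  obtain ⟨m, hm⟩ := hk
  rw [h2] at h1
  refine dvd_of_local hM (k := k) (r := (m : ℂ) * ∑ g : G, if g • x = x then blockCoeff (principalBlock M G) g else 0)
    (Blocks.LocalRing.memLocalRing_mul hM (Blocks.LocalRing.memLocalRing_natCast hM m) h4) ?_
  rw [h1, hm]
  push_cast
  ring

end Cfsg.Agent.H160.HT
end

-- part: H160/HT/BFive
section
/-!
# S4933, the Baby Monster, `p = 5` (helper160)

The permutation character on the transpositions is `1 + 96255 + 9458750 + 4275362520 + 9287037474`, of degree divisible by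
`5 ^ 4`: the degree of its part in the principal 5-block is divisible by `5 ^ 4`, so `96255 = 5 · 19251` is a member.
-/

set_option autoImplicit false
set_option maxRecDepth 100000

namespace Cfsg.Agent.H160.HT.BFive

open Cfsg Cfsg.Agent.H145.BR Cfsg.Agent.H995.BSch Cfsg.Agent.BabyM.Inst Cfsg.Agent.BabyM.Model Cfsg.Agent.H471.EP
  Cfsg.Agent.H471.EP.B

universe u

theorem mem_model {I : Ideal AlgInt} (hI : IsPModular 5 I) {χ : Fin 4 → IrrCharacter M.G}
    (hd : ∀ i, charDegree (χ i : M.G → ℂ) = dg i)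
    (hs : ∀ g : M.G, permC M.G (X M) g = 1 + ∑ i, (χ i : M.G → ℂ) g) : χ 0 ∈ principalBlock I M.G := by
  classical
  have h5 : Fact (Nat.Prime 5) := ⟨by norm_num⟩
  have h1 := pow_dvd_degSum hI (X := X M) χ hs (k := 4) (by rw [card_XM]; norm_num)
  by_contra h0
  unfold degSum at h1
  simp only [hd] at h1
  rw [Fin.sum_univ_four, if_neg h0] at h1
  simp only [dg, Matrix.cons_val_zero, Matrix.cons_val_one, Matrix.cons_val] at h1
  split_ifs at h1 <;> revert h1 <;> decide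

theorem pos_model : H468.HT.Pos 5 M.G := by
  obtain ⟨χ, hd, hs⟩ := exists_constituents
  refine ⟨χ 0, fun I hI => mem_model hI hd hs, ?_, ?_⟩
  · rw [hd]; show 5 ∣ 96255; norm_num
  · rw [hd]; show ¬ 5 ^ 2 ∣ 96255; norm_num

/-- **S4933: the Baby Monster, `p = 5`.** -/
theorem pos {S : Type u} [Group S] (h : Spor.IsoB S) : H468.HT.Pos 5 S := by
  obtain ⟨e⟩ := h
  let e' : M.G ≃* S := (e.trans Cfsg.Agent.BM.KHAll.iso).symm
  have : Finite S := Finite.of_equiv _ e'.toEquiv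
  exact H468.HT.Pos.of_equiv e' pos_model

theorem good {S : Type u} [Group S] (h : Spor.IsoB S) : H468.HT.Good 5 S := (pos h).good

end Cfsg.Agent.H160.HT.BFive
end
end

-- part: H188/HT/M24Three_mg
section
prune_inst 0x202400488000000000051010203802c00004b0000004009c210542000a50000082010008001d014228020100010020020000804000000000000000000000000000000010000008800080001000000000000000000000000000000000041004000000000
set_option linter.all false
open scoped Cfsg.Agent.FastGrp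

-- part: H188/HT/M24Three
section
/-!
# S4933: the row `s.M24.3` (helper188)

The permutation character on the 759 octads minus the one on the 276 pairs of points has norm `4 - 2 * 3 + 3 = 1`.

* `card_orbits_le`, `le_card_orbits` : the number of orbits, by representatives and by invariants;
* `exists_483` : the character of degree 483;
* `row_m24_3` : the row (the characters outside the principal 3-block have degree divisible by `9`).
-/

set_option autoImplicit false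

open Cfsg
open scoped Pointwise ComplexConjugate

namespace Cfsg.Agent.H188.HT.M24

open Cfsg.Agent.Characters.Core Cfsg.Agent.SporadicA.GolayBase Cfsg.Agent.SporadicStructure.OctadOrbits

/-- the permutation character -/
noncomputable def pC (H : Type*) [Group H] (X : Type*) [MulAction H X] : H → ℂ :=
  fun h => (Nat.card (MulAction.fixedBy X h) : ℂ)

theorem pC_one (H : Type*) [Group H] (X : Type*) [MulAction H X] : pC H X 1 = (Nat.card X : ℂ) := by
  rw [pC]
  congr 1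
  refine Nat.card_congr ⟨fun x => x.1, fun x => ⟨x, ?_⟩, fun x => rfl, fun x => rfl⟩
  rw [MulAction.mem_fixedBy, one_smul]

/-- The inner product of permutation characters. -/
theorem classInner_pC (H : Type*) [Group H] [Fintype H] (X Y : Type*) [Finite X] [Finite Y] [MulAction H X]
    [MulAction H Y] :
    classInner (pC H X) (pC H Y) = ((Nat.card (MulAction.orbitRel.Quotient H (X × Y)) : ℕ) : ℂ) := by
  classical
  have := Fintype.ofFinite X
  have := Fintype.ofFinite Y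
  obtain ⟨q, hq⟩ : ∃ q, q = Nat.card (MulAction.orbitRel.Quotient H (X × Y)) := ⟨_, rfl⟩
  rw [classInner_def, ← hq]
  have := Fintype.ofFinite (MulAction.orbitRel.Quotient H (X × Y))
  have h5 := MulAction.sum_card_fixedBy_eq_card_orbits_mul_card_group H (X × Y)
  have h6 : ∀ n : H, Fintype.card (MulAction.fixedBy (X × Y) n) =
      Nat.card (MulAction.fixedBy X n) * Nat.card (MulAction.fixedBy Y n) := by
    intro n
    rw [← Nat.card_eq_fintype_card, ← Nat.card_prod]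
    refine Nat.card_congr ⟨fun x => (⟨x.1.1, ?_⟩, ⟨x.1.2, ?_⟩),
      fun x => ⟨(x.1.1, x.2.1), ?_⟩, fun x => rfl, fun x => rfl⟩
    · have := x.2
      rw [MulAction.mem_fixedBy] at this ⊢
      exact congrArg Prod.fst this
    · have := x.2
      rw [MulAction.mem_fixedBy] at this ⊢
      exact congrArg Prod.snd this
    · rw [MulAction.mem_fixedBy]
      exact Prod.ext x.1.2 x.2.2
  have h7 : ∑ n : H, pC H X n * conj (pC H Y n) = (q : ℂ) * Nat.card H := by
    have h8 : ∀ n : H, pC H X n * conj (pC H Y n) = ((Fintype.card (MulAction.fixedBy (X × Y) n) : ℕ) : ℂ) := by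
      intro n
      rw [h6]
      simp only [pC, Complex.conj_natCast]
      push_cast
      ring
    rw [Finset.sum_congr rfl fun n _ => h8 n, ← Nat.cast_sum, h5, hq, Nat.card_eq_fintype_card,
      Nat.card_eq_fintype_card]
    push_cast
    ring
  rw [h7]
  have h8 : (Nat.card H : ℂ) ≠ 0 := card_ne_zero_complex
  field_simp

/-- at most `k` orbits, by representatives -/
theorem card_orbits_le {G X : Type*} [Group G] [MulAction G X] {k : ℕ} (r : Fin k → X)
    (hex : ∀ x, ∃ i, ∃ g : G, g • r i = x) : Nat.card (MulAction.orbitRel.Quotient G X) ≤ k := by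
  have h : Function.Surjective (fun i : Fin k => (Quotient.mk (MulAction.orbitRel G X) (r i) :
      MulAction.orbitRel.Quotient G X)) := by
    intro q
    induction q using Quotient.inductionOn with
    | h p =>
      obtain ⟨i, g, hg⟩ := hex p
      refine ⟨i, Quotient.sound ⟨g⁻¹, ?_⟩⟩
      show g⁻¹ • p = r i
      rw [← hg, inv_smul_smul]
  have h1 := Nat.card_le_card_of_surjective _ h
  rwa [Nat.card_eq_fintype_card (α := Fin k), Fintype.card_fin] at h1

/-- at least `k` orbits, by an invariant -/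
theorem le_card_orbits {G X : Type*} [Group G] [MulAction G X] [Finite X] {k : ℕ} (F : X → ℕ)
    (hinv : ∀ (g : G) x, F (g • x) = F x) (hs : ∀ i, i < k → ∃ x, F x = i) :
    k ≤ Nat.card (MulAction.orbitRel.Quotient G X) := by
  choose r hr using hs
  have h : Function.Injective (fun i : Fin k => (Quotient.mk (MulAction.orbitRel G X) (r i i.2) :
      MulAction.orbitRel.Quotient G X)) := by
    intro i j hij
    obtain ⟨g, hg⟩ := Quotient.exact hij
    have h1 : g • r j j.2 = r i i.2 := hg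
    have h2 := hinv g (r j j.2)
    rw [h1, hr i i.2, hr j j.2] at h2
    exact Fin.ext h2
  have h1 := Nat.card_le_card_of_injective _ h
  rwa [Nat.card_eq_fintype_card (α := Fin k), Fintype.card_fin] at h1

/-- a generalized character `f` with `⟨f, f⟩ = a - 2 b + c`, `a ≤ 4`, `3 ≤ b`, `c ≤ 3` and positive degree is irreducible -/
theorem irr_of_norm {G : Type*} [Group G] [Fintype G] {f : G → ℂ} (hf : IsGeneralizedCharacter G f) {a b c d : ℕ}
    (h : classInner f f = a - b - (b - c)) (ha : a ≤ 4) (hb : 3 ≤ b) (hc : c ≤ 3) (hd : f 1 = d) (hd0 : d ≠ 0) :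
    IsIrrCharacter G f := by
  have h1 : classInner f f = (((Nat.card G : ℝ)⁻¹ * ∑ g : G, Complex.normSq (f g) : ℝ) : ℂ) :=
    classInner_self_eq_ofReal f
  have h2 : (0 : ℝ) ≤ (Nat.card G : ℝ)⁻¹ * ∑ g : G, Complex.normSq (f g) :=
    mul_nonneg (inv_nonneg.2 (Nat.cast_nonneg _)) (Finset.sum_nonneg fun _ _ => Complex.normSq_nonneg _)
  have h3 : (((a : ℝ) - b - (b - c) : ℝ) : ℂ) = (((Nat.card G : ℝ)⁻¹ * ∑ g : G, Complex.normSq (f g) : ℝ) : ℂ) := by
    rw [← h1, h]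
    push_cast
    ring
  have h4 := Complex.ofReal_injective h3
  have h5 : (((a : ℤ) - b - (b - c) : ℤ) : ℝ) = (a : ℝ) - b - (b - c) := by push_cast; ring
  have h6 : (0 : ℤ) ≤ (a : ℤ) - b - (b - c) := by
    have : ((0 : ℤ) : ℝ) ≤ (((a : ℤ) - b - (b - c) : ℤ) : ℝ) := by
      rw [h5, h4]
      simpa only [_root_.Int.cast_zero, _root_.Nat.card_eq_fintype_card] using h2
    exact_mod_cast this
  have h7 : classInner f f ≠ 0 := by
    intro h0
    have h1' : (d : ℂ) = 0 := by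
      rw [← hd, classInner_self_eq_zero h0]
      rfl
    exact hd0 (by exact_mod_cast h1')
  have h8 : (a : ℤ) - b - (b - c) ≠ 0 := by
    intro h0
    apply h7
    rw [h]
    have : (((a : ℤ) - b - (b - c) : ℤ) : ℂ) = 0 := by rw [h0]; simp
    push_cast at this
    exact this
  have h9 : (a : ℤ) - b - (b - c) = 1 := by omega
  have h10 : classInner f f = 1 := by
    rw [h]
    have : (((a : ℤ) - b - (b - c) : ℤ) : ℂ) = 1 := by rw [h9]; simp
    push_cast at this
    exact this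
  rcases isIrr_of_generalized hf h10 with hi | hi
  · exact hi
  · exfalso
    obtain ⟨n, ρ, -, hρ⟩ := hi
    have h11 := congrFun hρ 1
    rw [Representation.char_one, Module.finrank_fin_fun, Pi.neg_apply, hd] at h11
    have h12 : ((n : ℝ) : ℂ) = ((-(d : ℝ) : ℝ) : ℂ) := by
      push_cast
      exact h11
    have h13 := Complex.ofReal_injective h12
    have h14 : (0 : ℝ) ≤ n := Nat.cast_nonneg n
    have h15 : (1 : ℝ) ≤ d := by exact_mod_cast Nat.one_le_iff_ne_zero.2 hd0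
    linarith only [h13, h15]

/-- the octads -/
abbrev Oc : Type := {o : Finset GolayPt // o ∈ octads}

/-- the pairs of points -/
abbrev Pr : Type := {s : Finset GolayPt // s.card = 2}

instance : MulAction M24 Oc where
  smul g o := ⟨g • o.1, S0367.smul_mem_octads g o.1 o.2⟩
  one_smul _ := Subtype.ext (one_smul _ _)
  mul_smul _ _ _ := Subtype.ext (mul_smul _ _ _)

instance : MulAction M24 Pr where
  smul g s := ⟨g • s.1, (Finset.card_smul_finset g s.1).trans s.2⟩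
  one_smul _ := Subtype.ext (one_smul _ _)
  mul_smul _ _ _ := Subtype.ext (mul_smul _ _ _)

theorem card_oc : Nat.card Oc = 759 := by
  have h := S0360.result
  rw [Set.ncard] at h
  exact h

theorem card_pr : Nat.card Pr = 276 := by
  rw [Nat.card_eq_fintype_card, Fintype.card_finset_len]
  simp [GolayPt]
  decide

/-- the second octads of the representatives -/
def rt : Fin 4 → ℕ := ![1009728, 31554, 10558, root 8]

theorem rt_mem (i : Fin 4) : fin (rt i) ∈ octads := by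
  fin_cases i
  all_goals
    rw [fin_mem_octads_iff (by decide +kernel)]
    decide +kernel

theorem root_eq {k : ℕ} (h : fin (root k) ∈ octads) : ∃ i : Fin 4, root k = rt i := by
  by_cases h0 : k = 0
  · exact ⟨0, by rw [h0]; rfl⟩
  by_cases h2 : k = 2
  · exact ⟨1, by rw [h2]; rfl⟩
  by_cases h4 : k = 4
  · exact ⟨2, by rw [h4]; rfl⟩
  by_cases h8 : k = 8
  · exact ⟨3, by rw [h8]; rfl⟩
  exfalso
  have h9 : root k = 0 := by
    unfold root
    split <;> simp_all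
  have h10 := h.2
  rw [h9] at h10
  exact absurd h10 (by decide +kernel)

theorem orb_oo : Nat.card (MulAction.orbitRel.Quotient M24 (Oc × Oc)) ≤ 4 := by
  refine card_orbits_le (fun i : Fin 4 => ((⟨fin o0, o0_mem⟩, ⟨fin (rt i), rt_mem i⟩) : Oc × Oc)) ?_
  rintro ⟨x, y⟩
  obtain ⟨g, hg⟩ := S0367.result x.1 (fin o0) x.2 o0_mem
  obtain ⟨h, hh, he⟩ := exists_to_root (g • y).2
  rw [mem_Stab] at hh
  obtain ⟨i, hi⟩ := root_eq (k := (fin o0 ∩ ((g • y : Oc) : Finset GolayPt)).card)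
    (by rw [← he]; exact smul_mem_octads hh.1 (g • y).2)
  rw [hi] at he
  refine ⟨i, (⟨h, hh.1⟩ * g)⁻¹, ?_⟩
  rw [inv_smul_eq_iff]
  refine Prod.ext (Subtype.ext ?_) (Subtype.ext ?_)
  · show fin o0 = ((⟨h, hh.1⟩ : M24) * g) • x.1
    rw [mul_smul, hg]
    exact hh.2.symm
  · show fin (rt i) = ((⟨h, hh.1⟩ : M24) * g) • y.1
    rw [mul_smul]
    exact he.symm

theorem orb_op : 3 ≤ Nat.card (MulAction.orbitRel.Quotient M24 (Oc × Pr)) := by
  refine le_card_orbits (fun x : Oc × Pr => (x.1.1 ∩ x.2.1).card) ?_ ?_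
  · intro g x
    show (g • x.1.1 ∩ g • x.2.1).card = _
    rw [← Finset.smul_finset_inter, Finset.card_smul_finset]
  · intro i hi
    have h2 : (fin 96).card = 2 := by decide +kernel
    have h3 : (fin 33).card = 2 := by decide +kernel
    have h4 : (fin 3).card = 2 := by decide +kernel
    interval_cases i
    · exact ⟨(⟨fin o0, o0_mem⟩, ⟨fin 96, h2⟩), (by decide +kernel : (fin o0 ∩ fin 96).card = 0)⟩
    · exact ⟨(⟨fin o0, o0_mem⟩, ⟨fin 33, h3⟩), (by decide +kernel : (fin o0 ∩ fin 33).card = 1)⟩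
    · exact ⟨(⟨fin o0, o0_mem⟩, ⟨fin 3, h4⟩), (by decide +kernel : (fin o0 ∩ fin 3).card = 2)⟩

theorem inj4 {X : Type*} {a b c d : X} (hab : a ≠ b) (hac : a ≠ c) (had : a ≠ d) (hbc : b ≠ c) (hbd : b ≠ d)
    (hcd : c ≠ d) : Function.Injective ![a, b, c, d] := by
  intro i j hij
  fin_cases i <;> fin_cases j <;> simp_all

theorem exists_four {a b c d a' b' c' d' : GolayPt} (hab : a ≠ b) (hac : a ≠ c) (had : a ≠ d) (hbc : b ≠ c)
    (hbd : b ≠ d) (hcd : c ≠ d) (hab' : a' ≠ b') (hac' : a' ≠ c') (had' : a' ≠ d') (hbc' : b' ≠ c')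
    (hbd' : b' ≠ d') (hcd' : c' ≠ d') :
    ∃ g : M24, g • a = a' ∧ g • b = b' ∧ g • c = c' ∧ g • d = d' := by
  have h5 := S0366.result
  have h4 : MulAction.IsMultiplyPretransitive M24 GolayPt 4 :=
    MulAction.isMultiplyPretransitive_of_le (n := 5) (by norm_num) (by simp [GolayPt])
  obtain ⟨g, hg⟩ := MulAction.exists_smul_eq M24 (⟨![a, b, c, d], inj4 hab hac had hbc hbd hcd⟩ : Fin 4 ↪ GolayPt)
    ⟨![a', b', c', d'], inj4 hab' hac' had' hbc' hbd' hcd'⟩
  refine ⟨g, ?_, ?_, ?_, ?_⟩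
  · exact DFunLike.congr_fun hg 0
  · exact DFunLike.congr_fun hg 1
  · exact DFunLike.congr_fun hg 2
  · exact DFunLike.congr_fun hg 3

/-- the pair -/
def pr (x y : GolayPt) (h : x ≠ y) : Pr := ⟨{x, y}, Finset.card_pair h⟩

theorem smul_pr (g : M24) {x y x' y' : GolayPt} (h : x ≠ y) (h' : x' ≠ y') (hx : g • x = x') (hy : g • y = y') :
    g • pr x y h = pr x' y' h' := by
  refine Subtype.ext ?_
  show g • ({x, y} : Finset GolayPt) = {x', y'}
  rw [Finset.smul_finset_insert, Finset.smul_finset_singleton, hx, hy]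

theorem orb_pp : Nat.card (MulAction.orbitRel.Quotient M24 (Pr × Pr)) ≤ 3 := by
  obtain ⟨a, b, c, d, hab, hac, had, hbc, hbd, hcd⟩ : ∃ a b c d : GolayPt, a ≠ b ∧ a ≠ c ∧ a ≠ d ∧ b ≠ c ∧ b ≠ d ∧
      c ≠ d := ⟨none, some 0, some 1, some 2, by decide +kernel⟩
  refine card_orbits_le ![(pr a b hab, pr a b hab), (pr a b hab, pr a c hac), (pr a b hab, pr c d hcd)] ?_
  rintro ⟨s, t⟩
  obtain ⟨x, y, hxy, hs⟩ := Finset.card_eq_two.1 s.2
  have es : s = pr x y hxy := Subtype.ext hs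
  obtain ⟨z, w, hzw, ht⟩ := Finset.card_eq_two.1 t.2
  have et : t = pr z w hzw := Subtype.ext ht
  have comm : ∀ {u v : GolayPt} (h : u ≠ v), pr u v h = pr v u h.symm := fun h => Subtype.ext (Finset.pair_comm _ _)
  have key1 : ∀ {x y : GolayPt} (h : x ≠ y), ∃ i, ∃ g : M24, g • (![(pr a b hab, pr a b hab), (pr a b hab, pr a c hac),
      (pr a b hab, pr c d hcd)] : Fin 3 → Pr × Pr) i = (pr x y h, pr x y h) := by
    intro x y h
    obtain ⟨z, hz⟩ := Finset.exists_mem_notMem_of_card_lt_card (s := {x, y}) (t := (Finset.univ : Finset GolayPt))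
      (by rw [Finset.card_pair h]; simp [GolayPt])
    obtain ⟨w, hw⟩ := Finset.exists_mem_notMem_of_card_lt_card (s := {x, y, z}) (t := (Finset.univ : Finset GolayPt))
      (lt_of_le_of_lt Finset.card_le_three (by simp [GolayPt]))
    simp only [Finset.mem_univ, Finset.mem_insert, Finset.mem_singleton, true_and, not_or] at hz hw
    obtain ⟨g, h1, h2, -, -⟩ := exists_four hab hac had hbc hbd hcd h (Ne.symm hz.1) (Ne.symm hw.1) (Ne.symm hz.2)
      (Ne.symm hw.2.1) (Ne.symm hw.2.2)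
    exact ⟨0, g, Prod.ext (smul_pr g hab h h1 h2) (smul_pr g hab h h1 h2)⟩
  have key2 : ∀ {x y z : GolayPt} (h : x ≠ y) (h' : x ≠ z), y ≠ z → ∃ i, ∃ g : M24, g • (![(pr a b hab, pr a b hab),
      (pr a b hab, pr a c hac), (pr a b hab, pr c d hcd)] : Fin 3 → Pr × Pr) i = (pr x y h, pr x z h') := by
    intro x y z h h' hyz
    obtain ⟨w, hw⟩ := Finset.exists_mem_notMem_of_card_lt_card (s := {x, y, z}) (t := (Finset.univ : Finset GolayPt))
      (lt_of_le_of_lt Finset.card_le_three (by simp [GolayPt]))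
    simp only [Finset.mem_univ, Finset.mem_insert, Finset.mem_singleton, true_and, not_or] at hw
    obtain ⟨g, h1, h2, h3, -⟩ := exists_four hab hac had hbc hbd hcd h h' (Ne.symm hw.1) hyz
      (Ne.symm hw.2.1) (Ne.symm hw.2.2)
    exact ⟨1, g, Prod.ext (smul_pr g hab h h1 h2) (smul_pr g hac h' h1 h3)⟩
  rw [es, et]
  by_cases hxz : x = z
  · subst hxz
    by_cases hyw : y = w
    · subst hyw
      exact key1 hxy
    · exact key2 hxy hzw hyw
  · by_cases hxw : x = w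
    · subst hxw
      rw [comm hzw]
      by_cases hyz : y = z
      · subst hyz
        exact key1 hxy
      · exact key2 hxy hzw.symm hyz
    · by_cases hyz : y = z
      · subst hyz
        rw [comm hxy]
        exact key2 hxy.symm hzw hxw
      · by_cases hyw : y = w
        · subst hyw
          rw [comm hxy, comm hzw]
          exact key2 hxy.symm hzw.symm hxz
        · obtain ⟨g, h1, h2, h3, h4⟩ := exists_four hab hac had hbc hbd hcd hxy hxz hxw hyz hyw hzw
          exact ⟨2, g, Prod.ext (smul_pr g hab hxy h1 h2) (smul_pr g hcd hzw h3 h4)⟩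

/-- **an irreducible character of degree 483 of `M₂₄`** -/
theorem exists_483 : ∃ χ : IrrCharacter M24, charDegree (χ : M24 → ℂ) = 483 := by
  classical
  have hfin : Finite M24 := inferInstance
  have := Fintype.ofFinite M24
  have hg : IsGeneralizedCharacter M24 (pC M24 Oc - pC M24 Pr) :=
    ⟨_, _, S0157.isCharacter_fixedBy Oc, S0157.isCharacter_fixedBy Pr, rfl⟩
  have h1 : (pC M24 Oc - pC M24 Pr) 1 = ((483 : ℕ) : ℂ) := by
    rw [Pi.sub_apply, pC_one, pC_one, card_oc, card_pr]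
    norm_num
  have hs : classInner (pC M24 Pr) (pC M24 Oc) = classInner (pC M24 Oc) (pC M24 Pr) := by
    rw [← classInner_conj_symm, classInner_pC, Complex.conj_natCast]
  have hn : classInner (pC M24 Oc - pC M24 Pr) (pC M24 Oc - pC M24 Pr) =
      (Nat.card (MulAction.orbitRel.Quotient M24 (Oc × Oc)) : ℂ) -
      Nat.card (MulAction.orbitRel.Quotient M24 (Oc × Pr)) -
      (Nat.card (MulAction.orbitRel.Quotient M24 (Oc × Pr)) -
      Nat.card (MulAction.orbitRel.Quotient M24 (Pr × Pr))) := by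
    rw [classInner_sub_left, classInner_sub_right, classInner_sub_right, hs, classInner_pC, classInner_pC,
      classInner_pC]
  have hi := irr_of_norm hg hn orb_oo orb_op orb_pp h1 (by norm_num)
  refine ⟨⟨_, hi⟩, ?_⟩
  show charDegree (pC M24 Oc - pC M24 Pr) = 483
  rw [charDegree, h1]
  simp

section

open Subgroup

theorem zpowers_cent {G : Type*} [Group G] (x : G) :
    centralizer ((zpowers x : Subgroup G) : Set G) = centralizer ({x} : Set G) := by
  rw [zpowers_eq_closure, centralizer_closure]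

theorem prime_cases {q : ℕ} (h1 : q.Prime) (h2 : q ∣ 244823040) :
    q = 2 ∨ q = 3 ∨ q = 5 ∨ q = 7 ∨ q = 11 ∨ q = 23 := by
  rw [show 244823040 = 2 ^ 10 * 3 ^ 3 * 5 * 7 * 11 * 23 by norm_num] at h2
  have key : ∀ r : ℕ, r.Prime → ∀ k, q ∣ r ^ k → q = r := fun r hr k h =>
    (Nat.prime_dvd_prime_iff_eq h1 hr).1 (h1.dvd_of_dvd_pow h)
  have key1 : ∀ r : ℕ, r.Prime → q ∣ r → q = r := fun r hr h => (Nat.prime_dvd_prime_iff_eq h1 hr).1 h
  simp only [Nat.Prime.dvd_mul h1] at h2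
  rcases h2 with ((((h2 | h2) | h2) | h2) | h2) | h2
  · exact Or.inl (key 2 (by norm_num) 10 h2)
  · exact Or.inr (Or.inl (key 3 (by norm_num) 3 h2))
  · exact Or.inr (Or.inr (Or.inl (key1 5 (by norm_num) h2)))
  · exact Or.inr (Or.inr (Or.inr (Or.inl (key1 7 (by norm_num) h2))))
  · exact Or.inr (Or.inr (Or.inr (Or.inr (Or.inl (key1 11 (by norm_num) h2)))))
  · exact Or.inr (Or.inr (Or.inr (Or.inr (Or.inr (key1 23 (by norm_num) h2)))))

theorem cent_w (y : M24) {n r : ℕ} (hy : orderOf y = r)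
    (h : ∀ R : Subgroup M24, Nat.card R = r → Nat.card (centralizer (R : Set M24)) = n) :
    Nat.card (centralizer ({y} : Set M24)) = n := by
  have h1 := h (zpowers y) (by rw [Nat.card_zpowers, hy])
  rwa [zpowers_cent] at h1

theorem not_nine (y : M24) (hy : (orderOf y).Prime) (h3 : orderOf y ≠ 3) :
    ¬ 9 ∣ Nat.card (centralizer ({y} : Set M24)) := by
  have hc : Nat.card M24 = 244823040 := Cfsg.Agent.SporadicA.M24Trans.card_M24
  have hfin : Finite M24 := Nat.finite_of_card_ne_zero (by rw [hc]; norm_num)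
  rcases prime_cases hy (by rw [← hc]; exact _root_.orderOf_dvd_natCard y) with h | h | h | h | h | h
  · have h2 : y * y = 1 := by
      have := pow_orderOf_eq_one y
      rwa [h, pow_two] at this
    have h1 : y ≠ 1 := by
      rintro rfl
      rw [orderOf_one] at h
      omega
    rcases KFacts.M24Two.Count.conj_or y h2 h1 with ⟨g, hg⟩ | ⟨g, hg⟩
    · obtain ⟨g', hg'⟩ := KFacts.M24Two.CentZ.conj_z
      rw [KFacts.M24Two.CentZ.card_centralizer_conj hg, ← KFacts.M24Two.CentZ.card_centralizer_conj hg',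
        show Nat.card (centralizer ({KFacts.M24Two.CentZ.z} : Set M24)) = 21504 from KFacts.M24Two.CentZ.card_C]
      norm_num
    · rw [KFacts.M24Two.CentZ.card_centralizer_conj hg, KFacts.M24Two.Orders.card_centralizer_w]
      norm_num
  · exact absurd h h3
  · rw [cent_w y h fun R hR => (H715.Fpr.MathData.cn24_5 hR).1]
    norm_num
  · rw [cent_w y h fun R hR => (H715.Fpr.MathData.cn24_7 hR).1]
    norm_num
  · rw [cent_w y h fun R hR => (H715.Fpr.MathData.cn24_11 hR).1]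
    norm_num
  · rw [cent_w y h fun R hR => (H715.Fpr.MathData.cn24_23 hR).1]
    norm_num

end

theorem nb3 : H709.PB.NB 3 2 M24 := by
  have h3 : Fact (Nat.Prime 3) := ⟨Nat.prime_three⟩
  exact H709.PB.NB.of_orders (a := 3) (by rw [Cfsg.Agent.SporadicA.M24Trans.card_M24]; norm_num)
    fun y h1 h2 => not_nine y h1 h2

theorem exists_deg : ∃ χ : IrrCharacter M24, 3 ∣ charDegree (χ : M24 → ℂ) ∧ ¬ 3 ^ 2 ∣ charDegree (χ : M24 → ℂ) := by
  obtain ⟨χ, hχ⟩ := exists_483
  exact ⟨χ, by rw [hχ]; norm_num, by rw [hχ]; norm_num⟩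

/-- **`s.M24.3`** -/
theorem row_m24_3 {S : Type*} [Group S] (h : Spor.IsoM24 S) : H316.HT.Row 3 S := by
  obtain ⟨e⟩ := h
  have : Fact (Nat.Prime 3) := ⟨Nat.prime_three⟩
  refine H488.HT.row_congr e (H488.HT.row_of_nb (p := 3) (S := M24) ?_ nb3 exists_deg)
  rw [S2064.result]
  norm_num

end Cfsg.Agent.H188.HT.M24
end

-- part: H307/HT/Val
section
/-!
# S4933, pairs with `|P| = p³` (helper307): the value at a central element of an extraspecial group of order `p³`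

* `exists_int` : `z` conjugate to its powers: `χ(z)` is an integer;
* `sq_dvd` : `z = [t, g]` commutes with `g`, `t`: `p² ∣ χ(1) - χ(z)`.
-/

set_option autoImplicit false
set_option linter.unusedSectionVars false

open Subgroup Cfsg
open scoped ComplexConjugate

namespace Cfsg.Agent.H307.HT

open Cfsg.Agent.Characters.Core

universe u

theorem sum_all {E : Type u} [Group E] [Fintype E] {χ : E → ℂ} (hχ : IsCharacter E χ) :
    ∃ m : ℕ, ∑ g : E, χ g = (Nat.card E : ℂ) * m := by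
  obtain ⟨m, hm⟩ := classInner_isNat hχ (isIrr_isCharacter (isIrr_one (G := E)))
  rw [classInner_def] at hm
  have e1 : ∀ q : E, χ q * conj ((1 : E → ℂ) q) = χ q := by
    intro q; simp
  rw [Finset.sum_congr rfl fun q _ => e1 q] at hm
  refine ⟨m, ?_⟩
  have h0 : (Nat.card E : ℂ) ≠ 0 := by exact_mod_cast Nat.card_pos.ne'
  field_simp at hm
  exact hm

variable {G : Type u} [Group G] [Finite G]

theorem apply_conj {χ : G → ℂ} (hχ : IsCharacter G χ) {g k : G} (hc : IsConj g k) : χ g = χ k := by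
  obtain ⟨c, rfl⟩ := isConj_iff.1 hc
  exact (isCharacter_isClassFunction hχ g c).symm

/-- the sum over a cyclic group -/
theorem sum_zpowers {χ : G → ℂ} (hχ : IsCharacter G χ) (g : G) [Fintype (zpowers g)] :
    ∃ m : ℕ, ∑ u : zpowers g, χ u = (Nat.card (zpowers g) : ℂ) * m :=
  sum_all (E := zpowers g) (Characters.Clifford.isCharacter_restrict (zpowers g) hχ)

theorem sum_const {χ : G → ℂ} {z : G} [Fintype (zpowers z)] {a : ℂ}
    (ha : ∀ u ∈ zpowers z, u ≠ 1 → χ u = a) :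
    ∑ u : zpowers z, χ u = (Nat.card (zpowers z) : ℂ) * a + (χ 1 - a) := by
  classical
  have h : ∀ u : zpowers z, χ u = a + if u = 1 then (χ 1 - a) else 0 := by
    intro u
    by_cases hu : u = 1
    · subst hu
      rw [if_pos rfl, Subgroup.coe_one]; ring
    · rw [if_neg hu, add_zero]
      exact ha u u.2 fun h => hu (Subtype.ext h)
  rw [Finset.sum_congr rfl fun u _ => h u, Finset.sum_add_distrib, Finset.sum_const, Finset.card_univ,
    Finset.sum_ite_eq' Finset.univ (1 : zpowers z), if_pos (Finset.mem_univ _), nsmul_eq_mul,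
    Nat.card_eq_fintype_card]

/-- the value at `z` is an integer -/
theorem exists_int {p : ℕ} (hp : p.Prime) {z : G} (hz : orderOf z = p) (hc : ∀ u ∈ zpowers z, u ≠ 1 → IsConj z u)
    {χ : G → ℂ} (hχ : IsCharacter G χ) {d : ℤ} (hd : χ 1 = d) : ∃ a : ℤ, χ z = a := by
  classical
  have := Fintype.ofFinite (zpowers z)
  obtain ⟨m, hm⟩ := sum_zpowers hχ z
  have h1 := sum_const (χ := χ) (z := z) (a := χ z) fun u hu hu1 => (apply_conj hχ (hc u hu hu1)).symm
  rw [hm, Nat.card_zpowers, hz, hd] at h1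
  apply Characters.GaloisBasic.exists_int_of_isIntegral (Characters.GaloisBasic.isIntegral_apply hχ z)
  have h0 : ((p : ℂ) - 1) ≠ 0 := by
    have h3 : ((p - 1 : ℕ) : ℂ) ≠ 0 := by
      have := hp.two_le
      exact_mod_cast (by omega : p - 1 ≠ 0)
    rw [Nat.cast_sub hp.one_lt.le, Nat.cast_one] at h3
    exact h3
  refine ⟨(p * m - d) / (p - 1), ?_⟩
  push_cast
  rw [eq_div_iff h0]
  linear_combination -h1

/-- **`p² ∣ χ(1) - χ(z)`** -/
theorem sq_dvd {p : ℕ} (hp : p.Prime) {z g t : G} (hz : orderOf z = p) (hg : orderOf g = p)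
    (hgz : g * z = z * g) (htz : t * z = z * t) (ht : t * g * t⁻¹ = g * z)
    {χ : G → ℂ} (hχ : IsCharacter G χ) {d a : ℤ} (hd : χ 1 = d)
    (ha : ∀ v ∈ zpowers z, v ≠ 1 → χ v = a) : (p : ℤ) ^ 2 ∣ d - a := by
  classical
  have i1 := Fintype.ofFinite (zpowers z)
  have i2 := Fintype.ofFinite (zpowers g)
  have hcm : Commute g z := hgz
  have hcc : ∀ (u : zpowers g) (v : zpowers z), Commute (u : G) (v : G) := by
    rintro ⟨u, k, rfl⟩ ⟨v, l, rfl⟩
    exact (hcm.zpow_left k).zpow_right l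
  -- `t ^ k` moves `g ^ i` to `g ^ i * z ^ (i k)`
  have hconj : ∀ (u : zpowers g) (v : zpowers z), u ≠ 1 → χ ((u : G) * v) = χ u := by
    rintro ⟨u, hu⟩ ⟨v, hv⟩ hu1
    obtain ⟨i, rfl⟩ := mem_powers_iff_mem_zpowers.2 hu
    obtain ⟨j, rfl⟩ := mem_powers_iff_mem_zpowers.2 hv
    have hi : ¬ p ∣ i := by
      rintro ⟨l, rfl⟩
      apply hu1
      apply Subtype.ext
      show g ^ (p * l) = 1
      rw [pow_mul, ← hg, pow_orderOf_eq_one, one_pow]
    -- `k` with `i k = j` modulo `p`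
    obtain ⟨k, hk⟩ : ∃ k : ℕ, i * k ≡ j [MOD p] := by
      obtain ⟨m, hm⟩ := Nat.exists_mul_mod_eq_one_of_coprime (((Nat.Prime.coprime_iff_not_dvd hp).2 hi).symm) hp.one_lt
      refine ⟨m * j, ?_⟩
      rw [← mul_assoc]
      calc i * m * j ≡ 1 * j [MOD p] := Nat.ModEq.mul_right j (by
            unfold Nat.ModEq
            rw [hm.2, Nat.mod_eq_of_lt hp.one_lt])
        _ = j := one_mul j
    have htz' : Commute t z := htz
    have h1 : ∀ k : ℕ, t ^ k * g * (t ^ k)⁻¹ = g * z ^ k := by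
      intro k
      induction k with
      | zero => simp
      | succ k ih =>
        rw [pow_succ', _root_.mul_inv_rev]
        calc t * t ^ k * g * ((t ^ k)⁻¹ * t⁻¹) = t * (t ^ k * g * (t ^ k)⁻¹) * t⁻¹ := by group
          _ = t * (g * z ^ k) * t⁻¹ := by rw [ih]
          _ = (t * g * t⁻¹) * (t * z ^ k * t⁻¹) := by group
          _ = (g * z) * z ^ k := by rw [ht, (htz'.pow_right k).eq, mul_inv_cancel_right]
          _ = _ := by rw [mul_assoc, pow_succ']
    have h2 : t ^ k * g ^ i * (t ^ k)⁻¹ = g ^ i * z ^ j := by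
      rw [← conj_pow, h1, (hcm.pow_right k).mul_pow, ← pow_mul]
      congr 1
      rw [pow_eq_pow_iff_modEq, hz, mul_comm]
      exact hk
    show χ (g ^ i * z ^ j) = χ (g ^ i)
    exact (apply_conj hχ (isConj_iff.2 ⟨t ^ k, h2⟩)).symm
  -- the sum over `⟨g⟩ × ⟨z⟩`
  let φ : (zpowers g) × (zpowers z) →* G := MonoidHom.noncommCoprod (zpowers g).subtype (zpowers z).subtype hcc
  obtain ⟨m2, hm2⟩ := sum_all (E := (zpowers g) × (zpowers z)) (isCharacter_comp φ hχ)
  obtain ⟨m1, hm1⟩ := sum_zpowers hχ g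
  have h3 : ∑ x : (zpowers g) × (zpowers z), (χ ∘ φ) x =
      ∑ u : zpowers g, ∑ v : zpowers z, χ ((u : G) * v) := by
    rw [Fintype.sum_prod_type]
    rfl
  have h4 : ∀ u : zpowers g, ∑ v : zpowers z, χ ((u : G) * v) = (p : ℂ) * χ u +
      if u = 1 then ((p : ℂ) * a + (d - a) - (p : ℂ) * d) else 0 := by
    intro u
    by_cases hu : u = 1
    · subst hu
      rw [if_pos rfl, Subgroup.coe_one]
      simp only [one_mul]
      rw [sum_const ha, Nat.card_zpowers, hz, hd]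
      ring
    · rw [if_neg hu, add_zero, Finset.sum_congr rfl fun v _ => hconj u v hu, Finset.sum_const, Finset.card_univ,
        nsmul_eq_mul, ← Nat.card_eq_fintype_card, Nat.card_zpowers, hz]
  rw [h3, Finset.sum_congr rfl fun u _ => h4 u, Finset.sum_add_distrib, ← Finset.mul_sum, hm1,
    Finset.sum_ite_eq' Finset.univ (1 : zpowers g), if_pos (Finset.mem_univ _), Nat.card_prod, Nat.card_zpowers,
    Nat.card_zpowers, hz, hg] at hm2
  have h5 : ((p : ℤ) - 1) * (d - a) = (p : ℤ) ^ 2 * (m1 - m2) := by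
    have h6 : ((((p : ℤ) - 1) * (d - a) : ℤ) : ℂ) = (((p : ℤ) ^ 2 * (m1 - m2) : ℤ) : ℂ) := by
      push_cast at hm2 ⊢
      linear_combination -hm2
    exact_mod_cast h6
  have h6 : IsCoprime ((p : ℤ) ^ 2) ((p : ℤ) - 1) := by
    apply IsCoprime.pow_left
    exact ⟨1, -1, by ring⟩
  exact h6.dvd_of_dvd_mul_left (h5 ▸ dvd_mul_right _ _)

end Cfsg.Agent.H307.HT
end

-- part: H307/HT/TiCube
section
/-!
# S4933: a TI Sylow subgroup of order `p³` (helper307, after helper608's `J₄`)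

* `TC p z P` : `z` central of order `p` in `P`, `|P| = p³`, the conjugates of `z` commuting with some `u ≠ 1` in `P` lie in
  `⟨z⟩`;
* `TC.n2_mod` : `N₂(z) ≡ p - 2` modulo `p³`; `TC.isTI` : `P` is TI;
* `TC.exists_deg`, `TC.mem_principal`.
-/

set_option autoImplicit false
set_option linter.unusedSectionVars false

open Cfsg Subgroup
open scoped Pointwise

namespace Cfsg.Agent.H307.HT

open Cfsg.Agent.H608.HT (N2 moment)

universe u

/-- a TI subgroup of order `p³` and its centre -/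
structure TC (p : ℕ) {G : Type u} [Group G] (z : G) (P : Subgroup G) : Prop where
  card_P : Nat.card P = p ^ 3
  ord_z : orderOf z = p
  z_comm : ∀ u ∈ P, z * u = u * z
  conj_z : ∀ u ∈ zpowers z, u ≠ 1 → IsConj z u
  key : ∀ a u : G, IsConj z a → u ∈ P → u ≠ 1 → a * u = u * a → a ∈ zpowers z
  mem_P : ∀ g : G, g * z = z * g → g ^ (p ^ 3) = 1 → g ∈ P

theorem n2_eq {G : Type u} [Group G] (z : G) : N2 z = Nat.card {a : G // IsConj z a ∧ IsConj z (a⁻¹ * z)} := by
  refine Nat.card_congr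
    { toFun := fun q => ⟨q.1.1, q.2.1, ?_⟩
      invFun := fun a => ⟨(a.1, a.1⁻¹ * z), a.2.1, a.2.2, mul_inv_cancel_left _ _⟩
      left_inv := fun q => ?_
      right_inv := fun a => rfl }
  · have h := q.2.2.2
    have h2 : q.1.1⁻¹ * z = q.1.2 := inv_mul_eq_iff_eq_mul.2 h.symm
    rw [h2]
    exact q.2.2.1
  · apply Subtype.ext
    have h := q.2.2.2
    have h2 : q.1.1⁻¹ * z = q.1.2 := inv_mul_eq_iff_eq_mul.2 h.symm
    exact Prod.ext rfl h2

theorem isConj_conj {G : Type u} [Group G] {z a g : G} (h : IsConj z a) : IsConj z (g * a * g⁻¹) :=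
  h.trans (isConj_iff.2 ⟨g, rfl⟩)

variable {G : Type u} [Group G] [Finite G] {p : ℕ} {z : G} {P : Subgroup G}

namespace TC

variable (E : TC p z P)

include E

theorem z_ne (hp : p.Prime) : z ≠ 1 := by
  intro h
  have := E.ord_z
  rw [h, orderOf_one] at this
  exact hp.one_lt.ne this

theorem card_self (hp : p.Prime) (hp3 : 3 ≤ p) :
    Nat.card {a : G // (IsConj z a ∧ IsConj z (a⁻¹ * z)) ∧ a ∈ zpowers z} = p - 2 := by
  classical
  have := Fintype.ofFinite G
  have h3 : Nat.card {a : G // (IsConj z a ∧ IsConj z (a⁻¹ * z)) ∧ a ∈ zpowers z} =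
      Nat.card {a : zpowers z // a ≠ 1 ∧ a ≠ ⟨z, mem_zpowers _⟩} := by
    refine Nat.card_congr
      { toFun := fun a => ⟨⟨a.1, a.2.2⟩, ?_, ?_⟩
        invFun := fun a => ⟨a.1, ⟨?_, ?_⟩, a.1.2⟩
        left_inv := fun a => rfl
        right_inv := fun a => rfl }
    · intro h
      have h4 : a.1 = 1 := congrArg Subtype.val h
      have h5 := a.2.1.1
      rw [h4] at h5
      have h6 := H34.TI.orderOf_conj h5
      rw [E.ord_z, orderOf_one] at h6
      omega
    · intro h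
      have h4 : a.1 = z := congrArg Subtype.val h
      have h5 := a.2.1.2
      rw [h4, inv_mul_cancel] at h5
      have h6 := H34.TI.orderOf_conj h5
      rw [E.ord_z, orderOf_one] at h6
      omega
    · exact E.conj_z a.1 a.1.2 fun h => a.2.1 (Subtype.ext h)
    · refine E.conj_z _ (mul_mem (inv_mem a.1.2) (mem_zpowers _)) fun h => a.2.2 ?_
      apply Subtype.ext
      rw [inv_mul_eq_one] at h
      exact h
  rw [h3, Nat.card_eq_fintype_card, Fintype.card_subtype]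
  have h4 : (Finset.univ.filter fun a : zpowers z => a ≠ 1 ∧ a ≠ ⟨z, mem_zpowers _⟩) =
      (Finset.univ.erase 1).erase ⟨z, mem_zpowers _⟩ := by
    ext a
    simp only [Finset.mem_filter, Finset.mem_univ, true_and, Finset.mem_erase, and_true]
    exact and_comm
  rw [h4, Finset.card_erase_of_mem, Finset.card_erase_of_mem (Finset.mem_univ _), Finset.card_univ,
    ← Nat.card_eq_fintype_card, Nat.card_zpowers, E.ord_z]
  · omega
  rw [Finset.mem_erase]
  refine ⟨fun h => ?_, Finset.mem_univ _⟩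
  have h5 : z = 1 := congrArg Subtype.val h
  exact E.z_ne hp h5

/-- **`N₂(z)` modulo `p³`** -/
theorem n2_mod (hp : p.Prime) (hp3 : 3 ≤ p) : ∃ t : ℕ, N2 z = p - 2 + p ^ 3 * t := by
  classical
  have := Fintype.ofFinite G
  rw [n2_eq]
  let S : Type u := {a : G // (IsConj z a ∧ IsConj z (a⁻¹ * z)) ∧ a ∉ zpowers z}
  have hact : ∀ (d : P) (a : G), ((IsConj z a ∧ IsConj z (a⁻¹ * z)) ∧ a ∉ zpowers z) →
      ((IsConj z (d * a * (d : G)⁻¹) ∧ IsConj z ((d * a * (d : G)⁻¹)⁻¹ * z)) ∧ d * a * (d : G)⁻¹ ∉ zpowers z) := by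
    rintro d a ⟨⟨h1, h2⟩, h3⟩
    have hdz : z * d = d * z := E.z_comm d d.2
    refine ⟨⟨isConj_conj h1, ?_⟩, ?_⟩
    · have h4 : (d * a * (d : G)⁻¹)⁻¹ * z = d * (a⁻¹ * z) * (d : G)⁻¹ := by
        calc (d * a * (d : G)⁻¹)⁻¹ * z = d * a⁻¹ * (d : G)⁻¹ * (z * d) * (d : G)⁻¹ := by group
          _ = d * a⁻¹ * (d : G)⁻¹ * (d * z) * (d : G)⁻¹ := by rw [hdz]
          _ = _ := by group
      rw [h4]
      exact isConj_conj h2
    · intro h4
      apply h3
      obtain ⟨k, hk⟩ := mem_zpowers_iff.1 h4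
      refine mem_zpowers_iff.2 ⟨k, ?_⟩
      have h5 : Commute (z ^ k) (d : G) := (show Commute z (d : G) from hdz).zpow_left k
      have h6 : a = (d : G)⁻¹ * (z ^ k) * d := by rw [hk]; group
      rw [h6, mul_assoc, h5.eq, inv_mul_cancel_left]
  let act : MulAction P S :=
    { smul := fun d s => ⟨d * s.1 * (d : G)⁻¹, hact d s.1 s.2⟩
      one_smul := fun s => Subtype.ext (by
        show ((1 : P) : G) * s.1 * ((1 : P) : G)⁻¹ = s.1
        simp)
      mul_smul := fun c d s => Subtype.ext (by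
        show ((c * d : P) : G) * s.1 * ((c * d : P) : G)⁻¹ = c * (d * s.1 * (d : G)⁻¹) * (c : G)⁻¹
        rw [coe_mul, mul_inv_rev]
        simp only [mul_assoc]) }
  have hdvd : Nat.card P ∣ Nat.card S := by
    refine H23.FreeAct.card_dvd_of_free fun d s hds => ?_
    by_contra hd
    have h1 : (d : G) * s.1 * (d : G)⁻¹ = s.1 := congrArg Subtype.val hds
    have h2 : s.1 * d = d * s.1 := by
      rw [mul_inv_eq_iff_eq_mul] at h1
      exact h1.symm
    exact s.2.2 (E.key _ _ s.2.1.1 d.2 (fun h => hd (Subtype.ext h)) h2)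
  rw [E.card_P] at hdvd
  obtain ⟨t, ht⟩ := hdvd
  refine ⟨t, ?_⟩
  have h1 : Nat.card {a : G // IsConj z a ∧ IsConj z (a⁻¹ * z)} =
      Nat.card {a : G // (IsConj z a ∧ IsConj z (a⁻¹ * z)) ∧ a ∈ zpowers z} + Nat.card S := by
    rw [Nat.card_eq_fintype_card, Nat.card_eq_fintype_card, Nat.card_eq_fintype_card, Fintype.card_subtype,
      Fintype.card_subtype, Fintype.card_subtype,
      ← Finset.filter_filter (fun a : G => IsConj z a ∧ IsConj z (a⁻¹ * z)) (fun a => a ∈ zpowers z),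
      ← Finset.filter_filter (fun a : G => IsConj z a ∧ IsConj z (a⁻¹ * z)) (fun a => a ∉ zpowers z)]
    exact (Finset.card_filter_add_card_filter_not _).symm
  rw [h1, E.card_self hp hp3, ht]

/-- the normalizer of `⟨z⟩` normalizes `P` -/
theorem mem_norm {g : G} (h : g * z * g⁻¹ ∈ zpowers z) : g ∈ normalizer (P : Set G) := by
  have hz : z ∈ zpowers (g * z * g⁻¹) := by
    have h2 : zpowers (g * z * g⁻¹) = zpowers z := by
      refine Subgroup.eq_of_le_of_card_ge (zpowers_le.2 h) ?_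
      rw [Nat.card_zpowers, Nat.card_zpowers]
      exact (H34.TI.orderOf_conj (isConj_iff.2 ⟨g, rfl⟩)).le
    rw [h2]; exact mem_zpowers _
  have hmap : ∀ x ∈ P, g * x * g⁻¹ ∈ P := by
    intro x hx
    refine E.mem_P _ ?_ ?_
    · obtain ⟨k, hk⟩ := mem_zpowers_iff.1 hz
      have h3 : Commute (g * x * g⁻¹) (g * z * g⁻¹) := by
        show (g * x * g⁻¹) * (g * z * g⁻¹) = (g * z * g⁻¹) * (g * x * g⁻¹)
        have h4 := E.z_comm x hx
        calc (g * x * g⁻¹) * (g * z * g⁻¹) = g * (x * z) * g⁻¹ := by group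
          _ = g * (z * x) * g⁻¹ := by rw [h4]
          _ = _ := by group
      rw [← hk]
      exact (h3.zpow_right k).eq
    · rw [conj_pow]
      have h3 : x ^ (p ^ 3) = 1 := by
        rw [← E.card_P]
        have := pow_card_eq_one' (x := (⟨x, hx⟩ : P))
        exact congrArg Subtype.val this
      rw [h3, mul_one, mul_inv_cancel]
  rw [Subgroup.mem_normalizer_iff]
  intro x
  refine ⟨hmap x, fun hx => ?_⟩
  have hinj : Function.Injective (fun y : P => (⟨g * y * g⁻¹, hmap y y.2⟩ : P)) := by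
    intro a b hab
    have h3 : g * (a : G) * g⁻¹ = g * b * g⁻¹ := congrArg Subtype.val hab
    exact Subtype.ext (by simpa only [_root_.SetLike.coe_eq_coe, _root_.mul_left_inj, _root_.mul_right_inj] using h3)
  obtain ⟨y, hy⟩ := Finite.surjective_of_injective hinj ⟨g * x * g⁻¹, hx⟩
  have h3 : g * (y : G) * g⁻¹ = g * x * g⁻¹ := congrArg Subtype.val hy
  have h4 : (y : G) = x := by simpa only [_root_.mul_left_inj, _root_.mul_right_inj] using h3
  rw [← h4]; exact y.2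

/-- **`P` is TI** -/
theorem isTI : H34.TI.IsTI P := by
  intro g hg
  rw [eq_bot_iff]
  rintro u ⟨hu, hu'⟩
  rw [mem_bot]
  by_contra hu1
  have h1 : g⁻¹ * u * g ∈ P := by
    have h2 := Subgroup.mem_pointwise_smul_iff_inv_smul_mem.1 hu'
    rw [← map_inv, MulAut.smul_def, MulAut.conj_apply, inv_inv] at h2
    exact h2
  have h2 : (g * z * g⁻¹) * u = u * (g * z * g⁻¹) := by
    have h3 := E.z_comm _ h1
    calc (g * z * g⁻¹) * u = g * (z * (g⁻¹ * u * g)) * g⁻¹ := by group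
      _ = g * ((g⁻¹ * u * g) * z) * g⁻¹ := by rw [h3]
      _ = _ := by group
  exact hg (E.mem_norm (E.key _ _ (isConj_iff.2 ⟨g, rfl⟩) hu hu1 h2))

/-- some degree is divisible by `p` but not by `p³` -/
theorem exists_deg (hp : p.Prime) (hp3 : 3 ≤ p) {n k : ℕ} (hN : Nat.card G = p ^ 3 * n) (hn : ¬ p ∣ n)
    (hk : (centralizer ({z} : Set G)).index = k) (htest : ¬ (p : ℤ) ^ 3 ∣ (p - 2) - 3 * k - (k : ℤ) ^ 2)
    {g t : G} (hg : orderOf g = p) (hgz : g * z = z * g) (htz : t * z = z * t) (ht : t * g * t⁻¹ = g * z) :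
    ∃ χ : IrrCharacter G, p ∣ charDegree (χ : G → ℂ) ∧ ¬ p ^ 3 ∣ charDegree (χ : G → ℂ) := by
  classical
  have : Fact p.Prime := ⟨hp⟩
  by_contra hcon
  push Not at hcon
  have hdeg : ∀ χ : IrrCharacter G, (χ : G → ℂ) 1 = ((charDegree (χ : G → ℂ) : ℤ) : ℂ) := fun χ => by
    rw [Blocks.Basic.irr_one_eq_charDegree χ.2]; simp
  have hch : ∀ χ : IrrCharacter G, IsCharacter G (χ : G → ℂ) := fun χ => Characters.Core.isIrr_isCharacter χ.2
  have hint : ∀ χ : IrrCharacter G, ∃ a : ℤ, (χ : G → ℂ) z = a := fun χ =>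
    exists_int hp E.ord_z E.conj_z (hch χ) (hdeg χ)
  choose a ha using hint
  obtain ⟨m, hm⟩ := E.n2_mod hp hp3
  have h4 : ¬ p ^ 4 ∣ Nat.card G := by
    rintro ⟨r, hr⟩
    rw [hN, pow_succ p 3, mul_assoc] at hr
    exact hn ⟨r, Nat.eq_of_mul_eq_mul_left (pow_pos hp.pos 3) hr⟩
  have h1 := moment (G := G) p (by rw [hN]; exact dvd_mul_right _ _) h4 (E.z_ne hp) (by rw [E.ord_z]) a ha
    (fun χ => sq_dvd hp E.ord_z hg hgz htz ht (hch χ) (hdeg χ) fun v hv hv1 => by
      rw [← ha χ]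
      exact (apply_conj (hch χ) (E.conj_z v hv hv1)).symm)
    (fun χ => by
      by_cases h : p ∣ charDegree (χ : G → ℂ)
      · exact Or.inr (hcon χ h)
      · exact Or.inl h)
  apply htest
  rw [hk, hm] at h1
  have h5 : (((p - 2 + p ^ 3 * m : ℕ) : ℤ) - 3 * k - (k : ℤ) ^ 2) =
      ((p - 2) - 3 * k - (k : ℤ) ^ 2) + (p : ℤ) ^ 3 * m := by
    have h6 : ((p - 2 : ℕ) : ℤ) = (p : ℤ) - 2 := by
      have : 2 ≤ p := by omega
      push_cast [this]
      ring
    push_cast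
    rw [h6]
    ring
  rw [h5] at h1
  exact (Int.dvd_add_left (dvd_mul_right _ _)).1 h1

/-- the members of positive defect lie in the principal block -/
theorem mem_principal [Fact p.Prime] {n : ℕ} (hN : Nat.card G = p ^ 3 * n) (hn : ¬ p ∣ n)
    {M : Ideal AlgInt} (hM : IsPModular p M) (hC : ∀ Q : Sylow p G, IsPGroup p (centralizer ((Q : Subgroup G) : Set G)))
    (χ : IrrCharacter G) (hχ : ¬ p ^ 3 ∣ charDegree (χ : G → ℂ)) : χ ∈ principalBlock M G := by
  have hp : p.Prime := Fact.out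
  have hMp := Blocks.Local.isPrime_of_isPModular hM
  have hn0 : n ≠ 0 := by
    rintro rfl
    exact hn (dvd_zero _)
  have hv : (Nat.card G).factorization p = 3 := by
    rw [hN, Nat.factorization_mul (pow_ne_zero _ hp.ne_zero) hn0, Finsupp.add_apply, Nat.factorization_pow,
      Finsupp.smul_apply, hp.factorization_self, Nat.factorization_eq_zero_of_not_dvd hn]
    simp
  obtain ⟨Q, hQ⟩ : ∃ Q : Sylow p G, (Q : Subgroup G) = P := by
    have h1 : IsPGroup p P := IsPGroup.of_card (n := 3) E.card_P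
    obtain ⟨P', hP'⟩ := h1.exists_le_sylow
    have h2 : Nat.card (P' : Subgroup G) = p ^ 3 := by
      rw [P'.card_eq_multiplicity, hv]
    exact ⟨P', (Subgroup.eq_of_le_of_card_ge hP' (by rw [h2, E.card_P])).symm⟩
  have hTI : H34.TI.IsTI (Q : Subgroup G) := by rw [hQ]; exact E.isTI
  have hB : IsPBlock M (blockOf M (χ : G → ℂ)) := ⟨χ, rfl⟩
  have hmem : χ ∈ blockOf M (χ : G → ℂ) := Blocks.Basic.mem_blockOf_self χ
  rcases H608.TI.defect_P hM Q hTI hB with h | ⟨χ', h1, h2⟩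
  · obtain ⟨ψ, hψ, -, h4⟩ := H592.Defect.exists_height_zero p hM hB
    have h5 := Cfsg.Agent.S0908.result p M hM _ hB _ h
    rw [Q.card_eq_multiplicity, hv] at h5
    have h6 : blockDefect p (blockOf M (χ : G → ℂ)) = 3 := (Nat.pow_right_injective hp.two_le h5).symm
    rw [h6, hv] at h4
    have h7 : (charDegree (ψ : G → ℂ)).factorization p = 0 := by omega
    have h8 : ¬ p ∣ charDegree (ψ : G → ℂ) := by
      intro h9
      have h10 := (Nat.Prime.dvd_iff_one_le_factorization hp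
        (Blocks.Basic.charDegree_pos ψ.2).ne').1 h9
      omega
    have h9 : ψ ∈ principalBlock M G := H633.Unique.mem_of_centralizer hM Q (hC Q) ψ h8
    have h10 : blockOf M (χ : G → ℂ) = principalBlock M G :=
      Blocks.Basic.isPBlock_eq_of_mem hB Blocks.PrincipalSection.isPBlock_principalBlock hψ h9
    rw [← h10]
    exact hmem
  · exfalso
    rw [h1] at hmem
    have h3 : χ = χ' := hmem
    subst h3
    apply hχ
    have h4 : (charDegree (χ : G → ℂ)).factorization p = 3 := by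
      rw [← hv]
      exact h2
    have h5 := Nat.ordProj_dvd (charDegree (χ : G → ℂ)) p
    rwa [h4] at h5

end TC

end Cfsg.Agent.H307.HT
end

-- part: H307/HT/Glue
section
/-!
# S4933, pairs with `|P| = p³` (helper307): from the degree to `Good`

* `good_of_dvd` : `|G| = p³ n`, `χ` in the principal block of degree divisible by `p`: `Good p a M G` for every `a > 0`;
* `Good.congr` : transport.
-/

set_option autoImplicit false
set_option linter.unusedSectionVars false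

open Cfsg Subgroup

namespace Cfsg.Agent.H307.HT

open Cfsg.Agent.H316.HT
open Cfsg.Agent.Blocks Cfsg.Agent.Blocks.Basic Cfsg.Agent.Blocks.Local

universe u v

theorem sInf_principal {G : Type u} [Group G] (p : ℕ) {M : Ideal AlgInt} (hM : IsPModular p M) :
    sInf ((fun ψ : IrrCharacter G => (charDegree (ψ : G → ℂ)).factorization p) '' principalBlock M G) = 0 := by
  have := isPrime_of_isPModular hM
  rw [Nat.sInf_eq_zero]
  left
  refine ⟨⟨fun _ => 1, isIrrCharacter_one⟩, PrincipalSection.one_mem_principalBlock, ?_⟩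
  show (charDegree (fun _ : G => (1 : ℂ))).factorization p = 0
  rw [charDegree_of_eq (n := 1) (by simp)]
  simp

theorem height_principal {G : Type u} [Group G] (p : ℕ) {M : Ideal AlgInt} (hM : IsPModular p M) (χ : G → ℂ) :
    blockHeight p (principalBlock M G) χ = (charDegree χ).factorization p := by
  rw [blockHeight_def, sInf_principal p hM, Nat.sub_zero]

theorem defect_principal {G : Type u} [Group G] (p : ℕ) {M : Ideal AlgInt} (hM : IsPModular p M) :
    blockDefect p (principalBlock M G) = (Nat.card G).factorization p := by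
  unfold blockDefect
  rw [sInf_principal p hM, Nat.sub_zero]

/-- **`|G| = p³ n`: a character of degree divisible by `p` in the principal block is enough.** -/
theorem good_of_dvd {G : Type u} [Group G] [Finite G] {p : ℕ} [Fact p.Prime] {M : Ideal AlgInt} (hM : IsPModular p M)
    {n : ℕ} (hN : Nat.card G = p ^ 3 * n) (hn : ¬ p ∣ n)
    (h : ∃ χ ∈ principalBlock M G, p ∣ charDegree (χ : G → ℂ)) {a : ℕ} (ha : 0 < a) : Good p a M G := by
  have hp : p.Prime := Fact.out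
  have hMp := isPrime_of_isPModular hM
  obtain ⟨χ, hχ, hd⟩ := h
  have hn0 : n ≠ 0 := by
    rintro rfl
    exact hn (dvd_zero _)
  have hv : (Nat.card G).factorization p = 3 := by
    rw [hN, Nat.factorization_mul (pow_ne_zero _ hp.ne_zero) hn0, Finsupp.add_apply, Nat.factorization_pow,
      Finsupp.smul_apply, hp.factorization_self, Nat.factorization_eq_zero_of_not_dvd hn]
    simp
  have h1 := ((S4710.result p M hM _ PrincipalSection.isPBlock_principalBlock 3
    (by rw [defect_principal p hM, hv])).2 χ hχ).2 (by norm_num)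
  rw [height_principal p hM] at h1
  have h2 : 1 ≤ (charDegree (χ : G → ℂ)).factorization p :=
    (Nat.Prime.dvd_iff_one_le_factorization hp (charDegree_pos χ.2).ne').1 hd
  exact ⟨χ, hχ, by unfold vd; omega, by unfold vd; omega⟩

theorem good_congr {G : Type u} [Group G] {H : Type v} [Group H] (e : G ≃* H) {p a : ℕ} {M : Ideal AlgInt}
    (h : Good p a M G) : Good p a M H := by
  obtain ⟨χ, h1, h2, h3⟩ := h
  refine ⟨H649.irrMap e χ, ?_, ?_, ?_⟩
  · rw [← H649.blkMap_principalBlock e, H649.irrMap_mem_blkMap]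
    exact h1
  · unfold vd at h2 ⊢
    rwa [H649.charDegree_irrMap]
  · unfold vd at h3 ⊢
    rwa [H649.charDegree_irrMap]

/-- if the simple group is good for every `a`, the row `RowIn` holds -/
theorem rowIn_of {p : ℕ} {G : Type u} [Group G] (h : ∀ M : Ideal AlgInt, IsPModular p M → ∀ a : ℕ, 0 < a → Good p a M G)
    {S : Type v} [Group S] (e : G ≃* S) : RowIn p S := fun M hM _ a ha _ => good_congr e (h M hM a ha)

end Cfsg.Agent.H307.HT
end

-- part: H307/HT/McL5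
section
/-!
# S4933: `McL`, `p = 5` (helper307)
-/

set_option autoImplicit false
set_option linter.unusedSectionVars false

open Cfsg Subgroup
open scoped commutatorElement

namespace Cfsg.Agent.H307.HT.McL5

open Cfsg.Agent.McLType.X275 Cfsg.Agent.McLType.Gens Cfsg.Agent.McLType.Model Cfsg.Agent.H58.McLOdd
open Cfsg.Agent.H686.Odd.McL Cfsg.Agent.H35.TI Cfsg.Agent.H316.HT

theorem conj_c {u : G1} (hu : u ∈ zpowers c) (hu1 : u ≠ 1) : IsConj c u := by
  have h5 : c ^ 5 = 1 := by rw [← order_c, pow_orderOf_eq_one]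
  obtain ⟨k, rfl⟩ := mem_powers_iff_mem_zpowers.2 hu
  have hc := Cfsg.Agent.H729.TI.hc
  have red : ∀ m : ℕ, c ^ m = c ^ (m % 5) := fun m => by
    conv_lhs => rw [← Nat.div_add_mod m 5, pow_add, pow_mul, h5, one_pow, one_mul]
  have h1 : IsConj c (c ^ 2) := isConj_iff.2 ⟨_, hc⟩
  have h2 : IsConj (c ^ 2) (c ^ 4) := isConj_iff.2 ⟨wd Cfsg.Agent.H729.TI.h14, by rw [← conj_pow, hc, ← pow_mul]⟩
  have h3 : IsConj (c ^ 4) (c ^ 3) := isConj_iff.2 ⟨wd Cfsg.Agent.H729.TI.h14, by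
    rw [← conj_pow, hc, ← pow_mul, red]⟩
  show IsConj c (c ^ k)
  rw [red k]
  have h6 : k % 5 = 0 ∨ k % 5 = 1 ∨ k % 5 = 2 ∨ k % 5 = 3 ∨ k % 5 = 4 := by omega
  rcases h6 with h6 | h6 | h6 | h6 | h6
  · exfalso
    apply hu1
    show c ^ k = 1
    rw [red k, h6, pow_zero]
  all_goals rw [h6]
  · rw [pow_one]
  · exact h1
  · exact (h1.trans h2).trans h3
  · exact h1.trans h2

theorem z_comm {u : G1} (hu : u ∈ P5) : c * u = u * c :=
  (mem_centralizer_singleton_iff.1 (closure_le_c hu)).symm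

theorem pow_five_of_conj {x : G1} (hx : IsConj c x) : x ^ 5 = 1 := by
  have h : orderOf x = 5 := by rw [← H34.TI.orderOf_conj hx, order_c]
  rw [← h, pow_orderOf_eq_one]

theorem mem_of_comm_c {x : G1} (hx : IsConj c x) (h : x * c = c * x) : x ∈ zpowers c := by
  by_contra hcon
  have h1 : x ∈ P5 := mem_P5 h (by rw [show (125 : ℕ) = 5 * 25 by norm_num, pow_mul, pow_five_of_conj hx, one_pow])
  have h2 := card_cent_noncentral h1 hcon
  obtain ⟨w, hw⟩ := isConj_iff.1 hx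
  rw [← hw, card_cent_conj, Cfsg.Agent.H35.TI.card_c, card_a] at h2
  omega

theorem key {x u : G1} (hx : IsConj c x) (hu : u ∈ P5) (hu1 : u ≠ 1) (hxu : x * u = u * x) : x ∈ zpowers c := by
  apply mem_of_comm_c hx
  by_cases h : u ∈ zpowers c
  · have hz : c ∈ zpowers u := by
      have h1 : orderOf u = 5 := by rw [← H34.TI.orderOf_conj (conj_c h hu1), order_c]
      have h2 : zpowers u = zpowers c := by
        refine Subgroup.eq_of_le_of_card_ge (zpowers_le.2 h) ?_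
        rw [Nat.card_zpowers, Nat.card_zpowers, h1, order_c]
      rw [h2]
      exact mem_zpowers _
    obtain ⟨k, hk⟩ := mem_zpowers_iff.1 hz
    rw [← hk]
    exact ((show Commute x u from hxu).zpow_right k).eq
  · have h1 : Nat.card (centralizer ({u} : Set G1)) = 5 ^ 2 := by
      rw [card_cent_noncentral hu h, card_a]
      norm_num
    have : Fact (Nat.Prime 5) := ⟨by norm_num⟩
    have hab := (IsPGroup.isMulCommutative_of_card_eq_prime_sq h1).is_comm.comm
      ⟨x, mem_centralizer_singleton_iff.2 hxu⟩ ⟨c, mem_centralizer_singleton_iff.2 (z_comm hu)⟩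
    exact congrArg Subtype.val hab

theorem tc : TC 5 c P5 where
  card_P := by rw [card_P5]; norm_num
  ord_z := order_c
  z_comm := fun u hu => z_comm hu
  conj_z := fun u hu hu1 => conj_c hu hu1
  key := fun x u hx hu hu1 h => key hx hu hu1 h
  mem_P := fun g hg h => mem_P5 hg (by rw [show (125 : ℕ) = 5 ^ 3 by norm_num]; exact h)

theorem order_b : orderOf b = 5 := by
  have : Fact (Nat.Prime 5) := ⟨by norm_num⟩
  refine orderOf_eq_prime b_pow fun h => c_ne ?_
  rw [c, h, commutatorElement_def]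
  group

theorem rel : a * b * a⁻¹ = b * c := by
  have h : b * c = c * b := (z_comm b_mem).symm
  rw [h, c, commutatorElement_def]
  group

theorem index_c : (centralizer ({c} : Set G1)).index = 1197504 := by
  have h := (centralizer ({c} : Set G1)).card_mul_index
  rw [Cfsg.Agent.H35.TI.card_c, card_G1] at h
  omega

theorem card_eq : Nat.card G1 = 5 ^ 3 * 7185024 := by rw [card_G1]; norm_num

theorem exists_deg : ∃ χ : IrrCharacter G1, 5 ∣ charDegree (χ : G1 → ℂ) ∧ ¬ 5 ^ 3 ∣ charDegree (χ : G1 → ℂ) :=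
  tc.exists_deg (by norm_num) (by norm_num) card_eq (by norm_num) index_c (by norm_num) order_b
    (z_comm b_mem).symm (z_comm a_mem).symm rel

theorem pgroup_cent (Q : Sylow 5 G1) : IsPGroup 5 (centralizer ((Q : Subgroup G1) : Set G1)) := by
  have : Fact (Nat.Prime 5) := ⟨by norm_num⟩
  have hP : IsPGroup 5 P5 := IsPGroup.of_card (n := 3) (by rw [card_P5]; norm_num)
  obtain ⟨R, hR⟩ := hP.exists_le_sylow
  obtain ⟨g, hg⟩ := MulAction.exists_smul_eq G1 R Q
  have ha : g * a * g⁻¹ ∈ (Q : Subgroup G1) := by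
    rw [← hg]
    exact ⟨a, hR a_mem, rfl⟩
  have h1 : Nat.card (centralizer ({g * a * g⁻¹} : Set G1)) = 5 ^ 2 := by
    rw [card_cent_conj, card_a]
    norm_num
  have h2 : IsPGroup 5 (centralizer ({g * a * g⁻¹} : Set G1)) := IsPGroup.of_card h1
  exact h2.to_le (centralizer_le (Set.singleton_subset_iff.2 ha))

/-- **(McL, 5)** -/
theorem exists_pos [Fact (Nat.Prime 5)] {M : Ideal AlgInt} (hM : IsPModular 5 M) :
    ∃ χ ∈ principalBlock M G1, 5 ∣ charDegree (χ : G1 → ℂ) ∧ ¬ 5 ^ 3 ∣ charDegree (χ : G1 → ℂ) := by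
  obtain ⟨χ, h1, h2⟩ := exists_deg
  exact ⟨χ, tc.mem_principal card_eq (by norm_num) hM pgroup_cent χ h2, h1, h2⟩

/-- **`RowIn 5 McL`** -/
theorem rowIn {S : Type} [Group S] (h : Spor.IsoMcL S) : RowIn 5 S := by
  have : Fact (Nat.Prime 5) := ⟨by norm_num⟩
  obtain ⟨e⟩ := h
  obtain ⟨e'⟩ := isoMcL_G1
  refine rowIn_of (G := G1) (fun M hM a ha => ?_) (e'.trans e.symm)
  obtain ⟨χ, h1, h2, -⟩ := exists_pos hM
  exact good_of_dvd hM card_eq (by norm_num) ⟨χ, h1, h2⟩ ha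

end Cfsg.Agent.H307.HT.McL5
end

-- part: H702/E4/Test
section
/-!
# S4933, pairs with `|P| = p ^ 3`: the fourth moment test (helper702)

`G` finite, `z` a rational element of order `p` in the centre of a nonabelian Sylow subgroup `R` of order `p ^ 3` and
exponent `p`, `C(z)` has one `p`-block, `D = z^G`, `N2`, `N3` the numbers of pairs, triples of elements of `D` with product
`z`.  If the principal block has only characters of degree prime to `p` then `p ^ 3 ∣ 3 D ^ 2 - 3 D N2 + N3`.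
-/

set_option autoImplicit false
set_option linter.unusedSectionVars false

namespace Cfsg.Agent.H702.E4

open Cfsg Cfsg.Agent.Characters Cfsg.Agent.Characters.Core Cfsg.Agent.Characters.ClassMul Subgroup
open scoped ComplexConjugate BigOperators

universe u

/-! ### the congruence modulo `p ^ 2` -/

section congr

variable {G : Type u} [Group G] [Finite G]

theorem sum_zpowers {p : ℕ} [hp : Fact p.Prime] {z : G} (hz : orderOf z = p)
    (hrat : ∀ k : ℕ, ¬ p ∣ k → IsConj z (z ^ k)) {χ : G → ℂ} (hχ : IsCharacter G χ) [Fintype (zpowers z)] :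
    ∑ c : zpowers z, χ c = χ 1 + ((p : ℂ) - 1) * χ z := by
  classical
  have h1 : ∀ c ∈ (Finset.univ : Finset (zpowers z)).erase 1, χ c = χ z := by
    intro c hc
    have hc1 : c ≠ 1 := (Finset.mem_erase.1 hc).1
    obtain ⟨k, hk⟩ := mem_powers_iff_mem_zpowers.2 c.2
    have hk' : z ^ k = (c : G) := hk
    have hpk : ¬ p ∣ k := by
      intro hd
      apply hc1
      apply Subtype.ext
      rw [← hk']
      show z ^ k = 1
      rw [← orderOf_dvd_iff_pow_eq_one, hz]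
      exact hd
    obtain ⟨g, hg⟩ := isConj_iff.1 (hrat k hpk)
    rw [← hk', ← hg]
    exact isCharacter_isClassFunction hχ z g
  rw [← Finset.add_sum_erase _ _ (Finset.mem_univ (1 : zpowers z)), Finset.sum_congr rfl h1, Finset.sum_const,
    Finset.card_erase_of_mem (Finset.mem_univ _), Finset.card_univ, ← Nat.card_eq_fintype_card, Nat.card_zpowers, hz,
    nsmul_eq_mul, Nat.cast_sub hp.out.one_le, Nat.cast_one]
  rfl

theorem sum_eq_card {G : Type u} [Group G] [Fintype G] {χ : G → ℂ} (hχ : IsCharacter G χ) :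
    ∃ n : ℕ, ∑ g, χ g = (Nat.card G : ℂ) * n := by
  obtain ⟨n, hn⟩ := classInner_isNat hχ (isCharacter_one (G := G))
  refine ⟨n, ?_⟩
  rw [classInner_def] at hn
  have h2 : (Nat.card G : ℂ) ≠ 0 := by exact_mod_cast Nat.card_pos.ne'
  have h4 : ∑ g : G, χ g * (starRingEnd ℂ) ((1 : G → ℂ) g) = ∑ h : G, χ h :=
    Finset.sum_congr rfl fun g _ => by simp
  rw [h4] at hn
  rw [← hn]
  field_simp

theorem sq_dvd {p : ℕ} [hp : Fact p.Prime] {y z : G} (hy : orderOf y = p) (hz : orderOf z = p) (hyz : y * z = z * y)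
    (hc : ∀ b ∈ zpowers y, b ≠ 1 → ∀ c ∈ zpowers z, IsConj b (b * c))
    (hrat : ∀ k : ℕ, ¬ p ∣ k → IsConj z (z ^ k)) {χ : G → ℂ} (hχ : IsCharacter G χ) {d X : ℤ} (hd : χ 1 = d)
    (hX : χ z = X) : (p : ℤ) ^ 2 ∣ d - X := by
  classical
  have _ := Fintype.ofFinite (zpowers y)
  have _ := Fintype.ofFinite (zpowers z)
  have hcomm : ∀ (b : zpowers y) (c : zpowers z), Commute ((zpowers y).subtype b) ((zpowers z).subtype c) := by
    rintro ⟨_, i, rfl⟩ ⟨_, j, rfl⟩
    exact ((show Commute y z from hyz).zpow_left i).zpow_right j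
  let φ : zpowers y × zpowers z →* G := (zpowers y).subtype.noncommCoprod (zpowers z).subtype hcomm
  have hφ : ∀ b c, φ (b, c) = (b : G) * (c : G) := fun b c => rfl
  obtain ⟨m, hm⟩ := sum_eq_card (isCharacter_comp φ hχ)
  obtain ⟨n, hn⟩ := sum_eq_card (isCharacter_comp (zpowers y).subtype hχ)
  rw [Nat.card_prod, Nat.card_zpowers, Nat.card_zpowers, hy, hz, Fintype.sum_prod_type] at hm
  rw [Nat.card_zpowers, hy] at hn
  have h1 : ∀ b : zpowers y, b ≠ 1 → ∑ c : zpowers z, χ (φ (b, c)) = p * χ b := by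
    intro b hb
    rw [Finset.sum_congr rfl (g := fun _ => χ b), Finset.sum_const, Finset.card_univ, ← Nat.card_eq_fintype_card,
      Nat.card_zpowers, hz, nsmul_eq_mul]
    intro c _
    obtain ⟨g, hg⟩ := isConj_iff.1 (hc b b.2 (fun h => hb (Subtype.ext h)) c c.2)
    rw [hφ, ← hg]
    exact isCharacter_isClassFunction hχ _ g
  have h2 : ∑ b : zpowers y, ∑ c : zpowers z, χ (φ (b, c)) = χ 1 + ((p : ℂ) - 1) * χ z + p * (∑ b : zpowers y, χ b - χ 1) := by
    rw [← Finset.add_sum_erase _ _ (Finset.mem_univ (1 : zpowers y)), ← Finset.add_sum_erase (Finset.univ) (fun b : zpowers y => χ b) (Finset.mem_univ (1 : zpowers y)),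
      Finset.sum_congr rfl (fun b hb => h1 b (Finset.ne_of_mem_erase hb)), ← Finset.mul_sum]
    have h3 : ∑ c : zpowers z, χ (φ (1, c)) = χ 1 + ((p : ℂ) - 1) * χ z := by
      rw [← sum_zpowers hz hrat hχ]
      refine Finset.sum_congr rfl fun c _ => ?_
      rw [hφ]
      simp
    rw [h3]
    simp only [_root_.Finset.mem_univ, _root_.Finset.sum_erase_eq_sub, _root_.OneMemClass.coe_one, _root_.add_sub_cancel]
  have hm' : ∑ b : zpowers y, ∑ c : zpowers z, χ (φ (b, c)) = ((p * p : ℕ) : ℂ) * m := hm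
  have hn' : ∑ b : zpowers y, χ b = (p : ℂ) * n := hn
  rw [h2, hn', hd, hX] at hm'
  have h4 : d + ((p : ℤ) - 1) * X + p * (p * n - d) = (p * p) * m := by
    have : ((d + ((p : ℤ) - 1) * X + p * (p * n - d) : ℤ) : ℂ) = ((p * p * m : ℤ) : ℂ) := by
      push_cast
      push_cast at hm'
      exact hm'
    exact_mod_cast this
  have h5 : (p : ℤ) ^ 2 ∣ ((p : ℤ) - 1) * (d - X) := ⟨n - m, by linear_combination -h4⟩
  have h6 : IsCoprime ((p : ℤ) ^ 2) ((p : ℤ) - 1) := by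
    apply IsCoprime.pow_left
    exact ⟨1, -1, by ring⟩
  exact h6.dvd_of_dvd_mul_left h5

end congr

/-! ### integrality -/

section omega

variable {G : Type u} [Group G] [Finite G]

theorem exists_omega {z : G} (χ : IrrCharacter G) {X : ℤ} (hX : (χ : G → ℂ) z = X) :
    ∃ w : ℤ, (w : ℂ) * (χ : G → ℂ) 1 = ((centralizer ({z} : Set G)).index : ℂ) * (χ : G → ℂ) z := by
  have _ := Fintype.ofFinite G
  obtain ⟨n, hn0, hn⟩ := isIrr_apply_one χ.2
  have h1 : IsIntegral ℤ (((centralizer ({z} : Set G)).index : ℂ) * (χ : G → ℂ) z / (χ : G → ℂ) 1) := by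
    obtain ⟨n, ρ, hρ, hχ⟩ := χ.2
    have := CentralCharacter.isIntegral_index_mul_character_div ρ z
    have hfin : (Module.finrank ℂ (Fin n → ℂ) : ℂ) = (χ : G → ℂ) 1 := by
      rw [← hχ, Representation.char_one]
    rw [hfin, hχ] at this
    exact this
  have hn1 : (χ : G → ℂ) 1 ≠ 0 := isIrr_apply_one_ne_zero χ.2
  obtain ⟨k, hk⟩ := H30.OZ.exists_int h1 (fun σ => by rw [hn, hX]; simp only [_root_.map_div₀, _root_.map_mul, _root_.map_natCast, _root_.map_intCast])
  exact ⟨k, by rw [← hk]; field_simp⟩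

end omega


/-! ### the sums -/

section sums

variable {G : Type u} [Group G] [Finite G]

theorem card_triples (z : G) [Fintype (IrrCharacter G)] :
    (Nat.card {x : G × G × G // IsConj z x.1 ∧ IsConj z x.2.1 ∧ IsConj z x.2.2 ∧ x.1 * x.2.1 * x.2.2 = z} : ℂ) =
      ((centralizer ({z} : Set G)).index : ℂ) ^ 3 / (Nat.card G : ℂ) *
      ∑ χ : IrrCharacter G, (χ : G → ℂ) z ^ 3 * conj ((χ : G → ℂ) z) / (χ : G → ℂ) 1 ^ 2 := by
  classical
  have _ := Fintype.ofFinite G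
  have e1 : (Nat.card {x : G × G × G // IsConj z x.1 ∧ IsConj z x.2.1 ∧ IsConj z x.2.2 ∧ x.1 * x.2.1 * x.2.2 = z} : ℂ) =
      ∑ u with IsConj z u, (Nat.card {q : G × G // IsConj z q.1 ∧ IsConj z q.2 ∧ q.1 * q.2 = u⁻¹ * z} : ℂ) := by
    rw [← Nat.cast_sum, Nat.cast_inj]
    have e2 : Nat.card {x : G × G × G // IsConj z x.1 ∧ IsConj z x.2.1 ∧ IsConj z x.2.2 ∧ x.1 * x.2.1 * x.2.2 = z} =
        Nat.card (Σ u : {u : G // u ∈ Finset.univ.filter (IsConj z)}, {q : G × G // IsConj z q.1 ∧ IsConj z q.2 ∧ q.1 * q.2 = u.1⁻¹ * z}) := by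
      refine Nat.card_congr ⟨fun x => ⟨⟨x.1.1, by simpa only [_root_.isConj_iff, _root_.Finset.univ_filter_exists, _root_.Finset.mem_image, _root_.Finset.mem_univ, _root_.true_and] using x.2.1⟩, ⟨x.1.2, x.2.2.1, x.2.2.2.1, ?_⟩⟩,
        fun y => ⟨(y.1.1, y.2.1), by simpa only [_root_.isConj_iff, _root_.Finset.univ_filter_exists, _root_.Finset.mem_image, _root_.Finset.mem_univ, _root_.true_and] using y.1.2, y.2.2.1, y.2.2.2.1, ?_⟩, fun x => rfl, fun y => rfl⟩
      · rw [eq_inv_mul_iff_mul_eq, ← mul_assoc]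
        exact x.2.2.2.2
      · have := y.2.2.2.2
        rw [eq_inv_mul_iff_mul_eq, ← mul_assoc] at this
        exact this
    rw [e2, Nat.card_sigma, ← Finset.sum_coe_sort (Finset.univ.filter (IsConj z))
      (fun u => Nat.card {q : G × G // IsConj z q.1 ∧ IsConj z q.2 ∧ q.1 * q.2 = u⁻¹ * z})]
  rw [e1, Finset.sum_congr rfl (fun u _ => card_class_mul z z (u⁻¹ * z)), ← Finset.mul_sum, Finset.sum_comm]
  have e3 : ∀ χ : IrrCharacter G, ∑ u with IsConj z u, (χ : G → ℂ) z * (χ : G → ℂ) z * conj ((χ : G → ℂ) (u⁻¹ * z)) / (χ : G → ℂ) 1 =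
      ((centralizer ({z} : Set G)).index : ℂ) * ((χ : G → ℂ) z ^ 3 * conj ((χ : G → ℂ) z) / (χ : G → ℂ) 1 ^ 2) := by
    intro χ
    have h1 : (χ : G → ℂ) 1 ≠ 0 := isIrr_apply_one_ne_zero χ.2
    have e4 : ∀ u ∈ Finset.univ.filter (IsConj z), (χ : G → ℂ) z * (χ : G → ℂ) z * conj ((χ : G → ℂ) (u⁻¹ * z)) / (χ : G → ℂ) 1 =
        (χ : G → ℂ) z * (χ : G → ℂ) z / (χ : G → ℂ) 1 * (χ : G → ℂ) (u * z⁻¹) := by
      intro u _
      rw [← isCharacter_apply_inv (isIrr_isCharacter χ.2) (u⁻¹ * z)]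
      have h2 : (χ : G → ℂ) (u⁻¹ * z)⁻¹ = (χ : G → ℂ) (u * z⁻¹) := by
        rw [← isIrr_isClassFunction χ.2 (u⁻¹ * z)⁻¹ z]
        group
      rw [h2]
      ring
    rw [Finset.sum_congr rfl e4, ← Finset.mul_sum, sum_class_char_mul χ.2, isCharacter_apply_inv (isIrr_isCharacter χ.2) z]
    field_simp
  rw [Finset.sum_congr rfl fun χ _ => e3 χ, ← Finset.mul_sum]
  ring

theorem moment {z : G} (hz1 : z ≠ 1) [Fintype (IrrCharacter G)] {X w d : IrrCharacter G → ℤ} {D N2 N3 : ℕ}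
    (hX : ∀ χ : IrrCharacter G, (χ : G → ℂ) z = X χ) (hd : ∀ χ : IrrCharacter G, (χ : G → ℂ) 1 = d χ)
    (hD : (centralizer ({z} : Set G)).index = D)
    (hw : ∀ χ : IrrCharacter G, w χ * d χ = D * X χ)
    (h2 : Nat.card {x : G × G // IsConj z x.1 ∧ IsConj z x.2 ∧ x.1 * x.2 = z} = N2)
    (h3 : Nat.card {x : G × G × G // IsConj z x.1 ∧ IsConj z x.2.1 ∧ IsConj z x.2.2 ∧ x.1 * x.2.1 * x.2.2 = z} = N3) :
    ∑ χ : IrrCharacter G, d χ ^ 2 * w χ * (D - w χ) ^ 3 = - (D * Nat.card G * (3 * D ^ 2 - 3 * D * N2 + N3)) := by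
  classical
  have hG : (Nat.card G : ℂ) ≠ 0 := by exact_mod_cast Nat.card_pos.ne'
  have hD0 : (D : ℂ) ≠ 0 := by
    rw [← hD]
    exact_mod_cast (centralizer ({z} : Set G)).index_ne_zero_of_finite
  have hd0 : ∀ χ : IrrCharacter G, (d χ : ℂ) ≠ 0 := fun χ => by rw [← hd]; exact isIrr_apply_one_ne_zero χ.2
  have hX' : ∀ χ : IrrCharacter G, (X χ : ℂ) = w χ * d χ / D := fun χ => by
    have h := hw χ
    have h' : (w χ : ℂ) * d χ = D * X χ := by exact_mod_cast h
    rw [h']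
    field_simp
  have s1 : ∑ χ : IrrCharacter G, (d χ : ℂ) ^ 2 * w χ = 0 := by
    have h := Counting.sum_irr_one_mul z
    rw [if_neg hz1] at h
    have h' : ∑ χ : IrrCharacter G, (χ : G → ℂ) 1 * (χ : G → ℂ) z = ∑ χ : IrrCharacter G, (D : ℂ)⁻¹ * ((d χ : ℂ) ^ 2 * w χ) := by
      refine Finset.sum_congr rfl fun χ _ => ?_
      rw [hd, hX, hX']
      field_simp
    rw [h', ← Finset.mul_sum] at h
    exact (mul_eq_zero.1 h).resolve_left (inv_ne_zero hD0)
  have s2 : ∑ χ : IrrCharacter G, (d χ : ℂ) ^ 2 * w χ ^ 2 = D * Nat.card G := by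
    have h := card_class_mul z 1 z
    have h0 : Nat.card {x : G × G // IsConj z x.1 ∧ IsConj (1 : G) x.2 ∧ x.1 * x.2 = z} = 1 := by
      rw [Nat.card_eq_one_iff_unique]
      refine ⟨⟨fun x y => ?_⟩, ⟨⟨(z, 1), IsConj.refl z, IsConj.refl 1, mul_one z⟩⟩⟩
      obtain ⟨⟨x1, x2⟩, -, hx2, hx⟩ := x
      obtain ⟨⟨y1, y2⟩, -, hy2, hy⟩ := y
      simp only at hx2 hy2 hx hy
      rw [isConj_one_right] at hx2 hy2
      subst hx2 hy2
      rw [mul_one] at hx hy
      subst hx hy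
      rfl
    have h1 : (centralizer ({(1 : G)} : Set G)).index = 1 := by
      rw [Subgroup.index_eq_one]
      exact eq_top_iff.2 fun g _ => by rw [mem_centralizer_singleton_iff]; simp
    rw [h0, hD, h1] at h
    have h' : ∑ χ : IrrCharacter G, (χ : G → ℂ) z * (χ : G → ℂ) 1 * conj ((χ : G → ℂ) z) / (χ : G → ℂ) 1 =
        ∑ χ : IrrCharacter G, ((D : ℂ) ^ 2)⁻¹ * ((d χ : ℂ) ^ 2 * w χ ^ 2) := by
      refine Finset.sum_congr rfl fun χ _ => ?_
      have := hd0 χ
      rw [hd, hX, map_intCast, hX']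
      field_simp
    rw [h', ← Finset.mul_sum] at h
    push_cast at h
    field_simp at h
    linear_combination -h
  have s3 : ∑ χ : IrrCharacter G, (d χ : ℂ) ^ 2 * w χ ^ 3 = D * Nat.card G * N2 := by
    have h := card_class_mul z z z
    rw [h2, hD] at h
    have h' : ∑ χ : IrrCharacter G, (χ : G → ℂ) z * (χ : G → ℂ) z * conj ((χ : G → ℂ) z) / (χ : G → ℂ) 1 =
        ∑ χ : IrrCharacter G, ((D : ℂ) ^ 3)⁻¹ * ((d χ : ℂ) ^ 2 * w χ ^ 3) := by
      refine Finset.sum_congr rfl fun χ _ => ?_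
      have := hd0 χ
      rw [hd, hX, map_intCast, hX']
      field_simp
    rw [h', ← Finset.mul_sum] at h
    rw [h]
    field_simp
  have s4 : ∑ χ : IrrCharacter G, (d χ : ℂ) ^ 2 * w χ ^ 4 = D * Nat.card G * N3 := by
    have h := card_triples z
    rw [h3, hD] at h
    have h' : ∑ χ : IrrCharacter G, (χ : G → ℂ) z ^ 3 * conj ((χ : G → ℂ) z) / (χ : G → ℂ) 1 ^ 2 =
        ∑ χ : IrrCharacter G, ((D : ℂ) ^ 4)⁻¹ * ((d χ : ℂ) ^ 2 * w χ ^ 4) := by
      refine Finset.sum_congr rfl fun χ _ => ?_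
      have := hd0 χ
      rw [hd, hX, map_intCast, hX']
      field_simp
    rw [h', ← Finset.mul_sum] at h
    rw [h]
    field_simp
  have key : ((∑ χ : IrrCharacter G, d χ ^ 2 * w χ * (D - w χ) ^ 3 : ℤ) : ℂ) =
      ((- (D * Nat.card G * (3 * D ^ 2 - 3 * D * N2 + N3)) : ℤ) : ℂ) := by
    push_cast
    have e : ∀ χ : IrrCharacter G, (d χ : ℂ) ^ 2 * w χ * (D - w χ) ^ 3 = (D : ℂ) ^ 3 * ((d χ : ℂ) ^ 2 * w χ)
        - 3 * (D : ℂ) ^ 2 * ((d χ : ℂ) ^ 2 * w χ ^ 2) + 3 * D * ((d χ : ℂ) ^ 2 * w χ ^ 3) - (d χ : ℂ) ^ 2 * w χ ^ 4 :=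
      fun χ => by ring
    rw [Finset.sum_congr rfl fun χ _ => e χ, Finset.sum_sub_distrib, Finset.sum_add_distrib, Finset.sum_sub_distrib,
      ← Finset.mul_sum, ← Finset.mul_sum, ← Finset.mul_sum, s1, s2, s3, s4]
    ring
  exact_mod_cast key

end sums

/-! ### the test -/

section test

variable {G : Type u} [Group G] [Finite G]

/-- the local data -/
structure Loc (p : ℕ) (z : G) (R : Subgroup G) : Prop where
  oz : orderOf z = p
  cR : Nat.card R = p ^ 3
  Rz : R ≤ centralizer ({z} : Set G)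
  zR : z ∈ R
  na : ∃ r ∈ R, ∃ s ∈ R, r * s ≠ s * r
  ex : ∀ r ∈ R, r ^ p = 1
  h4 : ¬ p ^ 4 ∣ Nat.card G
  rat : ∀ k : ℕ, ¬ p ∣ k → IsConj z (z ^ k)

variable {p : ℕ} [hp : Fact p.Prime] {z : G} {R : Subgroup G}

omit [Finite G] in
theorem Loc.conj_mul (H : Loc p z R) [Finite R] {v : G} (hv : v ∈ R) (hvz : v ∉ zpowers z) {c : G} (hc : c ∈ zpowers z) :
    ∃ s ∈ R, s * v * s⁻¹ = v * c := by
  have h1 : (⟨z, H.zR⟩ : R) ∈ center R := mem_center_iff.2 fun g => Subtype.ext (mem_centralizer_singleton_iff.1 (H.Rz g.2))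
  have h2 : ¬ ∀ r s : R, r * s = s * r := by
    obtain ⟨r, hr, s, hs, hne⟩ := H.na
    exact fun h => hne (congrArg Subtype.val (h ⟨r, hr⟩ ⟨s, hs⟩))
  have h3 : ∀ u (hu : u ∈ R), (⟨u, hu⟩ : R) ∈ zpowers (⟨z, H.zR⟩ : R) ↔ u ∈ zpowers z := by
    intro u hu
    constructor
    · rintro ⟨k, hk⟩
      exact ⟨k, by simpa using congrArg Subtype.val hk⟩
    · rintro ⟨k, hk⟩
      exact ⟨k, Subtype.ext (by simpa using hk)⟩
  have hcR : c ∈ R := (zpowers_le.2 H.zR) hc
  obtain ⟨s, hs⟩ := H266.M13.exists_conj_mul H.cR (by rw [Subgroup.orderOf_mk, H.oz]) h1 h2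
    (v := ⟨v, hv⟩) (by rw [h3]; exact hvz) (z := ⟨c, hcR⟩) ((h3 c hcR).2 hc)
  exact ⟨s, s.2, congrArg Subtype.val hs⟩

theorem Loc.exists_y (H : Loc p z R) : ∃ y ∈ R, y ∉ zpowers z := by
  by_contra hcon
  push Not at hcon
  obtain ⟨r, hr, s, hs, hne⟩ := H.na
  apply hne
  obtain ⟨i, rfl⟩ := mem_zpowers_iff.1 (hcon r hr)
  exact ((show Commute s z from mem_centralizer_singleton_iff.1 (H.Rz hs)).zpow_right i).symm.eq

theorem Loc.sq_dvd (H : Loc p z R) {χ : G → ℂ} (hχ : IsCharacter G χ) {d X : ℤ} (hd : χ 1 = d)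
    (hX : χ z = X) : (p : ℤ) ^ 2 ∣ d - X := by
  obtain ⟨y, hyR, hyz⟩ := H.exists_y
  have hy1 : y ≠ 1 := fun h => hyz (h ▸ one_mem _)
  have hy : orderOf y = p := orderOf_eq_prime (H.ex y hyR) hy1
  refine E4.sq_dvd hy H.oz (mem_centralizer_singleton_iff.1 (H.Rz hyR)) ?_ H.rat hχ hd hX
  intro b hb hb1 c hc
  have hbR : b ∈ R := (zpowers_le.2 hyR) hb
  have hbz : b ∉ zpowers z := by
    intro h
    apply hyz
    have h2 : zpowers b = zpowers y := by
      refine eq_of_le_of_card_ge (zpowers_le.2 hb) ?_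
      rw [Nat.card_zpowers, Nat.card_zpowers, hy, orderOf_eq_prime (H.ex b hbR) hb1]
    have h3 : y ∈ zpowers b := by rw [h2]; exact mem_zpowers y
    exact (zpowers_le.2 h) h3
  obtain ⟨s, -, hs⟩ := H.conj_mul hbR hbz hc
  exact isConj_iff.2 ⟨s, hs⟩

theorem Loc.fact (H : Loc p z R) : (Nat.card G).factorization p = 3 := by
  have h1 : p ^ 3 ∣ Nat.card G := by rw [← H.cR]; exact card_subgroup_dvd_card R
  have h3 := (hp.out.pow_dvd_iff_le_factorization (Nat.card_pos (α := G)).ne').1 h1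
  have h5 : ¬ 4 ≤ (Nat.card G).factorization p := fun h =>
    H.h4 ((hp.out.pow_dvd_iff_le_factorization (Nat.card_pos (α := G)).ne').2 h)
  omega

theorem Loc.index (H : Loc p z R) : ¬ p ∣ (centralizer ({z} : Set G)).index := by
  intro h
  apply H.h4
  rw [← (centralizer ({z} : Set G)).card_mul_index, pow_succ]
  refine mul_dvd_mul ?_ h
  rw [← H.cR]
  exact card_dvd_of_le H.Rz

/-- **The fourth moment test.** -/
theorem test {M : Ideal AlgInt} (hM : IsPModular p M) (H : Loc p z R)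
    (hC : H104.EB.COne.OneBlock M (centralizer ({z} : Set G))) {D N2 N3 : ℕ}
    (hD : (centralizer ({z} : Set G)).index = D)
    (h2 : Nat.card {x : G × G // IsConj z x.1 ∧ IsConj z x.2 ∧ x.1 * x.2 = z} = N2)
    (h3 : Nat.card {x : G × G × G // IsConj z x.1 ∧ IsConj z x.2.1 ∧ IsConj z x.2.2 ∧ x.1 * x.2.1 * x.2.2 = z} = N3)
    (ht : ¬ ((p : ℤ) ^ 3 ∣ 3 * D ^ 2 - 3 * D * N2 + N3)) :
    ∃ χ : IrrCharacter G, χ ∈ principalBlock M G ∧ p ∣ charDegree (χ : G → ℂ) := by
  classical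
  by_contra hcon
  push Not at hcon
  apply ht
  have _ := Fintype.ofFinite G
  have : Finite (IrrCharacter G) := finite_irr
  have _ := Fintype.ofFinite (IrrCharacter G)
  have hz1 : z ≠ 1 := by
    intro h
    have := H.oz
    rw [h, orderOf_one] at this
    exact hp.out.one_lt.ne this
  have hpG : p ∣ Nat.card G := by
    rw [← H.oz]
    exact _root_.orderOf_dvd_natCard z
  have hval : ∀ χ : IrrCharacter G, ∃ k : ℤ, (χ : G → ℂ) z = k := by
    refine fun χ => H30.OZ.exists_int_val (fun k hk => H.rat k ?_) χ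
    intro hd
    exact hp.out.one_lt.ne' (Nat.eq_one_of_dvd_coprimes hk hd hpG)
  choose X hX using hval
  choose w hw using fun χ : IrrCharacter G => exists_omega χ (hX χ)
  have hdd : ∀ χ : IrrCharacter G, (χ : G → ℂ) 1 = ((charDegree (χ : G → ℂ) : ℤ) : ℂ) := by
    intro χ
    obtain ⟨n, hn0, hn⟩ := isIrr_apply_one χ.2
    have : charDegree (χ : G → ℂ) = n := by
      unfold charDegree
      rw [hn]
      simp
    rw [this, hn]
    simp
  have hw' : ∀ χ : IrrCharacter G, w χ * (charDegree (χ : G → ℂ) : ℤ) = D * X χ := by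
    intro χ
    have h := hw χ
    rw [hdd, hX, hD] at h
    exact_mod_cast h
  have hm := moment hz1 hX hdd hD hw' h2 h3
  have hdvd : (p : ℤ) ^ 6 ∣ ∑ χ : IrrCharacter G, (charDegree (χ : G → ℂ) : ℤ) ^ 2 * w χ * (D - w χ) ^ 3 := by
    refine Finset.dvd_sum fun χ _ => ?_
    by_cases hχ : χ ∈ principalBlock M G
    · have h1 := H.sq_dvd (isIrr_isCharacter χ.2) (hdd χ) (hX χ)
      have h4 : (p : ℤ) ^ 2 ∣ (charDegree (χ : G → ℂ) : ℤ) * (D - w χ) := by
        have : (charDegree (χ : G → ℂ) : ℤ) * (D - w χ) = D * ((charDegree (χ : G → ℂ) : ℤ) - X χ) := by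
          linear_combination -(hw' χ)
        rw [this]
        exact Dvd.dvd.mul_left h1 _
      have h5 : IsCoprime ((p : ℤ) ^ 2) (charDegree (χ : G → ℂ) : ℤ) := by
        apply IsCoprime.pow_left
        rw [Nat.isCoprime_iff_coprime]
        exact (Nat.Prime.coprime_iff_not_dvd hp.out).2 (hcon χ hχ)
      have h6 := h5.dvd_of_dvd_mul_left h4
      have h7 : (p : ℤ) ^ 6 ∣ (D - w χ) ^ 3 := by
        have := pow_dvd_pow_of_dvd h6 3
        rwa [← pow_mul] at this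
      exact Dvd.dvd.mul_left h7 _
    · have h1 := H104.EB.COne.vanish hM χ hχ z ⟨1, by rw [H.oz, pow_one]⟩ hC 1
        (by unfold IsPRegular; rw [orderOf_one]; exact hp.out.one_lt.ne' ∘ Nat.dvd_one.1) (Commute.one_right z)
      rw [mul_one, hX] at h1
      have h4 : X χ = 0 := by exact_mod_cast h1
      have h5 : w χ = 0 := by
        have h6 := hw' χ
        rw [h4, mul_zero] at h6
        refine (mul_eq_zero.1 h6).resolve_right ?_
        have h7 := isIrr_apply_one_ne_zero χ.2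
        rw [hdd] at h7
        exact_mod_cast h7
      rw [h5]
      simp
  rw [hm, dvd_neg] at hdvd
  obtain ⟨g, hg⟩ : ∃ g : ℕ, Nat.card G = p ^ 3 * g ∧ ¬ p ∣ g := by
    obtain ⟨g, hg⟩ : p ^ 3 ∣ Nat.card G := by rw [← H.cR]; exact card_subgroup_dvd_card R
    refine ⟨g, hg, fun h => H.h4 ?_⟩
    rw [hg, pow_succ]
    exact mul_dvd_mul_left _ h
  obtain ⟨hg, hpg⟩ := hg
  have hpD : ¬ p ∣ D := hD ▸ H.index
  have h4 : (p : ℤ) ^ 3 * (p : ℤ) ^ 3 ∣ (p : ℤ) ^ 3 * ((D * g : ℕ) * (3 * D ^ 2 - 3 * D * N2 + N3)) := by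
    have : (D : ℤ) * (Nat.card G : ℕ) * (3 * D ^ 2 - 3 * D * N2 + N3) = (p : ℤ) ^ 3 * ((D * g : ℕ) * (3 * D ^ 2 - 3 * D * N2 + N3)) := by
      rw [hg]
      push_cast
      ring
    rw [← this, ← pow_add]
    exact hdvd
  have hp0 : ((p : ℤ) ^ 3) ≠ 0 := pow_ne_zero _ (by exact_mod_cast hp.out.ne_zero)
  have h5 := Int.dvd_of_mul_dvd_mul_left hp0 h4
  have h6 : IsCoprime ((p : ℤ) ^ 3) ((D * g : ℕ) : ℤ) := by
    apply IsCoprime.pow_left
    rw [Nat.isCoprime_iff_coprime]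
    exact (Nat.Prime.coprime_iff_not_dvd hp.out).2 (hp.out.prime.not_dvd_mul hpD hpg)
  exact h6.dvd_of_dvd_mul_left h5

end test

end Cfsg.Agent.H702.E4
end

-- part: H505/HT/CoTwoFive
section
/-!
# S4933, `(Co2, 5)`: the local data (helper505, part B of helper856's plan)

`z = f c`, `R = P5.map f` for an embedding `f` of `McL` in `Co2`.

* `loc`      : `H702.E4.Loc 5 z R`;
* `hF`       : the elements of `R` conjugate to `z` lie in `⟨z⟩` (fixed ranks 4 and 8 on the Leech lattice);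
* `oneBlock` : `C(z)` has only one 5-block.
-/

set_option autoImplicit false
set_option linter.unusedSectionVars false

open Cfsg Subgroup Module
open scoped commutatorElement
open Cfsg.Agent.SigZeroCo2.Rank (fix mem_fix)
open Cfsg.Agent.SigZeroCo2.Lin (rep Sp)
open Cfsg.Agent.PreUniqCo.FixBound Cfsg.Agent.PreUniqCo.LatCo
open Cfsg.Agent.H149.Sp.CopCo (f2 f2_inj f2_fix finite_co2)

namespace Cfsg.Agent.H505.HT.CoTwo

open Cfsg.Agent.McLType.X275 Cfsg.Agent.McLType.Gens Cfsg.Agent.McLType.Model Cfsg.Agent.H58.McLOdd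
open Cfsg.Agent.H686.Odd.McL Cfsg.Agent.H35.TI Cfsg.Agent.H316.HT

/-! ### the embedding of `McL` -/

theorem mcl_le : Spor.McL ≤ Spor.Co2 := le_inf (inf_le_left.trans inf_le_left) inf_le_right

theorem exists_emb : ∃ f : G1 →* Spor.Co2, Function.Injective f := by
  obtain ⟨e⟩ := isoMcL_G1
  exact ⟨(Subgroup.inclusion mcl_le).comp e.toMonoidHom, (Subgroup.inclusion_injective mcl_le).comp e.injective⟩

/-- the exponent of `P5` is five -/
theorem pow_five {g : G1} (hg : g ∈ P5) : g ^ 5 = 1 := by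
  obtain ⟨i, j, k, rfl⟩ := exists_abc hg
  have h2 := abc_mul i j k i j k
  have h3 := abc_mul (i + i) (j + j) (k + k - i * j) i j k
  have h4 := abc_mul (i + i + i) (j + j + j) (k + k - i * j + k - i * (j + j)) i j k
  have h5 := abc_mul (i + i + i + i) (j + j + j + j) (k + k - i * j + k - i * (j + j) + k - i * (j + j + j)) i j k
  have e : ∀ x : G1, x ^ 5 = x * x * x * x * x := fun x => by
    simp only [pow_succ, pow_zero, one_mul]
  have z5 : ∀ (x : G1) (_ : x ^ 5 = 1) (n m : ℤ), m = 5 * n → x ^ m = 1 := by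
    intro x hx n m hm
    rw [hm, zpow_mul, show ((5 : ℤ)) = ((5 : ℕ) : ℤ) from rfl, zpow_natCast, hx, one_zpow]
  rw [e, h2, h3, h4, h5, z5 a a_pow i _ (by ring), z5 b b_pow j _ (by ring), z5 c c_pow (k - 2 * (i * j)) _ (by ring),
    one_mul, one_mul]

/-! ### the fixed ranks on the Leech lattice -/

/-- the fixed rank -/
noncomputable def d (g : Spor.Co2) : ℕ := finrank ℚ (fix (rep (f2 g)))

theorem d_conj {g h : Spor.Co2} (hc : IsConj g h) : d g = d h :=
  PreUniqCo.Facts.dim_isConj (f2.map_isConj hc)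

theorem d_cases {g : Spor.Co2} (hg : orderOf g = 5) : d g = 4 ∨ d g = 8 :=
  PreUniqCo.FiveCo.dims_five ((orderOf_injective f2 f2_inj g).trans hg)
    (CpAutCoFive.finrank_fix_ne_zero PreUniqCo.Rows.leechU_ne (f2_fix g))

theorem six {x y : Spor.Co2} (hx : x ^ 5 = 1) (hy : y ^ 5 = 1) (hxy : x * y = y * x) :
    ∃ w, 1 ≤ w ∧ d y + d (x * y ^ 0) + d (x * y ^ 1) + d (x * y ^ 2) + d (x * y ^ 3) + d (x * y ^ 4) = 24 + 5 * w := by
  have hp : ∀ {g : Spor.Co2}, g ^ 5 = 1 → rep (f2 g) ^ 5 = 1 := fun {g} h => by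
    rw [← map_pow, ← map_pow, h, map_one, map_one]
  have hc : Commute (rep (f2 x)) (rep (f2 y)) := ((show Commute x y from hxy).map f2).map rep
  have h1 := PreUniqCo.FivePair.sum_fix (hp hx) (hp hy) hc
  have hm : ∀ m : ℕ, rep (f2 x) * rep (f2 y) ^ m = rep (f2 (x * y ^ m)) := fun m => by
    rw [map_mul, map_mul, map_pow, map_pow]
  rw [hm, hm, hm, hm, hm, PreUniqCo.FiveCo.finrank_Sp] at h1
  refine ⟨_, ?_, h1⟩
  rw [Nat.one_le_iff_ne_zero]
  intro h0
  have h2 : tau Spor.leechU ∈ (fix (rep (f2 x)) ⊓ fix (rep (f2 y)) : Submodule ℚ Sp) :=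
    ⟨mem_fix_tau.2 (f2_fix x), mem_fix_tau.2 (f2_fix y)⟩
  rw [Submodule.finrank_eq_zero.1 h0, Submodule.mem_bot] at h2
  exact PreUniqCo.Rows.leechU_ne (tau_injective (by rw [h2, map_zero]))

section

variable {f : G1 →* Spor.Co2} (hf : Function.Injective f)
include hf

/-- **the local data** -/
theorem loc : H702.E4.Loc 5 (f c) (P5.map f) where
  oz := by rw [orderOf_injective f hf, order_c]
  cR := by
    rw [Nat.card_congr (P5.equivMapOfInjective f hf).symm.toEquiv, card_P5]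
    norm_num
  Rz := by
    rintro r ⟨u, hu, rfl⟩
    rw [mem_centralizer_singleton_iff, ← map_mul, ← map_mul, H307.HT.McL5.z_comm hu]
  zR := ⟨c, c_mem, rfl⟩
  na := by
    refine ⟨f a, ⟨a, a_mem, rfl⟩, f b, ⟨b, b_mem, rfl⟩, fun h => c_ne ?_⟩
    rw [← map_mul, ← map_mul] at h
    rw [c, commutatorElement_eq_one_iff_mul_comm]
    exact hf h
  ex := by
    rintro r ⟨u, hu, rfl⟩
    rw [← map_pow, pow_five hu, map_one]
  h4 := by
    rw [Cfsg.Agent.Schreier.CoTwoStab.card]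
    norm_num
  rat := by
    intro k hk
    rw [← map_pow]
    refine f.map_isConj (H307.HT.McL5.conj_c (pow_mem (mem_zpowers c) k) fun h => hk ?_)
    rw [← order_c]
    exact orderOf_dvd_of_pow_eq_one h

theorem dims {r : Spor.Co2} (hr : r ∈ P5.map f) (hrz : r ∉ zpowers (f c)) : d (f c) = 4 ∧ d r = 8 := by
  have := finite_co2
  have : Fact (Nat.Prime 5) := ⟨Nat.prime_five⟩
  have L := loc hf
  have h5 : orderOf r = 5 := orderOf_eq_prime (L.ex r hr) fun h => hrz (by rw [h]; exact one_mem _)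
  obtain ⟨w, hw, h⟩ := six (L.ex r hr) (L.ex _ L.zR) (mem_centralizer_singleton_iff.1 (L.Rz hr))
  have hm : ∀ m : ℕ, d (r * f c ^ m) = d r := by
    intro m
    obtain ⟨s, -, hs⟩ := L.conj_mul hr hrz (pow_mem (mem_zpowers (f c)) m)
    rw [← hs]
    exact (d_conj (isConj_iff.2 ⟨s, rfl⟩)).symm
  rw [hm, hm, hm, hm, hm] at h
  rcases d_cases h5 with h1 | h1 <;> rcases d_cases L.oz with h2 | h2 <;> (clear * - hw h h1 h2; omega)

theorem fa_notMem : f a ∉ zpowers (f c) := by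
  rintro ⟨k, hk⟩
  have h1 : f (c ^ k) = f a := by rw [map_zpow]; exact hk
  exact a_notMem ⟨k, hf h1⟩

theorem d_z : d (f c) = 4 := (dims hf ⟨a, a_mem, rfl⟩ (fa_notMem hf)).1

/-- **the noncentral elements of `R` are not conjugate to `z`** -/
theorem hF : ∀ r ∈ P5.map f, IsConj (f c) r → r ∈ zpowers (f c) := by
  intro r hr hc
  by_contra hcon
  have h1 := dims hf hr hcon
  have h2 := d_conj hc
  omega

end

end Cfsg.Agent.H505.HT.CoTwo
end

-- part: H91/HT/CoTwoBlock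
section
/-!
# `Co2`, `p = 5`: the centralizer of an element of order five and trace `-1` has one 5-block (helper91)

* `solvable` : it is solvable;
* `core_three`, `core_big` : it has no normal subgroups of order a power of 3, or of a prime at least 7;
* `constrained`, `oneBlock`, `oneBlock_of_trace`.
-/

set_option autoImplicit false

namespace Cfsg.Agent.H91.HT.Co2

open Cfsg Cfsg.Spor Subgroup Module
open Cfsg.Agent.BpSpor.Co2.Five
open Cfsg.Agent.SigZeroCo2.Rank (fix mem_fix)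
open Cfsg.Agent.SigZeroCo2.Lin (rep Sp)
open Cfsg.Agent.PreUniqCo Cfsg.Agent.PreUniqCo.FixBound Cfsg.Agent.PreUniqCo.LatCo
open Cfsg.Agent.CpAutCoFive
open Cfsg.Agent.CpAutCoTwo.Setup (Hs mem_Hs dot_co0)
open Cfsg.Agent.H149.Sp.CopCo (f2 f2_inj f2_fix finite_co2)
open Cfsg.Agent.H419.LeechIrr

variable {x : Spor.Co2}

/-- the centralizer of an element of order five of fixed rank four is solvable -/
theorem solvable (hx : orderOf x = 5) (h4 : finrank ℚ (fix (rep (f2 x))) = 4) :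
    Group.IsSolvable ↥(centralizer ({x} : Set Spor.Co2)) := by
  have h1 := isSolvable_four (x := f2 x) norm_leechU ((orderOf_injective f2 f2_inj x).trans hx) (f2_fix x) h4
  let ψ : ↥(centralizer ({x} : Set Spor.Co2)) →* ↥(Hs Spor.leechU (f2 x)) :=
    { toFun := fun g => ⟨f2 (g : Spor.Co2), by
        rw [mem_Hs]
        refine ⟨f2_fix _, ?_⟩
        rw [← map_mul, ← map_mul, mem_centralizer_singleton_iff.1 g.2]⟩
      map_one' := Subtype.ext (map_one f2)
      map_mul' := fun a b => Subtype.ext (map_mul f2 _ _) }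
  refine Group.isSolvable_of_isSolvable_injective (f := ψ) ?_
  intro a b hab
  have h2 := congrArg (fun c : ↥(Hs Spor.leechU (f2 x)) => (c : Co0)) hab
  exact Subtype.ext (f2_inj h2)

/-- the embedding of the centralizer -/
noncomputable def emb (x : Spor.Co2) : ↥(centralizer ({x} : Set Spor.Co2)) →* Co0 :=
  f2.comp (centralizer ({x} : Set Spor.Co2)).subtype

theorem emb_inj : Function.Injective (emb x) := f2_inj.comp (subtype_injective _)

theorem emb_fix (h : ↥(centralizer ({x} : Set Spor.Co2))) : emb x h • Spor.leechU = Spor.leechU := f2_fix _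

theorem leechU_ne : Spor.leechU ≠ 0 := ne_zero_of_norm norm_leechU

/-- the element in its centralizer -/
def cx (x : Spor.Co2) : ↥(centralizer ({x} : Set Spor.Co2)) := ⟨x, mem_centralizer_singleton_iff.2 rfl⟩

theorem cx_comm (g : ↥(centralizer ({x} : Set Spor.Co2))) : g * cx x = cx x * g :=
  Subtype.ext (mem_centralizer_singleton_iff.1 g.2)

theorem orderOf_cx (hx : orderOf x = 5) : orderOf (cx x) = 5 := (Subgroup.orderOf_mk x _).trans hx

/-- elements of order dividing 25 centralize the normal subgroups of order three -/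
theorem comm_of_three {C : Type*} [Group C] {N : Subgroup C} (hN : N.Normal) (h3 : Nat.card N = 3) {y : C}
    (hyN : y ∈ N) (hy : orderOf y = 3) {g : C} (hg : g ^ 25 = 1) : g * y = y * g := by
  have hfN : Finite N := Nat.finite_of_card_ne_zero (by rw [h3]; norm_num)
  have hzp : zpowers y = N := eq_of_le_of_card_ge (zpowers_le.2 hyN) (by rw [Nat.card_zpowers, hy, h3])
  have hy3 : y ^ 3 = 1 := by
    have := pow_orderOf_eq_one y
    rwa [hy] at this
  have h1 : g * y * g⁻¹ ∈ zpowers y := by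
    rw [hzp]
    exact hN.conj_mem _ hyN g
  obtain ⟨k, hk⟩ := mem_zpowers_iff.1 h1
  have h2 : ∀ i : ℕ, g ^ i * y * (g ^ i)⁻¹ = y ^ (k ^ i) := by
    intro i
    induction i with
    | zero => simp
    | succ i ih =>
      calc g ^ (i + 1) * y * (g ^ (i + 1))⁻¹ = g * (g ^ i * y * (g ^ i)⁻¹) * g⁻¹ := by
            rw [pow_succ']; group
        _ = g * y ^ (k ^ i) * g⁻¹ := by rw [ih]
        _ = (g * y * g⁻¹) ^ (k ^ i) := by rw [conj_zpow]
        _ = (y ^ k) ^ (k ^ i) := by rw [hk]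
        _ = y ^ (k ^ (i + 1)) := by rw [← zpow_mul, pow_succ']
  have h3' := h2 25
  rw [hg, one_mul, inv_one, mul_one] at h3'
  have h4 : (3 : ℤ) ∣ k ^ 25 - 1 := by
    have h5 : y ^ (k ^ 25 - 1) = 1 := by
      rw [zpow_sub, zpow_one, ← h3', mul_inv_cancel]
    have h6 := orderOf_dvd_iff_zpow_eq_one.2 h5
    rw [hy] at h6
    exact_mod_cast h6
  have h5 : (3 : ℤ) ∣ k - 1 := by
    have h6 : k % 3 = 0 ∨ k % 3 = 1 ∨ k % 3 = 2 := by omega
    have h7 : k ^ 25 ≡ (k % 3) ^ 25 [ZMOD 3] := (Int.mod_modEq k 3).symm.pow 25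
    unfold Int.ModEq at h7
    rcases h6 with h | h | h
    · rw [h] at h7; norm_num at h7; omega
    · omega
    · rw [h] at h7; norm_num at h7; omega
  obtain ⟨l, hl⟩ := h5
  have h6 : y ^ k = y := by
    have h7 : k = 3 * l + 1 := by omega
    have h8 : y ^ (3 : ℤ) = 1 := by exact_mod_cast hy3
    rw [h7, zpow_add, zpow_mul, zpow_one, h8, one_zpow, one_mul]
  rw [h6] at hk
  exact (eq_mul_inv_iff_mul_eq.1 hk).symm

/-- **no normal 3-subgroups** -/
theorem core_three (hx : orderOf x = 5) : pCore 3 ↥(centralizer ({x} : Set Spor.Co2)) = ⊥ := by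
  classical
  have hfin := finite_co2
  have h5f : Fact (Nat.Prime 5) := ⟨by norm_num⟩
  have h3f : Fact (Nat.Prime 3) := ⟨Nat.prime_three⟩
  have hcard : Nat.card Spor.Co2 = 42305421312000 := Cfsg.Agent.Schreier.CoTwoStab.card
  have h25 : 5 ^ 2 ∣ Nat.card ↥(centralizer ({x} : Set Spor.Co2)) :=
    H763.Wk.CoTwo.sq_dvd (by rw [hcard]; norm_num) hx
  by_contra hne
  have h9 := not_nine PreUniqCo.Facts.facts (φ := emb x) emb_inj leechU_ne emb_fix (orderOf_cx hx) cx_comm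
  obtain ⟨N, hNdef⟩ : ∃ N, N = pCore 3 ↥(centralizer ({x} : Set Spor.Co2)) := ⟨_, rfl⟩
  have hNp := Lib.Cores.pCore_isPGroup (G := ↥(centralizer ({x} : Set Spor.Co2))) 3
  have hnorm := Lib.Cores.pCore_normal (G := ↥(centralizer ({x} : Set Spor.Co2))) 3
  rw [← hNdef] at hne hNp hnorm
  obtain ⟨n, hn⟩ := hNp.exists_card_eq
  have hn1 : n = 1 := by
    have h1 : n ≠ 0 := by
      intro h0
      rw [h0, pow_zero] at hn
      exact hne (Subgroup.card_eq_one.1 hn)
    have h2 : n < 2 := by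
      by_contra hcon
      push Not at hcon
      apply h9
      calc 9 = 3 ^ 2 := by norm_num
        _ ∣ 3 ^ n := pow_dvd_pow 3 hcon
        _ = Nat.card N := hn.symm
        _ ∣ _ := card_subgroup_dvd_card _
    omega
  rw [hn1, pow_one] at hn
  obtain ⟨y, hy⟩ := exists_prime_orderOf_dvd_card' (G := N) 3 (by rw [hn])
  have hoy : orderOf (y : ↥(centralizer ({x} : Set Spor.Co2))) = 3 := by
    rw [Subgroup.orderOf_coe]
    exact hy
  obtain ⟨P, hP⟩ := Sylow.exists_subgroup_card_pow_prime 5 (n := 2) (G := ↥(centralizer ({x} : Set Spor.Co2))) h25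
  have hle : P ≤ centralizer ({(y : ↥(centralizer ({x} : Set Spor.Co2)))} : Set _) := by
    intro g hg
    rw [mem_centralizer_singleton_iff]
    refine comm_of_three hnorm hn y.2 hoy ?_
    have h2 : orderOf (⟨g, hg⟩ : P) ∣ 25 := by
      have := _root_.orderOf_dvd_natCard (⟨g, hg⟩ : P)
      rw [hP] at this
      simpa using this
    have h3 := orderOf_dvd_iff_pow_eq_one.1 h2
    exact congrArg Subtype.val h3
  refine H647.CoThree.not_25_cent (K := ↥(centralizer ({x} : Set Spor.Co2))) (φ := emb x) emb_inj leechU_ne emb_fix hoy ?_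
  have h1 := card_dvd_of_le hle
  rw [hP] at h1
  simpa only [_root_.Nat.reducePow] using h1

/-- **no normal subgroups of order a power of a prime at least 7** -/
theorem core_big (hx : orderOf x = 5) {r : ℕ} (hr : r.Prime) (h7 : 7 ≤ r) :
    pCore r ↥(centralizer ({x} : Set Spor.Co2)) = ⊥ := by
  have hfin := finite_co2
  have hrf : Fact r.Prime := ⟨hr⟩
  obtain ⟨n, hn⟩ := (Lib.Cores.pCore_isPGroup (G := ↥(centralizer ({x} : Set Spor.Co2))) r).exists_card_eq
  have h1 := not_prime (φ := emb x) emb_inj leechU_ne emb_fix (orderOf_cx hx) cx_comm hr h7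
  have h2 : n = 0 := by
    by_contra h0
    apply h1
    calc r ∣ r ^ n := dvd_pow_self r h0
      _ = Nat.card (pCore r ↥(centralizer ({x} : Set Spor.Co2))) := hn.symm
      _ ∣ _ := card_subgroup_dvd_card _
  rw [h2, pow_zero] at hn
  exact Subgroup.card_eq_one.1 hn

/-- **The centralizer has characteristic five.** -/
theorem constrained (hx : orderOf x = 5) (h4 : finrank ℚ (fix (rep (f2 x))) = 4) :
    centralizer (pCore 5 ↥(centralizer ({x} : Set Spor.Co2)) : Set ↥(centralizer ({x} : Set Spor.Co2))) ≤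
      pCore 5 ↥(centralizer ({x} : Set Spor.Co2)) := by
  have hfin := finite_co2
  have hs := solvable hx h4
  have h1 := Cfsg.Agent.S0044.centralizer_fitting_le ↥(centralizer ({x} : Set Spor.Co2))
    (Cfsg.Agent.S0044.fittingSubgroup_normal _)
  have h2 : fittingSubgroup ↥(centralizer ({x} : Set Spor.Co2)) = pCore 5 ↥(centralizer ({x} : Set Spor.Co2)) := by
    apply le_antisymm
    · rw [Lib.Cores.fittingSubgroup_eq_iSup_pCore]
      refine iSup_le fun r => ?_
      have hr : (r : ℕ).Prime := r.2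
      obtain ⟨q, hq⟩ : ∃ q : ℕ, q = r := ⟨_, rfl⟩
      rw [← hq] at hr ⊢
      by_cases h7 : 7 ≤ q
      · rw [core_big hx hr h7]
        exact bot_le
      · push Not at h7
        have h8 := hr.two_le
        interval_cases q
        · rw [H763.Wk.CoTwo.core_five hx]
          exact bot_le
        · rw [core_three hx]
          exact bot_le
        · exact absurd hr (by norm_num)
        · exact le_rfl
        · exact absurd hr (by norm_num)
    · exact Lib.Cores.pCore_le_fittingSubgroup 5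
  rwa [h2] at h1

/-- **One 5-block.** -/
theorem oneBlock {M : Ideal AlgInt} (hM : IsPModular 5 M) (hx : orderOf x = 5)
    (h4 : finrank ℚ (fix (rep (f2 x))) = 4) :
    H104.EB.COne.OneBlock M (centralizer ({x} : Set Spor.Co2)) := by
  have hfin := finite_co2
  have hn : (pCore 5 ↥(centralizer ({x} : Set Spor.Co2))).Normal := Lib.Cores.pCore_normal 5
  exact H104.EB.COne.oneBlock_of_constrained hM (pCore 5 ↥(centralizer ({x} : Set Spor.Co2)))
    (Lib.Cores.pCore_isPGroup 5) (constrained hx h4)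

end Cfsg.Agent.H91.HT.Co2
end

-- part: H856/HT/FiveA
section
/-!
# S4933, `|P| = p ^ 3`: a third moment modulo `p ^ 2` in a group with Sylow `p`-subgroups of order `p` (helper856)

`L` finite, `|L| = p l`, `p ∤ l`, `z ∈ L` of order `p`, `X` the set of the elements of order `p`: the coefficient
`N₃ - 3 D N₂ + 3 D ^ 2` of `z` in `(X̂ - |X|) ^ 3` is divisible by `p ^ 2` (`main`).
-/

set_option autoImplicit false
set_option linter.unusedSectionVars false

namespace Cfsg.Agent.H856.HT.FiveA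

open Cfsg Cfsg.Agent.Characters Cfsg.Agent.Characters.Core Cfsg.Agent.Characters.ClassMul

universe u

variable {L : Type u} [Group L]

section sums

variable [Fintype L] {X : Finset L} (hX : ∀ x ∈ X, ∀ g : L, g * x * g⁻¹ ∈ X)

include hX

theorem sum_conj_finset (g : L) (f : L → ℂ) : ∑ x ∈ X, f (g * x * g⁻¹) = ∑ x ∈ X, f x := by
  refine Finset.sum_nbij' (fun x => g * x * g⁻¹) (fun x => g⁻¹ * x * g) ?_ ?_ ?_ ?_ ?_
  · exact fun x hx => hX x hx g
  · intro x hx
    have := hX x hx g⁻¹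
    simpa using this
  · intro x _
    group
  · intro x _
    group
  · intro x _
    rfl

theorem sum_mul {χ : L → ℂ} (hχ : IsIrrCharacter L χ) (g : L) :
    ∑ x ∈ X, χ (x * g) = (∑ x ∈ X, χ x) * χ g / χ 1 := by
  have hne : (Nat.card L : ℂ) ≠ 0 := by exact_mod_cast Nat.card_pos.ne'
  apply mul_left_cancel₀ hne
  calc (Nat.card L : ℂ) * ∑ x ∈ X, χ (x * g) = ∑ a : L, ∑ x ∈ X, χ (a * x * a⁻¹ * g) := by
        rw [Finset.sum_congr rfl fun a _ => sum_conj_finset hX a (fun y => χ (y * g)), Finset.sum_const,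
          Finset.card_univ, ← Nat.card_eq_fintype_card, nsmul_eq_mul]
    _ = ∑ x ∈ X, (Nat.card L : ℂ) * χ x * χ g / χ 1 := by
        rw [Finset.sum_comm]
        exact Finset.sum_congr rfl fun x _ => Central.sum_char_conj_mul hχ x g
    _ = _ := by
        rw [Finset.sum_mul, Finset.sum_div, Finset.mul_sum]
        exact Finset.sum_congr rfl fun x _ => by ring

variable [Fintype (IrrCharacter L)]

theorem card_one {z : L} (hz : z ∈ X) :
    (Nat.card L : ℂ) = ∑ χ : IrrCharacter L, (∑ x ∈ X, (χ : L → ℂ) x) * (χ : L → ℂ) z⁻¹ := by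
  classical
  have h1 : ∑ x ∈ X, (if x * z⁻¹ = 1 then (1 : ℂ) else 0) = 1 := by
    rw [Finset.sum_eq_single z]
    · simp
    · intro x _ hx
      rw [if_neg]
      rwa [mul_inv_eq_one]
    · intro h
      exact absurd hz h
  have hne : (Nat.card L : ℂ) ≠ 0 := by exact_mod_cast Nat.card_pos.ne'
  rw [Finset.sum_congr rfl fun x _ => Counting.ite_eq_one (x * z⁻¹), ← Finset.mul_sum, Finset.sum_comm] at h1
  have h2 : ∀ χ : IrrCharacter L, ∑ x ∈ X, (χ : L → ℂ) 1 * (χ : L → ℂ) (x * z⁻¹) =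
      (∑ x ∈ X, (χ : L → ℂ) x) * (χ : L → ℂ) z⁻¹ := by
    intro χ
    have h3 : (χ : L → ℂ) 1 ≠ 0 := isIrr_apply_one_ne_zero χ.2
    rw [← Finset.mul_sum, sum_mul hX χ.2]
    field_simp
  rw [Finset.sum_congr rfl fun χ _ => h2 χ] at h1
  field_simp at h1
  exact h1.symm

theorem card_two (z : L) : (Nat.card L : ℂ) * (Nat.card {q : L × L // q.1 ∈ X ∧ q.2 ∈ X ∧ q.1 * q.2 = z} : ℂ) =
    ∑ χ : IrrCharacter L, (∑ x ∈ X, (χ : L → ℂ) x) ^ 2 / (χ : L → ℂ) 1 * (χ : L → ℂ) z⁻¹ := by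
  classical
  have h0 : (Nat.card {q : L × L // q.1 ∈ X ∧ q.2 ∈ X ∧ q.1 * q.2 = z} : ℂ) =
      ∑ y ∈ X, ∑ x ∈ X, (if x * (y * z⁻¹) = 1 then (1 : ℂ) else 0) := by
    rw [Nat.card_eq_fintype_card, Fintype.card_subtype]
    have h1 : (Finset.univ.filter fun q : L × L => q.1 ∈ X ∧ q.2 ∈ X ∧ q.1 * q.2 = z) =
        (X ×ˢ X).filter fun q => q.1 * (q.2 * z⁻¹) = 1 := by
      ext q
      simp only [Finset.mem_filter, Finset.mem_univ, true_and, Finset.mem_product, ← mul_assoc, mul_inv_eq_one,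
        and_assoc]
    rw [h1, ← Finset.sum_boole, Finset.sum_product, Finset.sum_comm]
  have hne : (Nat.card L : ℂ) ≠ 0 := by exact_mod_cast Nat.card_pos.ne'
  rw [h0, Finset.sum_congr rfl fun y _ => Finset.sum_congr rfl fun x _ => Counting.ite_eq_one (x * (y * z⁻¹))]
  simp only [← Finset.mul_sum]
  rw [← mul_assoc, mul_inv_cancel₀ hne, one_mul]
  have h2 : ∀ (χ : IrrCharacter L) (g : L), ∑ x ∈ X, (χ : L → ℂ) 1 * (χ : L → ℂ) (x * g) =
      (∑ x ∈ X, (χ : L → ℂ) x) * (χ : L → ℂ) g := by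
    intro χ g
    have h3 : (χ : L → ℂ) 1 ≠ 0 := isIrr_apply_one_ne_zero χ.2
    rw [← Finset.mul_sum, sum_mul hX χ.2]
    field_simp
  calc ∑ y ∈ X, ∑ x ∈ X, ∑ χ : IrrCharacter L, (χ : L → ℂ) 1 * (χ : L → ℂ) (x * (y * z⁻¹)) =
      ∑ y ∈ X, ∑ χ : IrrCharacter L, (∑ x ∈ X, (χ : L → ℂ) x) * (χ : L → ℂ) (y * z⁻¹) := by
        refine Finset.sum_congr rfl fun y _ => ?_
        rw [Finset.sum_comm]
        exact Finset.sum_congr rfl fun χ _ => h2 χ _
    _ = _ := by
        rw [Finset.sum_comm]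
        refine Finset.sum_congr rfl fun χ _ => ?_
        have h3 : (χ : L → ℂ) 1 ≠ 0 := isIrr_apply_one_ne_zero χ.2
        rw [← Finset.mul_sum, sum_mul hX χ.2]
        ring

theorem card_three (z : L) : (Nat.card L : ℂ) *
    (Nat.card {q : L × L × L // q.1 ∈ X ∧ q.2.1 ∈ X ∧ q.2.2 ∈ X ∧ q.1 * q.2.1 * q.2.2 = z} : ℂ) =
    ∑ χ : IrrCharacter L, (∑ x ∈ X, (χ : L → ℂ) x) ^ 3 / (χ : L → ℂ) 1 ^ 2 * (χ : L → ℂ) z⁻¹ := by
  classical
  have h0 : (Nat.card {q : L × L × L // q.1 ∈ X ∧ q.2.1 ∈ X ∧ q.2.2 ∈ X ∧ q.1 * q.2.1 * q.2.2 = z} : ℂ) =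
      ∑ x ∈ X, ∑ y ∈ X, ∑ w ∈ X, (if x * (y * (w * z⁻¹)) = 1 then (1 : ℂ) else 0) := by
    rw [Nat.card_eq_fintype_card, Fintype.card_subtype]
    have h1 : (Finset.univ.filter fun q : L × L × L => q.1 ∈ X ∧ q.2.1 ∈ X ∧ q.2.2 ∈ X ∧ q.1 * q.2.1 * q.2.2 = z) =
        (X ×ˢ (X ×ˢ X)).filter fun q => q.1 * (q.2.1 * (q.2.2 * z⁻¹)) = 1 := by
      ext q
      simp only [Finset.mem_filter, Finset.mem_univ, true_and, Finset.mem_product, ← mul_assoc, mul_inv_eq_one,
        and_assoc]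
    rw [h1, ← Finset.sum_boole, Finset.sum_product]
    refine Finset.sum_congr rfl fun x _ => ?_
    rw [Finset.sum_product]
  have hne : (Nat.card L : ℂ) ≠ 0 := by exact_mod_cast Nat.card_pos.ne'
  rw [h0, Finset.sum_congr rfl fun x _ => Finset.sum_congr rfl fun y _ => Finset.sum_congr rfl fun w _ =>
    Counting.ite_eq_one (x * (y * (w * z⁻¹)))]
  simp only [← Finset.mul_sum]
  rw [← mul_assoc, mul_inv_cancel₀ hne, one_mul]
  have h2 : ∀ (χ : IrrCharacter L) (g : L), ∑ x ∈ X, (χ : L → ℂ) (x * g) =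
      (∑ x ∈ X, (χ : L → ℂ) x) * (χ : L → ℂ) g / (χ : L → ℂ) 1 := fun χ g => sum_mul hX χ.2 g
  have h4 : ∑ x ∈ X, ∑ y ∈ X, ∑ w ∈ X, ∑ χ : IrrCharacter L, (χ : L → ℂ) 1 * (χ : L → ℂ) (x * (y * (w * z⁻¹))) =
      ∑ χ : IrrCharacter L, ∑ w ∈ X, ∑ y ∈ X, ∑ x ∈ X, (χ : L → ℂ) 1 * (χ : L → ℂ) (x * (y * (w * z⁻¹))) := by
    calc _ = ∑ x ∈ X, ∑ y ∈ X, ∑ χ : IrrCharacter L, ∑ w ∈ X, (χ : L → ℂ) 1 * (χ : L → ℂ) (x * (y * (w * z⁻¹))) :=
          Finset.sum_congr rfl fun x _ => Finset.sum_congr rfl fun y _ => Finset.sum_comm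
      _ = ∑ x ∈ X, ∑ χ : IrrCharacter L, ∑ y ∈ X, ∑ w ∈ X, (χ : L → ℂ) 1 * (χ : L → ℂ) (x * (y * (w * z⁻¹))) :=
          Finset.sum_congr rfl fun x _ => Finset.sum_comm
      _ = ∑ χ : IrrCharacter L, ∑ x ∈ X, ∑ y ∈ X, ∑ w ∈ X, (χ : L → ℂ) 1 * (χ : L → ℂ) (x * (y * (w * z⁻¹))) :=
          Finset.sum_comm
      _ = _ := by
          refine Finset.sum_congr rfl fun χ _ => ?_
          calc _ = ∑ x ∈ X, ∑ w ∈ X, ∑ y ∈ X, (χ : L → ℂ) 1 * (χ : L → ℂ) (x * (y * (w * z⁻¹))) :=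
                Finset.sum_congr rfl fun x _ => Finset.sum_comm
            _ = ∑ w ∈ X, ∑ x ∈ X, ∑ y ∈ X, (χ : L → ℂ) 1 * (χ : L → ℂ) (x * (y * (w * z⁻¹))) := Finset.sum_comm
            _ = _ := Finset.sum_congr rfl fun w _ => Finset.sum_comm
  rw [h4]
  refine Finset.sum_congr rfl fun χ _ => ?_
  have h3 : (χ : L → ℂ) 1 ≠ 0 := isIrr_apply_one_ne_zero χ.2
  have h5 : ∀ g : L, ∑ x ∈ X, (χ : L → ℂ) 1 * (χ : L → ℂ) (x * g) = (∑ x ∈ X, (χ : L → ℂ) x) * (χ : L → ℂ) g := by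
    intro g
    rw [← Finset.mul_sum, h2]
    field_simp
  calc ∑ w ∈ X, ∑ y ∈ X, ∑ x ∈ X, (χ : L → ℂ) 1 * (χ : L → ℂ) (x * (y * (w * z⁻¹))) =
      ∑ w ∈ X, ∑ y ∈ X, (∑ x ∈ X, (χ : L → ℂ) x) * (χ : L → ℂ) (y * (w * z⁻¹)) :=
        Finset.sum_congr rfl fun w _ => Finset.sum_congr rfl fun y _ => h5 _
    _ = ∑ w ∈ X, (∑ x ∈ X, (χ : L → ℂ) x) * ((∑ x ∈ X, (χ : L → ℂ) x) * (χ : L → ℂ) (w * z⁻¹) / (χ : L → ℂ) 1) :=
        Finset.sum_congr rfl fun w _ => by rw [← Finset.mul_sum, h2]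
    _ = _ := by
        rw [← Finset.mul_sum, ← Finset.sum_div, ← Finset.mul_sum, h2]
        ring

/-- the coefficient of `z` in `(X̂ - |X|) ^ 3` -/
theorem coeff {z : L} (hz : z ∈ X) (hz1 : z ≠ 1) {D N2 N3 : ℕ} (hD : X.card = D)
    (hN2 : Nat.card {q : L × L // q.1 ∈ X ∧ q.2 ∈ X ∧ q.1 * q.2 = z} = N2)
    (hN3 : Nat.card {q : L × L × L // q.1 ∈ X ∧ q.2.1 ∈ X ∧ q.2.2 ∈ X ∧ q.1 * q.2.1 * q.2.2 = z} = N3) :
    (Nat.card L : ℂ) * (N3 - 3 * D * N2 + 3 * D ^ 2) = ∑ χ : IrrCharacter L,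
      ((∑ x ∈ X, (χ : L → ℂ) x) - D * (χ : L → ℂ) 1) ^ 3 / (χ : L → ℂ) 1 ^ 2 * (χ : L → ℂ) z⁻¹ := by
  have h0 : ∑ χ : IrrCharacter L, (χ : L → ℂ) 1 * (χ : L → ℂ) z⁻¹ = 0 := by
    classical
    rw [Counting.sum_irr_one_mul, if_neg]
    rwa [inv_eq_one]
  have h1 := card_one hX hz
  have h2 := card_two hX z
  have h3 := card_three hX z
  rw [hN2] at h2
  rw [hN3] at h3
  have h4 : (Nat.card L : ℂ) * (N3 - 3 * D * N2 + 3 * D ^ 2) = (Nat.card L : ℂ) * N3 - 3 * D * ((Nat.card L : ℂ) * N2) +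
      3 * D ^ 2 * (Nat.card L : ℂ) - D ^ 3 * 0 := by ring
  rw [h4, h2, h3, ← h0]
  conv_lhs => rw [h1]
  rw [Finset.mul_sum, Finset.mul_sum, Finset.mul_sum, ← Finset.sum_sub_distrib, ← Finset.sum_add_distrib,
    ← Finset.sum_sub_distrib]
  refine Finset.sum_congr rfl fun χ _ => ?_
  have h5 : (χ : L → ℂ) 1 ≠ 0 := isIrr_apply_one_ne_zero χ.2
  field_simp
  ring

end sums

/-! ### the congruence modulo `p` -/

section congr

theorem sum_range_pow [Finite L] {p : ℕ} (hp : p.Prime) {x : L} (hx : orderOf x = p) {χ : L → ℂ}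
    (hχ : IsCharacter L χ) : ∃ m : ℕ, ∑ k ∈ Finset.range p, χ (x ^ k) = (p : ℂ) * m := by
  classical
  have _ := Fintype.ofFinite L
  obtain ⟨m, hm⟩ := H702.E4.sum_eq_card (isCharacter_comp (Subgroup.zpowers x).subtype hχ)
  refine ⟨m, ?_⟩
  rw [Nat.card_zpowers, hx] at hm
  rw [← hm]
  have hfin : IsOfFinOrder x := isOfFinOrder_of_finite x
  rw [← Fin.sum_univ_eq_sum_range (fun k => χ (x ^ k)) p, ← hx]
  refine Fintype.sum_equiv (finEquivZPowers hfin) _ _ fun k => ?_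
  show χ (x ^ (k : ℕ)) = χ ((finEquivZPowers hfin k : L))
  rw [finEquivZPowers_apply]

theorem exists_b [Finite L] {p : ℕ} (hp : p.Prime) {X : Finset L} (hXo : ∀ x ∈ X, orderOf x = p)
    (hXp : ∀ x ∈ X, ∀ k : ℕ, ¬ p ∣ k → x ^ k ∈ X) {χ : L → ℂ} (hχ : IsCharacter L χ) {d : ℕ} (hd : χ 1 = d) :
    ∃ b : ℤ, ((p : ℂ) - 1) * ((∑ x ∈ X, χ x) - (X.card : ℂ) * χ 1) = (p : ℂ) * b := by
  classical
  have h1 : ∀ x : X, ∃ m : ℕ, ∑ k ∈ Finset.range p, χ ((x : L) ^ k) = (p : ℂ) * m := fun x =>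
    sum_range_pow hp (hXo x x.2) hχ
  choose m hm using h1
  have h2 : ∑ x ∈ X, ∑ k ∈ Finset.range p, χ (x ^ k) = (p : ℂ) * (∑ x : X, m x : ℕ) := by
    rw [← Finset.sum_coe_sort X (fun x => ∑ k ∈ Finset.range p, χ (x ^ k)), Finset.sum_congr rfl fun x _ => hm x,
      ← Finset.mul_sum]
    push_cast
    rfl
  obtain ⟨q, rfl⟩ : ∃ q, p = q + 1 := ⟨p - 1, by have := hp.pos; omega⟩
  rw [Finset.sum_comm, Finset.sum_range_succ'] at h2
  have h3 : ∀ k ∈ Finset.range q, ∑ x ∈ X, χ (x ^ (k + 1)) = ∑ x ∈ X, χ x := by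
    intro k hk
    have hk' : ¬ (q + 1) ∣ k + 1 := by
      intro h
      have h4 := Nat.le_of_dvd (by omega) h
      have := Finset.mem_range.1 hk
      omega
    have hinj : Set.InjOn (fun x : L => x ^ (k + 1)) X := by
      intro x hx y hy hxy
      have hcop : (k + 1).Coprime (q + 1) := ((Nat.Prime.coprime_iff_not_dvd hp).2 hk').symm
      have e : x ^ (k + 1) = y ^ (k + 1) := hxy
      obtain ⟨j, -, hj⟩ := Nat.exists_mul_mod_eq_one_of_coprime hcop hp.one_lt
      have ex : ∀ u ∈ X, u ^ ((k + 1) * j) = u := by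
        intro u hu
        rw [← pow_mod_orderOf, hXo u hu, hj, pow_one]
      rw [← ex x hx, ← ex y hy, pow_mul, pow_mul, e]
    have himg : X.image (fun x : L => x ^ (k + 1)) = X := by
      refine Finset.eq_of_subset_of_card_le ?_ ?_
      · intro y hy
        obtain ⟨x, hx, rfl⟩ := Finset.mem_image.1 hy
        exact hXp x hx _ hk'
      · rw [Finset.card_image_of_injOn hinj]
    conv_rhs => rw [← himg]
    rw [Finset.sum_image hinj]
  rw [Finset.sum_congr rfl h3, Finset.sum_const, Finset.card_range, nsmul_eq_mul] at h2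
  simp only [pow_zero, Finset.sum_const, nsmul_eq_mul] at h2
  refine ⟨(∑ x : X, m x : ℕ) - X.card * d, ?_⟩
  rw [hd] at h2 ⊢
  push_cast at h2 ⊢
  linear_combination h2

end congr

/-! ### the theorem -/

theorem main [Finite L] {p l : ℕ} (hp : p.Prime) (hL : Nat.card L = p * l) (hl : ¬ p ∣ l) {z : L} (hz : orderOf z = p)
    {D N2 N3 : ℕ} (hD : Nat.card {x : L // orderOf x = p} = D)
    (h2 : Nat.card {q : L × L // orderOf q.1 = p ∧ orderOf q.2 = p ∧ q.1 * q.2 = z} = N2)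
    (h3 : Nat.card {q : L × L × L // orderOf q.1 = p ∧ orderOf q.2.1 = p ∧ orderOf q.2.2 = p ∧
      q.1 * q.2.1 * q.2.2 = z} = N3) : (p : ℤ) ^ 2 ∣ N3 - 3 * D * N2 + 3 * D ^ 2 := by
  classical
  have _ := Fintype.ofFinite L
  have : Finite (IrrCharacter L) := finite_irr
  have _ := Fintype.ofFinite (IrrCharacter L)
  obtain ⟨X, hXdef⟩ : ∃ X : Finset L, X = Finset.univ.filter fun x => orderOf x = p := ⟨_, rfl⟩
  have hmem : ∀ x : L, x ∈ X ↔ orderOf x = p := fun x => by rw [hXdef]; simp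
  have hX : ∀ x ∈ X, ∀ g : L, g * x * g⁻¹ ∈ X := by
    intro x hx g
    rw [hmem] at hx ⊢
    rw [← hx]
    exact orderOf_injective (MulAut.conj g).toMonoidHom (MulAut.conj g).injective x
  have hXp : ∀ x ∈ X, ∀ k : ℕ, ¬ p ∣ k → x ^ k ∈ X := by
    intro x hx k hk
    rw [hmem] at hx ⊢
    rw [orderOf_pow, hx, (((Nat.Prime.coprime_iff_not_dvd hp).2 hk) : p.gcd k = 1), Nat.div_one]
  have hcard : X.card = D := by
    rw [← hD, Nat.card_eq_fintype_card, Fintype.card_subtype, hXdef]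
  have h2' : Nat.card {q : L × L // q.1 ∈ X ∧ q.2 ∈ X ∧ q.1 * q.2 = z} = N2 := by
    rw [← h2]
    simp only [hmem]
  have h3' : Nat.card {q : L × L × L // q.1 ∈ X ∧ q.2.1 ∈ X ∧ q.2.2 ∈ X ∧ q.1 * q.2.1 * q.2.2 = z} = N3 := by
    rw [← h3]
    simp only [hmem]
  have hz1 : z ≠ 1 := by
    rintro rfl
    rw [orderOf_one] at hz
    exact hp.one_lt.ne hz
  have hco := coeff hX ((hmem z).2 hz) hz1 hcard h2' h3'
  have hdeg : ∀ χ : IrrCharacter L, (χ : L → ℂ) 1 = (charDegree (χ : L → ℂ) : ℂ) := fun χ =>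
    Blocks.Basic.irr_one_eq_charDegree χ.2
  have hb : ∀ χ : IrrCharacter L, ∃ b : ℤ, ((p : ℂ) - 1) * ((∑ x ∈ X, (χ : L → ℂ) x) - (X.card : ℂ) * (χ : L → ℂ) 1) =
      (p : ℂ) * b := fun χ => exists_b hp (fun x hx => (hmem x).1 hx) hXp (isIrr_isCharacter χ.2) (hdeg χ)
  choose b hb using hb
  -- the terms
  have hterm : ∀ χ : IrrCharacter L, ∃ q : ℕ, ((p : ℂ) - 1) ^ 3 * (l : ℂ) ^ 2 *
      (((∑ x ∈ X, (χ : L → ℂ) x) - D * (χ : L → ℂ) 1) ^ 3 / (χ : L → ℂ) 1 ^ 2 * (χ : L → ℂ) z⁻¹) =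
      (p : ℂ) ^ 3 * ((b χ : ℂ) ^ 3 * (q : ℂ) ^ 2 * (χ : L → ℂ) z⁻¹) := by
    intro χ
    by_cases hpd : p ∣ charDegree (χ : L → ℂ)
    · refine ⟨0, ?_⟩
      have h0 : (χ : L → ℂ) z⁻¹ = 0 := by
        obtain ⟨n, ρ, hρ, hχ⟩ := χ.2
        rw [← hχ]
        refine DefectZero.character_inv_eq_zero ρ hρ p 1 hp (by rw [pow_one, hL]; exact dvd_mul_right _ _) ?_ ?_ z
          (by rw [hz])
        · rw [hL, pow_succ, pow_one]
          exact fun h => hl ((Nat.mul_dvd_mul_iff_left hp.pos).1 h)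
        · have h5 := hdeg χ
          rw [← hχ, Representation.char_one] at h5
          have h6 : Module.finrank ℂ (Fin n → ℂ) = charDegree (χ : L → ℂ) := by
            rw [← hχ]
            exact_mod_cast h5
          rw [h6, pow_one]
          exact hpd
      rw [h0]
      ring
    · have h5 : charDegree (χ : L → ℂ) ∣ l := by
        have h6 := Blocks.CyclicUpper.charDegree_dvd χ.2
        rw [hL] at h6
        exact (Nat.Coprime.dvd_of_dvd_mul_left (((Nat.Prime.coprime_iff_not_dvd hp).2 hpd).symm) h6)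
      obtain ⟨q, hq⟩ := h5
      refine ⟨q, ?_⟩
      have h7 : (χ : L → ℂ) 1 ≠ 0 := isIrr_apply_one_ne_zero χ.2
      have h8 : (l : ℂ) = (χ : L → ℂ) 1 * q := by
        rw [hdeg, hq]
        push_cast
        ring
      have h9 := hb χ
      rw [hcard] at h9
      have h10 : ((p : ℂ) - 1) ^ 3 * (l : ℂ) ^ 2 *
          (((∑ x ∈ X, (χ : L → ℂ) x) - D * (χ : L → ℂ) 1) ^ 3 / (χ : L → ℂ) 1 ^ 2 * (χ : L → ℂ) z⁻¹) =
          (((p : ℂ) - 1) * ((∑ x ∈ X, (χ : L → ℂ) x) - D * (χ : L → ℂ) 1)) ^ 3 * (q : ℂ) ^ 2 * (χ : L → ℂ) z⁻¹ := by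
        rw [h8]
        field_simp
      rw [h10, h9]
      ring
  choose q hq using hterm
  have hsum : ((p : ℂ) - 1) ^ 3 * (l : ℂ) ^ 2 * ((Nat.card L : ℂ) * (N3 - 3 * D * N2 + 3 * D ^ 2)) =
      (p : ℂ) ^ 3 * ∑ χ : IrrCharacter L, (b χ : ℂ) ^ 3 * (q χ : ℂ) ^ 2 * (χ : L → ℂ) z⁻¹ := by
    rw [hco, Finset.mul_sum, Finset.mul_sum]
    exact Finset.sum_congr rfl fun χ _ => hq χ
  have hint : IsIntegral ℤ (∑ χ : IrrCharacter L, (b χ : ℂ) ^ 3 * (q χ : ℂ) ^ 2 * (χ : L → ℂ) z⁻¹) := by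
    refine IsIntegral.sum _ fun χ _ => ?_
    refine IsIntegral.mul (IsIntegral.mul (IsIntegral.pow ?_ 3) (IsIntegral.pow ?_ 2))
      (GaloisBasic.isIntegral_apply (isIrr_isCharacter χ.2) _)
    · exact isIntegral_algebraMap (R := ℤ) (A := ℂ) (x := b χ)
    · have := isIntegral_algebraMap (R := ℤ) (A := ℂ) (x := (q χ : ℤ))
      simpa using this
  have hp0 : (p : ℂ) ≠ 0 := by exact_mod_cast hp.ne_zero
  have hval : ∑ χ : IrrCharacter L, (b χ : ℂ) ^ 3 * (q χ : ℂ) ^ 2 * (χ : L → ℂ) z⁻¹ =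
      ((((p : ℚ) - 1) ^ 3 * (l : ℚ) ^ 3 * (N3 - 3 * D * N2 + 3 * D ^ 2) / (p : ℚ) ^ 2 : ℚ) : ℂ) := by
    rw [hL] at hsum
    push_cast at hsum ⊢
    rw [eq_div_iff (pow_ne_zero 2 hp0)]
    have h5 : (p : ℂ) ≠ 0 := hp0
    apply mul_left_cancel₀ h5
    linear_combination -hsum
  obtain ⟨k, hk⟩ := GaloisBasic.exists_int_of_isIntegral hint ⟨_, hval⟩
  rw [hval] at hk
  have hk' : ((p : ℚ) - 1) ^ 3 * (l : ℚ) ^ 3 * (N3 - 3 * D * N2 + 3 * D ^ 2) / (p : ℚ) ^ 2 = k := by exact_mod_cast hk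
  have hpq : (p : ℚ) ≠ 0 := by exact_mod_cast hp.ne_zero
  rw [div_eq_iff (pow_ne_zero 2 hpq)] at hk'
  have hk2 : ((p : ℤ) - 1) ^ 3 * (l : ℤ) ^ 3 * (N3 - 3 * D * N2 + 3 * D ^ 2) = k * (p : ℤ) ^ 2 := by exact_mod_cast hk'
  have hdvd : (p : ℤ) ^ 2 ∣ ((p : ℤ) - 1) ^ 3 * (l : ℤ) ^ 3 * (N3 - 3 * D * N2 + 3 * D ^ 2) := ⟨k, by rw [hk2]; ring⟩
  have hc1 : IsCoprime ((p : ℤ) ^ 2) (((p : ℤ) - 1) ^ 3) := by
    apply IsCoprime.pow
    exact ⟨1, -1, by ring⟩
  have hc2 : IsCoprime ((p : ℤ) ^ 2) ((l : ℤ) ^ 3) := by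
    apply IsCoprime.pow
    exact Nat.isCoprime_iff_coprime.2 ((Nat.Prime.coprime_iff_not_dvd hp).2 hl)
  exact (hc1.mul_right hc2).dvd_of_dvd_mul_left hdvd

end Cfsg.Agent.H856.HT.FiveA
end

-- part: H856/HT/FiveB
section
/-!
# S4933, `|P| = p ^ 3`: counting tuples by Burnside's lemma (helper856)
-/

set_option autoImplicit false
set_option linter.unusedSectionVars false

namespace Cfsg.Agent.H856.HT.FiveB

universe u

theorem dvd_sum_of_coset {R : Type u} [Group R] [Fintype R] (Z : Subgroup R) (f : R → ℤ) (n : ℤ)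
    (hf : ∀ b, ∀ s ∈ Z, f (b * s) = f b) (hn : ∀ b, n ∣ f b) : (Nat.card Z : ℤ) * n ∣ ∑ b, f b := by
  classical
  have _ := Fintype.ofFinite (R ⧸ Z)
  rw [← Finset.sum_fiberwise (Finset.univ : Finset R) (fun b : R => (b : R ⧸ Z)) f]
  refine Finset.dvd_sum fun q _ => ?_
  have h1 : ∀ b ∈ Finset.univ.filter (fun b : R => (b : R ⧸ Z) = q), f b = f q.out := by
    intro b hb
    have hb' : (b : R ⧸ Z) = q := (Finset.mem_filter.1 hb).2
    have h2 : (q.out : R ⧸ Z) = (b : R ⧸ Z) := by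
      rw [hb']
      exact QuotientGroup.out_eq' q
    have h3 : b⁻¹ * q.out ∈ Z := QuotientGroup.eq.1 h2.symm
    have h4 := hf b _ h3
    rwa [mul_inv_cancel_left, eq_comm] at h4
  rw [Finset.sum_congr rfl h1, Finset.sum_const, nsmul_eq_mul]
  have h5 : (Finset.univ.filter (fun b : R => (b : R ⧸ Z) = q)).card = Nat.card Z := by
    rw [← Fintype.card_subtype, ← Nat.card_eq_fintype_card]
    refine Nat.card_congr
      { toFun := fun b => ⟨q.out⁻¹ * b.1, ?_⟩
        invFun := fun s => ⟨q.out * s.1, ?_⟩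
        left_inv := fun b => Subtype.ext (by simp)
        right_inv := fun s => Subtype.ext (by simp) }
    · have h2 : (q.out : R ⧸ Z) = (b.1 : R ⧸ Z) := by
        rw [b.2]
        exact QuotientGroup.out_eq' q
      exact QuotientGroup.eq.1 h2
    · rw [← QuotientGroup.out_eq' q]
      refine (QuotientGroup.eq.2 ?_).symm
      rw [QuotientGroup.out_eq' q, inv_mul_cancel_left]
      exact s.2
  rw [h5]
  exact mul_dvd_mul_left _ (hn _)

section tuples

variable {G : Type u} [Group G]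

/-- commuting triples -/
def com (q : G × G × G) (b : G) : Prop := q.1 * b = b * q.1 ∧ q.2.1 * b = b * q.2.1 ∧ q.2.2 * b = b * q.2.2

/-- conjugation of triples -/
def cnj (g : G) (q : G × G × G) : G × G × G := (g * q.1 * g⁻¹, g * q.2.1 * g⁻¹, g * q.2.2 * g⁻¹)

/-- the triples of `T` which commute with `b` -/
noncomputable def cnt (T : Set (G × G × G)) (b : G) : ℕ := Nat.card {q : G × G × G // q ∈ T ∧ com q b}

theorem cnj_one (q : G × G × G) : cnj 1 q = q := by simp [cnj]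

theorem cnj_mul (g h : G) (q : G × G × G) : cnj (g * h) q = cnj g (cnj h q) := by simp only [cnj, mul_assoc, _root_.mul_inv_rev]

theorem cnj_eq_iff (g : G) (q : G × G × G) : cnj g q = q ↔ com q g := by
  unfold cnj com
  rw [Prod.ext_iff, Prod.ext_iff]
  simp only [mul_inv_eq_iff_eq_mul]
  constructor
  · rintro ⟨h1, h2, h3⟩
    exact ⟨h1.symm, h2.symm, h3.symm⟩
  · rintro ⟨h1, h2, h3⟩
    exact ⟨h1.symm, h2.symm, h3.symm⟩

/-- **Burnside** -/
theorem burn [Finite G] (U : Subgroup G) [Fintype U] (T : Set (G × G × G)) (hT : ∀ u ∈ U, ∀ q ∈ T, cnj u q ∈ T) :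
    Nat.card U ∣ ∑ b : U, cnt T (b : G) := by
  classical
  let act : MulAction U T :=
    { smul := fun u q => ⟨cnj (u : G) q.1, hT u u.2 q.1 q.2⟩
      one_smul := fun q => Subtype.ext (cnj_one q.1)
      mul_smul := fun u v q => Subtype.ext (cnj_mul (u : G) v q.1) }
  have _ : Fintype T := Fintype.ofFinite _
  have _ : ∀ u : U, Fintype (MulAction.fixedBy T u) := fun u => Fintype.ofFinite _
  have _ : Fintype (Quotient (MulAction.orbitRel U T)) := Fintype.ofFinite _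
  have h := MulAction.sum_card_fixedBy_eq_card_orbits_mul_card_group U T
  have h1 : ∀ b : U, cnt T (b : G) = Fintype.card (MulAction.fixedBy T b) := by
    intro b
    unfold cnt
    rw [← Nat.card_eq_fintype_card]
    refine Nat.card_congr
      { toFun := fun q => ⟨⟨q.1, q.2.1⟩, ?_⟩
        invFun := fun q => ⟨q.1.1, q.1.2, ?_⟩
        left_inv := fun q => rfl
        right_inv := fun q => rfl }
    · exact Subtype.ext ((cnj_eq_iff _ _).2 q.2.2)
    · have h2 : b • q.1 = q.1 := q.2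
      exact (cnj_eq_iff _ _).1 (congrArg Subtype.val h2)
  rw [Finset.sum_congr rfl fun b _ => h1 b, h, Nat.card_eq_fintype_card]
  exact dvd_mul_left _ _

theorem cnt_conj (T : Set (G × G × G)) (s b : G) (hT : ∀ q, cnj s q ∈ T ↔ q ∈ T) : cnt T (s * b * s⁻¹) = cnt T b := by
  unfold cnt
  symm
  refine Nat.card_congr
    { toFun := fun q => ⟨cnj s q.1, (hT _).2 q.2.1, ?_⟩
      invFun := fun q => ⟨cnj s⁻¹ q.1, ?_, ?_⟩
      left_inv := fun q => Subtype.ext ?_
      right_inv := fun q => Subtype.ext ?_ }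
  · have h := (cnj_eq_iff _ _).2 q.2.2
    rw [← cnj_eq_iff, ← cnj_mul, inv_mul_cancel_right, cnj_mul, h]
  · rw [← hT, ← cnj_mul, mul_inv_cancel, cnj_one]
    exact q.2.1
  · have h := (cnj_eq_iff _ _).2 q.2.2
    rw [← cnj_eq_iff]
    conv_rhs => rw [← h]
    rw [← cnj_mul, ← cnj_mul]
    congr 1
    group
  · show cnj s⁻¹ (cnj s q.1) = q.1
    rw [← cnj_mul, inv_mul_cancel, cnj_one]
  · show cnj s (cnj s⁻¹ q.1) = q.1
    rw [← cnj_mul, mul_inv_cancel, cnj_one]

end tuples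

end Cfsg.Agent.H856.HT.FiveB
end

-- part: H856/HT/FiveC
section
/-!
# S4933, `|P| = 5 ^ 3`: the sets of tuples (helper856)

`z` of order 5, `R` a nonabelian Sylow 5-subgroup of order 125 with `z` in its centre, the noncentral elements of `R`
are not conjugate to `z`.
-/

set_option autoImplicit false
set_option linter.unusedSectionVars false

namespace Cfsg.Agent.H856.HT.FiveC

open Cfsg Subgroup Cfsg.Agent.H856.HT.FiveB
open Cfsg.Agent.H702.E4 (Loc)

universe u

variable {G : Type u} [Group G]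

/-- a `p`-element is conjugate into a subgroup of order the full power of `p` -/
theorem conj_into [Finite G] {p n : ℕ} [hp : Fact p.Prime] (P : Subgroup G) (hP : Nat.card P = p ^ n)
    (hn : ¬ p ^ (n + 1) ∣ Nat.card G) (Q : Subgroup G) (hQ : IsPGroup p Q) :
    ∃ g : G, ∀ x ∈ Q, g * x * g⁻¹ ∈ P := by
  have h1 : IsPGroup p P := IsPGroup.of_card hP
  obtain ⟨S, hS⟩ := h1.exists_le_sylow
  obtain ⟨T, hT⟩ := hQ.exists_le_sylow
  have h2 : (S : Subgroup G) = P := by
    refine (Subgroup.eq_of_le_of_card_ge hS ?_).symm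
    obtain ⟨k, hk⟩ := (IsPGroup.iff_card.1 S.isPGroup')
    rw [hk, hP]
    refine Nat.pow_le_pow_right hp.out.pos ?_
    by_contra hcon
    push Not at hcon
    refine hn ((pow_dvd_pow p hcon).trans ?_)
    rw [← hk]
    exact Subgroup.card_subgroup_dvd_card _
  obtain ⟨g, hg⟩ := MulAction.exists_smul_eq G T S
  refine ⟨g, fun x hx => ?_⟩
  rw [← h2, ← hg]
  rw [Sylow.coe_subgroup_smul]
  exact ⟨x, hT hx, rfl⟩

section

variable [Finite G] {p : ℕ} [hp : Fact p.Prime] {z : G} {R : Subgroup G} (H : Loc p z R)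
  (hF : ∀ r ∈ R, IsConj z r → r ∈ zpowers z)

include H hF

/-- the conjugates of `z` which commute with `z` -/
theorem mem_of_comm {x : G} (hx : IsConj z x) (hxz : x * z = z * x) : x ∈ zpowers z := by
  have hxC : x ∈ centralizer ({z} : Set G) := mem_centralizer_singleton_iff.2 hxz
  have hox : orderOf x = p := by
    obtain ⟨g, rfl⟩ := isConj_iff.1 hx
    rw [← H.oz]
    exact orderOf_injective (MulAut.conj g).toMonoidHom (MulAut.conj g).injective z
  obtain ⟨g, hg⟩ := conj_into (G := centralizer ({z} : Set G)) (p := p) (n := 3)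
    (R.subgroupOf (centralizer ({z} : Set G))) (by
      rw [← H.cR]
      exact Nat.card_congr (Subgroup.subgroupOfEquivOfLe H.Rz).toEquiv)
    (fun h => H.h4 (h.trans (Subgroup.card_subgroup_dvd_card _))) (zpowers ⟨x, hxC⟩) (by
      refine IsPGroup.of_card (n := 1) ?_
      rw [Nat.card_zpowers, Subgroup.orderOf_mk, hox, pow_one])
  have h1 := hg ⟨x, hxC⟩ (mem_zpowers _)
  have h2 : (g : G) * x * (g : G)⁻¹ ∈ R := by
    have := Subgroup.mem_subgroupOf.1 h1
    simpa only [_root_.Subgroup.coe_mul, _root_.InvMemClass.coe_inv] using this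
  have h3 := hF _ h2 (hx.trans (isConj_iff.2 ⟨g, rfl⟩))
  obtain ⟨k, hk⟩ := mem_zpowers_iff.1 h3
  have hgz : (g : G) * z = z * g := mem_centralizer_singleton_iff.1 g.2
  refine mem_zpowers_iff.2 ⟨k, ?_⟩
  have h5 : Commute (z ^ k) (g : G) := (show Commute z (g : G) from hgz.symm).zpow_left k
  have h6 : x = (g : G)⁻¹ * (z ^ k) * g := by rw [hk]; group
  rw [h6, mul_assoc, h5.eq, inv_mul_cancel_left]

end

/-! ### the three sets -/

/-- the conjugates of `z` -/
def T1 (z : G) : Set (G × G × G) := {q | IsConj z q.1 ∧ q.2.1 = 1 ∧ q.2.2 = 1}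

/-- the pairs with product `z` -/
def T2 (z : G) : Set (G × G × G) := {q | IsConj z q.1 ∧ IsConj z q.2.1 ∧ q.2.2 = 1 ∧ q.1 * q.2.1 = z}

/-- the triples with product `z` -/
def T3 (z : G) : Set (G × G × G) := {q | IsConj z q.1 ∧ IsConj z q.2.1 ∧ IsConj z q.2.2 ∧ q.1 * q.2.1 * q.2.2 = z}

theorem isConj_conj {z a g : G} (h : IsConj z a) : IsConj z (g * a * g⁻¹) := h.trans (isConj_iff.2 ⟨g, rfl⟩)

theorem isConj_conj_iff {z a g : G} : IsConj z (g * a * g⁻¹) ↔ IsConj z a :=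
  ⟨fun h => h.trans (isConj_iff.2 ⟨g, rfl⟩ : IsConj a (g * a * g⁻¹)).symm, isConj_conj⟩

theorem conj_eq_one {a g : G} : g * a * g⁻¹ = 1 ↔ a = 1 := by
  rw [mul_inv_eq_one, mul_eq_left]

theorem cnj_T1 (z g : G) (q : G × G × G) : cnj g q ∈ T1 z ↔ q ∈ T1 z := by
  show (IsConj z (g * q.1 * g⁻¹) ∧ g * q.2.1 * g⁻¹ = 1 ∧ g * q.2.2 * g⁻¹ = 1) ↔ (IsConj z q.1 ∧ q.2.1 = 1 ∧ q.2.2 = 1)
  rw [isConj_conj_iff, conj_eq_one, conj_eq_one]

theorem cnj_T2 {z g : G} (hg : g * z = z * g) (q : G × G × G) : cnj g q ∈ T2 z ↔ q ∈ T2 z := by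
  show (IsConj z (g * q.1 * g⁻¹) ∧ IsConj z (g * q.2.1 * g⁻¹) ∧ g * q.2.2 * g⁻¹ = 1 ∧
    (g * q.1 * g⁻¹) * (g * q.2.1 * g⁻¹) = z) ↔ (IsConj z q.1 ∧ IsConj z q.2.1 ∧ q.2.2 = 1 ∧ q.1 * q.2.1 = z)
  rw [isConj_conj_iff, isConj_conj_iff, conj_eq_one]
  have h : (g * q.1 * g⁻¹) * (g * q.2.1 * g⁻¹) = g * (q.1 * q.2.1) * g⁻¹ := by group
  rw [h, mul_inv_eq_iff_eq_mul, ← hg, mul_right_inj]

theorem cnj_T3 {z g : G} (hg : g * z = z * g) (q : G × G × G) : cnj g q ∈ T3 z ↔ q ∈ T3 z := by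
  show (IsConj z (g * q.1 * g⁻¹) ∧ IsConj z (g * q.2.1 * g⁻¹) ∧ IsConj z (g * q.2.2 * g⁻¹) ∧
    (g * q.1 * g⁻¹) * (g * q.2.1 * g⁻¹) * (g * q.2.2 * g⁻¹) = z) ↔
    (IsConj z q.1 ∧ IsConj z q.2.1 ∧ IsConj z q.2.2 ∧ q.1 * q.2.1 * q.2.2 = z)
  rw [isConj_conj_iff, isConj_conj_iff, isConj_conj_iff]
  have h : (g * q.1 * g⁻¹) * (g * q.2.1 * g⁻¹) * (g * q.2.2 * g⁻¹) = g * (q.1 * q.2.1 * q.2.2) * g⁻¹ := by group
  rw [h, mul_inv_eq_iff_eq_mul, ← hg, mul_right_inj]

section five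

variable [Finite G] {z : G} {R : Subgroup G} (H : Loc 5 z R) (hF : ∀ r ∈ R, IsConj z r → r ∈ zpowers z)

include H

theorem rat {i : Fin 5} (hi : i ≠ 0) : IsConj z (z ^ (i : ℕ)) := by
  refine H.rat _ fun h => hi ?_
  apply Fin.ext
  have := i.2
  have h2 := Nat.eq_zero_of_dvd_of_lt h this
  simpa using h2

theorem pow_inj {i j : Fin 5} (h : z ^ (i : ℕ) = z ^ (j : ℕ)) : i = j := by
  have h2 := pow_inj_mod.1 h
  rw [H.oz, Nat.mod_eq_of_lt i.2, Nat.mod_eq_of_lt j.2] at h2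
  exact Fin.ext h2

theorem pow_eq {n : ℕ} : z ^ n = z ↔ n % 5 = 1 := by
  conv_lhs => rw [← pow_one z]
  rw [← pow_mul, one_mul, pow_inj_mod, H.oz]

theorem comm_pow (i : ℕ) (b : G) (hb : b * z = z * b) : z ^ i * b = b * z ^ i :=
  ((show Commute b z from hb).pow_right i).symm.eq

include hF

theorem exists_fin {x : G} (hx : IsConj z x) (hxz : x * z = z * x) : ∃ i : Fin 5, i ≠ 0 ∧ z ^ (i : ℕ) = x := by
  have : Fact (Nat.Prime 5) := ⟨by norm_num⟩
  have h1 := mem_of_comm H hF hx hxz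
  obtain ⟨k, hk⟩ := mem_powers_iff_mem_zpowers.2 h1
  have hk' : z ^ k = x := hk
  have hk2 : z ^ (k % 5) = x := by
    rw [← H.oz, pow_mod_orderOf, hk']
  refine ⟨⟨k % 5, Nat.mod_lt _ (by norm_num)⟩, ?_, hk2⟩
  intro h
  have h2 : k % 5 = 0 := congrArg Fin.val h
  rw [h2, pow_zero] at hk2
  have h3 : z = 1 := by
    rw [← hk2, isConj_one_left] at hx
    exact hx
  have h5 := H.oz
  rw [h3, orderOf_one] at h5
  norm_num at h5

theorem cnt_T1 : cnt (T1 z) z = 4 := by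
  have h : Nat.card {i : Fin 5 // i ≠ 0} = 4 := by
    rw [Nat.card_eq_fintype_card]
    decide
  rw [← h]
  unfold cnt
  symm
  refine Nat.card_congr (Equiv.ofBijective (fun i => ⟨(z ^ (i.1 : ℕ), 1, 1), ⟨rat H i.2, rfl, rfl⟩,
    comm_pow H _ _ rfl, by simp, by simp⟩) ⟨?_, ?_⟩)
  · intro i j hij
    have h1 := congrArg (fun q => q.1.1) hij
    exact Subtype.ext (pow_inj H h1)
  · rintro ⟨⟨x, y, w⟩, ⟨hx, hy, hw⟩, hc, -, -⟩
    obtain ⟨i, hi, hi2⟩ := exists_fin H hF hx hc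
    refine ⟨⟨i, hi⟩, Subtype.ext ?_⟩
    exact Prod.ext hi2 (Prod.ext hy.symm hw.symm)

theorem cnt_T2 : cnt (T2 z) z = 3 := by
  have h : Nat.card {t : Fin 5 × Fin 5 // t.1 ≠ 0 ∧ t.2 ≠ 0 ∧ ((t.1 : ℕ) + t.2) % 5 = 1} = 3 := by
    rw [Nat.card_eq_fintype_card]
    decide
  rw [← h]
  unfold cnt
  symm
  refine Nat.card_congr (Equiv.ofBijective (fun t => ⟨(z ^ (t.1.1 : ℕ), z ^ (t.1.2 : ℕ), 1),
    ⟨rat H t.2.1, rat H t.2.2.1, rfl, ?_⟩, comm_pow H _ _ rfl, comm_pow H _ _ rfl, by simp⟩) ⟨?_, ?_⟩)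
  · show z ^ (t.1.1 : ℕ) * z ^ (t.1.2 : ℕ) = z
    rw [← pow_add, pow_eq H]
    exact t.2.2.2
  · intro i j hij
    have h1 := congrArg (fun q => q.1.1) hij
    have h2 := congrArg (fun q => q.1.2.1) hij
    exact Subtype.ext (Prod.ext (pow_inj H h1) (pow_inj H h2))
  · rintro ⟨⟨x, y, w⟩, ⟨hx, hy, hw, hm⟩, hc, hc2, -⟩
    obtain ⟨i, hi, hi2⟩ := exists_fin H hF hx hc
    obtain ⟨j, hj, hj2⟩ := exists_fin H hF hy hc2
    refine ⟨⟨(i, j), hi, hj, ?_⟩, Subtype.ext ?_⟩
    · have hm' : x * y = z := hm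
      rw [← pow_eq H, pow_add, hi2, hj2]
      exact hm'
    · exact Prod.ext hi2 (Prod.ext hj2 hw.symm)

theorem cnt_T3 : cnt (T3 z) z = 13 := by
  have h : Nat.card {t : Fin 5 × Fin 5 × Fin 5 // t.1 ≠ 0 ∧ t.2.1 ≠ 0 ∧ t.2.2 ≠ 0 ∧
      ((t.1 : ℕ) + t.2.1 + t.2.2) % 5 = 1} = 13 := by
    rw [Nat.card_eq_fintype_card]
    decide +kernel
  rw [← h]
  unfold cnt
  symm
  refine Nat.card_congr (Equiv.ofBijective (fun t => ⟨(z ^ (t.1.1 : ℕ), z ^ (t.1.2.1 : ℕ), z ^ (t.1.2.2 : ℕ)),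
    ⟨rat H t.2.1, rat H t.2.2.1, rat H t.2.2.2.1, ?_⟩, comm_pow H _ _ rfl, comm_pow H _ _ rfl,
    comm_pow H _ _ rfl⟩) ⟨?_, ?_⟩)
  · show z ^ (t.1.1 : ℕ) * z ^ (t.1.2.1 : ℕ) * z ^ (t.1.2.2 : ℕ) = z
    rw [← pow_add, ← pow_add, pow_eq H]
    exact t.2.2.2.2
  · intro i j hij
    have h1 := congrArg (fun q => q.1.1) hij
    have h2 := congrArg (fun q => q.1.2.1) hij
    have h3 := congrArg (fun q => q.1.2.2) hij
    exact Subtype.ext (Prod.ext (pow_inj H h1) (Prod.ext (pow_inj H h2) (pow_inj H h3)))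
  · rintro ⟨⟨x, y, w⟩, ⟨hx, hy, hw, hm⟩, hc, hc2, hc3⟩
    obtain ⟨i, hi, hi2⟩ := exists_fin H hF hx hc
    obtain ⟨j, hj, hj2⟩ := exists_fin H hF hy hc2
    obtain ⟨k, hk, hk2⟩ := exists_fin H hF hw hc3
    refine ⟨⟨(i, j, k), hi, hj, hk, ?_⟩, Subtype.ext ?_⟩
    · have hm' : x * y * w = z := hm
      rw [← pow_eq H, pow_add, pow_add, hi2, hj2, hk2]
      exact hm'
    · exact Prod.ext hi2 (Prod.ext hj2 hk2)

end five

end Cfsg.Agent.H856.HT.FiveC
end

-- part: H597/HT/TransL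
section
/-!
# S4933, PART A of the box Co2.5: the transfer lemma in the centraliser of a noncentral element (helper597)

`C` has Sylow `p`-subgroups of order `p ^ 2`, `a` is central of order `p`, `z` another element of order `p` of the Sylow
`p`-subgroup `S`, `X` a normal set of elements of order `p` meeting `S` in `⟨z⟩ - 1`.  Then the elements of `X` are the elements
of order `p` of a subgroup `L` with Sylow `p`-subgroups of order `p`.
-/

set_option autoImplicit false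

namespace Cfsg.Agent.H597.HT.TransL

open Subgroup

universe u

theorem mem_of_pow_mem {C : Type u} [Group C] [Finite C] {p n : ℕ} [hp : Fact p.Prime] {x : C} (hx : orderOf x = p) (hn : ¬ p ∣ n)
    {K : Subgroup C} (h : x ^ n ∈ K) : x ∈ K := by
  have h1 : Nat.Coprime (orderOf x) n := by
    rw [hx]
    exact (hp.out.coprime_iff_not_dvd).2 hn
  have h2 : x ∈ Subgroup.zpowers (x ^ n) := by
    have h3 : orderOf (x ^ n) = orderOf x := (Nat.Coprime.orderOf_pow h1)
    have h4 : Subgroup.zpowers (x ^ n) = Subgroup.zpowers x := by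
      apply Subgroup.eq_of_le_of_card_ge
      · rw [Subgroup.zpowers_le]
        exact Subgroup.npow_mem_zpowers x n
      · rw [Nat.card_zpowers, Nat.card_zpowers, h3]
    rw [h4]
    exact Subgroup.mem_zpowers x
  exact (Subgroup.zpowers_le.2 h) h2

theorem exists_L {C : Type u} [Group C] [Finite C] {p m : ℕ} [Fact p.Prime] (hC : Nat.card C = p ^ 2 * m) (hm : ¬ p ∣ m)
    {a z : C} (ha : orderOf a = p) (hz : orderOf z = p) (hac : ∀ g : C, a * g = g * a) (haz : a ∉ Subgroup.zpowers z)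
    (S : Subgroup C) (hS : Nat.card S = p ^ 2) (haS : a ∈ S) (hzS : z ∈ S) (X : Set C)
    (hXc : ∀ x ∈ X, ∀ g : C, g * x * g⁻¹ ∈ X) (hXo : ∀ x ∈ X, orderOf x = p)
    (hXS : ∀ x ∈ X, x ∈ S → x ∈ Subgroup.zpowers z) (hXz : ∀ k : ℕ, ¬ p ∣ k → z ^ k ∈ X) :
    ∃ L : Subgroup C, (∃ l : ℕ, Nat.card L = p * l ∧ ¬ p ∣ l) ∧ (∀ x ∈ X, x ∈ L) ∧ ∀ x ∈ L, orderOf x = p → x ∈ X := by
  classical
  have hp : p.Prime := Fact.out
  have hcomm : ∀ x y : S, x * y = y * x := fun x y =>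
    (IsPGroup.commGroupOfCardEqPrimeSq hS).mul_comm x y
  let _ : CommGroup S := { (inferInstance : Group S) with mul_comm := hcomm }
  let Z0 : Subgroup S := Subgroup.zpowers ⟨z, hzS⟩
  let φ : S →* S ⧸ Z0 := QuotientGroup.mk' Z0
  have hφ : ∀ s : S, (s : C) ∈ Subgroup.zpowers z → φ s = 1 := by
    intro s hs
    obtain ⟨k, hk⟩ := Subgroup.mem_zpowers_iff.1 hs
    refine (QuotientGroup.eq_one_iff s).2 (Subgroup.mem_zpowers_iff.2 ⟨k, Subtype.ext ?_⟩)
    rw [← hk]
    rfl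
  have hφ' : ∀ s : S, φ s = 1 → (s : C) ∈ Subgroup.zpowers z := by
    intro s hs
    obtain ⟨k, hk⟩ := Subgroup.mem_zpowers_iff.1 ((QuotientGroup.eq_one_iff s).1 hs)
    refine Subgroup.mem_zpowers_iff.2 ⟨k, ?_⟩
    rw [← hk]
    rfl
  let T : C →* S ⧸ Z0 := MonoidHom.transfer φ
  have hX : ∀ x ∈ X, T x = 1 := by
    intro x hx
    have : Fintype (Quotient (MulAction.orbitRel (Subgroup.zpowers x) (C ⧸ S))) := Fintype.ofFinite _
    show MonoidHom.transfer φ x = 1
    rw [MonoidHom.transfer_eq_prod_quotient_orbitRel_zpowers_quot]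
    refine Finset.prod_eq_one fun q _ => hφ _ ?_
    have hmem := QuotientGroup.out_conj_pow_minimalPeriod_mem S x q.out
    show q.out.out⁻¹ * x ^ Function.minimalPeriod (x • ·) q.out * q.out.out ∈ Subgroup.zpowers z
    generalize Function.minimalPeriod (x • ·) q.out = n at hmem ⊢
    generalize q.out.out = g at hmem ⊢
    by_cases hn : p ∣ n
    · have h1 : x ^ n = 1 := by
        rw [← orderOf_dvd_iff_pow_eq_one, hXo x hx]
        exact hn
      rw [h1, mul_one, inv_mul_cancel]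
      exact Subgroup.one_mem _
    · have h1 : g⁻¹ * x ^ n * g = (g⁻¹ * x * g) ^ n := by
        have := conj_pow (i := n) (a := g⁻¹) (b := x)
        rw [inv_inv] at this
        exact this.symm
      have h2 : g⁻¹ * x * g ∈ X := by
        have := hXc x hx g⁻¹
        rwa [inv_inv] at this
      rw [h1] at hmem ⊢
      exact Subgroup.pow_mem _ (hXS _ h2 (mem_of_pow_mem (hXo _ h2) hn hmem)) n
  have hind : S.index = m := by
    have h1 := S.card_mul_index
    rw [hC, hS] at h1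
    exact Nat.eq_of_mul_eq_mul_left (pow_pos hp.pos 2) h1
  have hTa : T a ≠ 1 := by
    intro h
    have key : ∀ (k : ℕ) (g₀ : C), g₀⁻¹ * a ^ k * g₀ ∈ S → g₀⁻¹ * a ^ k * g₀ = a ^ k := by
      intro k g₀ _
      have h1 : Commute (a ^ k) g₀ := Commute.pow_left (hac g₀) k
      rw [mul_assoc, h1.eq, inv_mul_cancel_left]
    have h1 : T a = φ ⟨a ^ S.index, MonoidHom.transfer_eq_pow_aux a key⟩ := MonoidHom.transfer_eq_pow φ a key
    rw [h] at h1
    have h2 := hφ' _ h1.symm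
    have h3 : a ^ S.index ∈ Subgroup.zpowers z := h2
    rw [hind] at h3
    exact haz (mem_of_pow_mem ha hm h3)
  have hZ0 : Nat.card Z0 = p := by
    rw [Nat.card_zpowers, ← hz]
    exact Subgroup.orderOf_mk z hzS
  have hQ : Nat.card (S ⧸ Z0) = p := by
    have h1 := Z0.card_eq_card_quotient_mul_card_subgroup
    rw [hS, hZ0, pow_two] at h1
    exact (Nat.eq_of_mul_eq_mul_right hp.pos h1).symm
  have hL : Nat.card T.ker = p * m := by
    have h1 : Nat.card T.range = p := by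
      have h2 : Nat.card T.range ∣ p := hQ ▸ Subgroup.card_subgroup_dvd_card T.range
      rcases (Nat.dvd_prime hp).1 h2 with h3 | h3
      · exfalso
        apply hTa
        have h4 : T.range = ⊥ := Subgroup.card_eq_one.1 h3
        have h5 : T a ∈ T.range := ⟨a, rfl⟩
        rw [h4] at h5
        exact Subgroup.mem_bot.1 h5
      · exact h3
    have h2 := T.ker.card_mul_index
    rw [Subgroup.index_ker, h1, hC] at h2
    have h3 : Nat.card T.ker * p = (p * m) * p := by rw [h2]; ring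
    exact Nat.eq_of_mul_eq_mul_right hp.pos h3
  refine ⟨T.ker, ⟨m, hL, hm⟩, fun x hx => T.mem_ker.2 (hX x hx), ?_⟩
  intro y hy hyo
  have hzX : z ∈ X := by
    have := hXz 1 (fun h => hp.one_lt.ne' (Nat.dvd_one.1 h))
    rwa [pow_one] at this
  have hzL : z ∈ T.ker := T.mem_ker.2 (hX z hzX)
  have hfac : Nat.card T.ker = p ^ 1 * m := by rw [hL, pow_one]
  let y' : T.ker := ⟨y, hy⟩
  let z' : T.ker := ⟨z, hzL⟩
  have hyo' : orderOf y' = p := by rw [← hyo]; exact Subgroup.orderOf_mk y hy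
  have hzo' : orderOf z' = p := by rw [← hz]; exact Subgroup.orderOf_mk z hzL
  have hfz : (Nat.card T.ker).factorization p = 1 := by
    rw [hL, Nat.factorization_mul hp.ne_zero (fun h => hm (by rw [h]; exact dvd_zero p)), Finsupp.add_apply,
      hp.factorization_self, Nat.factorization_eq_zero_of_not_dvd hm]
  let P : Sylow p T.ker := Sylow.ofCard (Subgroup.zpowers y') (by rw [Nat.card_zpowers, hyo', hfz, pow_one])
  let Q : Sylow p T.ker := Sylow.ofCard (Subgroup.zpowers z') (by rw [Nat.card_zpowers, hzo', hfz, pow_one])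
  obtain ⟨g, hg⟩ := MulAction.exists_smul_eq T.ker P Q
  have h1 : g * y' * g⁻¹ ∈ (Q : Subgroup T.ker) := by
    rw [← hg]
    have h2 : y' ∈ (P : Subgroup T.ker) := Subgroup.mem_zpowers y'
    rw [Sylow.smul_def]
    exact Subgroup.smul_mem_pointwise_smul _ (MulAut.conj g) _ h2
  have h3 : g * y' * g⁻¹ ∈ Subgroup.zpowers z' := h1
  obtain ⟨k, hk⟩ := (mem_powers_iff_mem_zpowers.2 h3)
  have hk' : z ^ k = g * y * (g : C)⁻¹ := by
    have := congrArg (Subtype.val) hk
    simpa only [_root_.SubmonoidClass.coe_pow, _root_.Subgroup.coe_mul, _root_.InvMemClass.coe_inv] using this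
  have hpk : ¬ p ∣ k := by
    intro hd
    have h4 : z ^ k = 1 := by rw [← orderOf_dvd_iff_pow_eq_one, hz]; exact hd
    rw [h4] at hk'
    have h5 : y = 1 := by
      have h6 : (g : C) * y = g := by
        have := congrArg (· * (g : C)) hk'
        simpa only [_root_.mul_eq_left, _root_.inv_mul_cancel_right, _root_.one_mul] using this.symm
      exact mul_eq_left.1 h6
    rw [h5, orderOf_one] at hyo
    exact hp.one_lt.ne hyo
  have h4 := hXc _ (hXz k hpk) (g : C)⁻¹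
  rw [hk', inv_inv] at h4
  have h5 : (g : C)⁻¹ * (g * y * (g : C)⁻¹) * g = y := by group
  rwa [h5] at h4

end Cfsg.Agent.H597.HT.TransL
end

-- part: H856/HT/FiveD
section
/-!
# S4933, `|P| = 5 ^ 3`: the noncentral elements of `R` (helper856)
-/

set_option autoImplicit false
set_option linter.unusedSectionVars false

namespace Cfsg.Agent.H856.HT.FiveD

open Cfsg Subgroup Cfsg.Agent.H856.HT.FiveB Cfsg.Agent.H856.HT.FiveC
open Cfsg.Agent.H702.E4 (Loc)

universe u

variable {G : Type u} [Group G] [Finite G] {z : G} {R : Subgroup G} (H : Loc 5 z R)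
  (hF : ∀ r ∈ R, IsConj z r → r ∈ zpowers z)

include H

theorem isConj_of_mem {x : G} (hx : x ∈ zpowers z) (hx1 : x ≠ 1) : IsConj z x := by
  obtain ⟨k, hk⟩ := mem_powers_iff_mem_zpowers.2 hx
  have hk' : z ^ k = x := hk
  rw [← hk']
  refine H.rat k fun h => hx1 ?_
  rw [← hk', ← orderOf_dvd_iff_pow_eq_one, H.oz]
  exact h

theorem z_ne : z ≠ 1 := by
  intro h
  have h5 := H.oz
  rw [h, orderOf_one] at h5
  norm_num at h5

theorem order_R {a : G} (ha : a ∈ R) (ha1 : a ≠ 1) : orderOf a = 5 :=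
  orderOf_eq_prime (hp := ⟨by norm_num⟩) (H.ex a ha) ha1

theorem ne_one {a : G} (haz : a ∉ zpowers z) : a ≠ 1 := by
  rintro rfl
  exact haz (one_mem _)

theorem exists_nc {a : G} (ha : a ∈ R) (haz : a ∉ zpowers z) : ∃ s ∈ R, s * a ≠ a * s := by
  have : Fact (Nat.Prime 5) := ⟨by norm_num⟩
  obtain ⟨s, hs, h⟩ := H.conj_mul ha haz (mem_zpowers z)
  refine ⟨s, hs, fun h2 => ?_⟩
  rw [h2, mul_inv_cancel_right] at h
  exact z_ne H (mul_eq_left.1 h.symm)

theorem card_CR {a : G} (ha : a ∈ R) (haz : a ∉ zpowers z) :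
    Nat.card (R ⊓ centralizer ({a} : Set G) : Subgroup G) = 5 ^ 2 := by
  have : Fact (Nat.Prime 5) := ⟨by norm_num⟩
  have h1 : Nat.card (R ⊓ centralizer ({a} : Set G) : Subgroup G) ∣ 5 ^ 3 := by
    rw [← H.cR]
    exact card_dvd_of_le inf_le_left
  obtain ⟨k, hk, hk2⟩ := (Nat.dvd_prime_pow (by norm_num)).1 h1
  have ha5 : orderOf a = 5 := order_R H ha (ne_one H haz)
  have haC : zpowers a ≤ R ⊓ centralizer ({a} : Set G) := by
    rw [zpowers_le]
    exact ⟨ha, mem_centralizer_singleton_iff.2 rfl⟩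
  have hzC : z ∈ R ⊓ centralizer ({a} : Set G) :=
    ⟨H.zR, mem_centralizer_singleton_iff.2 (mem_centralizer_singleton_iff.1 (H.Rz ha)).symm⟩
  have hk3 : k ≠ 3 := by
    rintro rfl
    have h2 : R ⊓ centralizer ({a} : Set G) = R :=
      Subgroup.eq_of_le_of_card_ge inf_le_left (by rw [hk2, H.cR])
    obtain ⟨s, hs, hne⟩ := exists_nc H ha haz
    rw [← h2] at hs
    exact hne (mem_centralizer_singleton_iff.1 hs.2)
  have hk1 : 2 ≤ k := by
    by_contra hcon
    have h3 : zpowers a = R ⊓ centralizer ({a} : Set G) := by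
      refine Subgroup.eq_of_le_of_card_ge haC ?_
      rw [hk2, Nat.card_zpowers, ha5]
      calc 5 ^ k ≤ 5 ^ 1 := Nat.pow_le_pow_right (by norm_num) (by omega)
        _ = 5 := by norm_num
    rw [← h3] at hzC
    have h4 : zpowers z = zpowers a := by
      refine Subgroup.eq_of_le_of_card_ge (zpowers_le.2 hzC) ?_
      rw [Nat.card_zpowers, Nat.card_zpowers, ha5, H.oz]
    exact haz (h4 ▸ mem_zpowers a)
  have hk4 : k = 2 := by omega
  rw [hk2, hk4]

include hF

theorem not_dvd_C {a : G} (ha : a ∈ R) (haz : a ∉ zpowers z) :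
    ¬ 5 ^ 3 ∣ Nat.card (centralizer ({a} : Set G)) := by
  have : Fact (Nat.Prime 5) := ⟨by norm_num⟩
  intro h3
  have ha5 : orderOf a = 5 := order_R H ha (ne_one H haz)
  have haC : a ∈ centralizer ({a} : Set G) := mem_centralizer_singleton_iff.2 rfl
  have hap : IsPGroup 5 (zpowers (⟨a, haC⟩ : centralizer ({a} : Set G))) := by
    refine IsPGroup.of_card (n := 1) ?_
    rw [Nat.card_zpowers, Subgroup.orderOf_mk, ha5, pow_one]
  obtain ⟨T, hT⟩ := hap.exists_le_sylow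
  have hTc : 5 ^ 3 ∣ Nat.card T := T.pow_dvd_card_of_pow_dvd_card h3
  obtain ⟨Q, hQ⟩ : ∃ Q : Subgroup G, Q = (T : Subgroup (centralizer ({a} : Set G))).map (centralizer ({a} : Set G)).subtype :=
    ⟨_, rfl⟩
  have hQp : IsPGroup 5 Q := by
    rw [hQ]
    exact T.isPGroup'.map _
  have hQc : Nat.card Q = Nat.card T := by
    rw [hQ]
    exact Subgroup.card_map_of_injective (Subgroup.subtype_injective _)
  have haQ : a ∈ Q := by
    rw [hQ]
    exact ⟨⟨a, haC⟩, hT (mem_zpowers _), rfl⟩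
  have hQa : ∀ q ∈ Q, q * a = a * q := by
    intro q hq
    rw [hQ] at hq
    obtain ⟨t, -, rfl⟩ := hq
    exact mem_centralizer_singleton_iff.1 t.2
  obtain ⟨g, hg⟩ := conj_into (p := 5) (n := 3) R H.cR H.h4 Q hQp
  have hinj : Function.Injective (fun q : Q => (⟨g * q * g⁻¹, hg q q.2⟩ : R)) := by
    intro x y hxy
    have h4 : g * (x : G) * g⁻¹ = g * y * g⁻¹ := congrArg Subtype.val hxy
    exact Subtype.ext (by simpa only [_root_.SetLike.coe_eq_coe, _root_.mul_left_inj, _root_.mul_right_inj] using h4)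
  have hle : Nat.card R ≤ Nat.card Q := by
    rw [H.cR, hQc]
    exact Nat.le_of_dvd Nat.card_pos hTc
  have hsurj : Function.Surjective (fun q : Q => (⟨g * q * g⁻¹, hg q q.2⟩ : R)) :=
    (Function.Injective.bijective_of_nat_card_le hinj hle).2
  have hcen : ∀ r ∈ R, r * (g * a * g⁻¹) = (g * a * g⁻¹) * r := by
    intro r hr
    obtain ⟨q, hq⟩ := hsurj ⟨r, hr⟩
    have h5 : g * (q : G) * g⁻¹ = r := congrArg Subtype.val hq
    have h6 := hQa q q.2
    rw [← h5]
    calc g * (q : G) * g⁻¹ * (g * a * g⁻¹) = g * ((q : G) * a) * g⁻¹ := by group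
      _ = g * (a * q) * g⁻¹ := by rw [h6]
      _ = _ := by group
  have hmem : g * a * g⁻¹ ∈ zpowers z := by
    by_contra hcon
    obtain ⟨s, hs, hne⟩ := exists_nc H (hg a haQ) hcon
    exact hne (hcen s hs)
  have hne1 : g * a * g⁻¹ ≠ 1 := by
    rw [Ne, conj_eq_one]
    exact ne_one H haz
  exact haz (hF a ha (isConj_conj_iff.1 (isConj_of_mem H hmem hne1)))

/-- **a noncentral element of `R`** -/
theorem dvd_twentyfive {a : G} (ha : a ∈ R) (haz : a ∉ zpowers z) :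
    (25 : ℤ) ∣ (cnt (T3 z) a : ℤ) - 3 * (cnt (T1 z) a : ℤ) * (cnt (T2 z) a : ℤ) + 3 * (cnt (T1 z) a : ℤ) ^ 2 := by
  have : Fact (Nat.Prime 5) := ⟨by norm_num⟩
  obtain ⟨C, hC⟩ : ∃ C : Subgroup G, C = centralizer ({a} : Set G) := ⟨_, rfl⟩
  have hmemC : ∀ x : G, x ∈ C ↔ x * a = a * x := fun x => by rw [hC]; exact mem_centralizer_singleton_iff
  have haz' : a * z = z * a := mem_centralizer_singleton_iff.1 (H.Rz ha)
  have haC : a ∈ C := (hmemC a).2 rfl
  have hzC : z ∈ C := (hmemC z).2 haz'.symm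
  have h25 : 5 ^ 2 ∣ Nat.card C := by
    rw [← card_CR H ha haz, hC]
    exact card_dvd_of_le inf_le_right
  obtain ⟨m, hm⟩ := h25
  have hm5 : ¬ 5 ∣ m := by
    rintro ⟨k, rfl⟩
    refine not_dvd_C H hF ha haz ⟨k, ?_⟩
    rw [← hC, hm]
    ring
  obtain ⟨L, ⟨l, hL, hl⟩, hXL, hLX⟩ := Cfsg.Agent.H597.HT.TransL.exists_L (C := C) (p := 5) (m := m) hm hm5
    (a := ⟨a, haC⟩) (z := ⟨z, hzC⟩) (by rw [Subgroup.orderOf_mk]; exact order_R H ha (ne_one H haz))
    (by rw [Subgroup.orderOf_mk]; exact H.oz)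
    (fun g => Subtype.ext ((hmemC g).1 g.2).symm)
    (fun h => haz (by
      obtain ⟨k, hk⟩ := mem_zpowers_iff.1 h
      exact mem_zpowers_iff.2 ⟨k, congrArg Subtype.val hk⟩))
    ((R ⊓ C).subgroupOf C) (by
      rw [← card_CR H ha haz, ← hC]
      exact Nat.card_congr (Subgroup.subgroupOfEquivOfLe inf_le_right).toEquiv)
    (Subgroup.mem_subgroupOf.2 ⟨ha, haC⟩) (Subgroup.mem_subgroupOf.2 ⟨H.zR, hzC⟩)
    {x : C | IsConj z (x : G)} (fun x hx g => isConj_conj hx)
    (fun x hx => by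
      obtain ⟨g, hg⟩ := isConj_iff.1 hx
      rw [← Subgroup.orderOf_coe, ← hg, ← H.oz]
      exact orderOf_injective (MulAut.conj g).toMonoidHom (MulAut.conj g).injective z)
    (fun x hx hxS => by
      obtain ⟨k, hk⟩ := mem_zpowers_iff.1 (hF _ (Subgroup.mem_subgroupOf.1 hxS).1 hx)
      exact mem_zpowers_iff.2 ⟨k, Subtype.ext hk⟩)
    (fun k hk => H.rat k hk)
  -- membership
  have hiff : ∀ x : L, orderOf x = 5 ↔ IsConj z ((x : C) : G) := by
    intro x
    constructor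
    · intro hx
      exact hLX x.1 x.2 (by rw [Subgroup.orderOf_coe]; exact hx)
    · intro hx
      obtain ⟨g, hg⟩ := isConj_iff.1 hx
      rw [← Subgroup.orderOf_coe, ← Subgroup.orderOf_coe, ← hg, ← H.oz]
      exact orderOf_injective (MulAut.conj g).toMonoidHom (MulAut.conj g).injective z
  have hlift : ∀ x : G, IsConj z x → x * a = a * x → ∃ y : L, ((y : C) : G) = x := fun x hx hxa =>
    ⟨⟨⟨x, (hmemC x).2 hxa⟩, hXL _ hx⟩, rfl⟩
  have hcoe : ∀ x y : L, ((x : C) : G) = ((y : C) : G) → x = y := fun x y h => Subtype.ext (Subtype.ext h)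
  obtain ⟨zL, hzL⟩ := hlift z (IsConj.refl z) haz'.symm
  have hzo : orderOf zL = 5 := (hiff zL).2 (by rw [hzL])
  have hco : ∀ x : L, ((x : C) : G) * a = a * ((x : C) : G) := fun x => (hmemC _).1 x.1.2
  have e1 : Nat.card {x : L // orderOf x = 5} = cnt (T1 z) a := by
    unfold cnt
    refine Nat.card_congr (Equiv.ofBijective (fun x => ⟨(((x.1 : C) : G), 1, 1), ⟨(hiff x.1).1 x.2, rfl, rfl⟩,
      hco x.1, by simp, by simp⟩) ⟨?_, ?_⟩)
    · intro x y hxy
      exact Subtype.ext (hcoe _ _ (congrArg (fun q => q.1.1) hxy))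
    · rintro ⟨⟨x, y, w⟩, ⟨hx, hy, hw⟩, hc, -, -⟩
      obtain ⟨x', hx'⟩ := hlift x hx hc
      refine ⟨⟨x', (hiff x').2 (by rw [hx']; exact hx)⟩, Subtype.ext ?_⟩
      exact Prod.ext hx' (Prod.ext hy.symm hw.symm)
  have e2 : Nat.card {q : L × L // orderOf q.1 = 5 ∧ orderOf q.2 = 5 ∧ q.1 * q.2 = zL} = cnt (T2 z) a := by
    unfold cnt
    refine Nat.card_congr (Equiv.ofBijective (fun q => ⟨(((q.1.1 : C) : G), ((q.1.2 : C) : G), 1),
      ⟨(hiff _).1 q.2.1, (hiff _).1 q.2.2.1, rfl, ?_⟩, hco _, hco _, by simp⟩) ⟨?_, ?_⟩)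
    · have h := q.2.2.2
      show ((q.1.1 : C) : G) * ((q.1.2 : C) : G) = z
      rw [← hzL]
      exact congrArg (fun x : L => ((x : C) : G)) h
    · intro x y hxy
      exact Subtype.ext (Prod.ext (hcoe _ _ (congrArg (fun q => q.1.1) hxy)) (hcoe _ _ (congrArg (fun q => q.1.2.1) hxy)))
    · rintro ⟨⟨x, y, w⟩, ⟨hx, hy, hw, hm'⟩, hc, hc2, -⟩
      obtain ⟨x', hx'⟩ := hlift x hx hc
      obtain ⟨y', hy'⟩ := hlift y hy hc2
      refine ⟨⟨(x', y'), (hiff x').2 (by rw [hx']; exact hx), (hiff y').2 (by rw [hy']; exact hy), ?_⟩, Subtype.ext ?_⟩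
      · apply hcoe
        rw [hzL]
        show ((x' : C) : G) * ((y' : C) : G) = z
        rw [hx', hy']
        exact hm'
      · exact Prod.ext hx' (Prod.ext hy' hw.symm)
  have e3 : Nat.card {q : L × L × L // orderOf q.1 = 5 ∧ orderOf q.2.1 = 5 ∧ orderOf q.2.2 = 5 ∧
      q.1 * q.2.1 * q.2.2 = zL} = cnt (T3 z) a := by
    unfold cnt
    refine Nat.card_congr (Equiv.ofBijective (fun q => ⟨(((q.1.1 : C) : G), ((q.1.2.1 : C) : G), ((q.1.2.2 : C) : G)),
      ⟨(hiff _).1 q.2.1, (hiff _).1 q.2.2.1, (hiff _).1 q.2.2.2.1, ?_⟩, hco _, hco _, hco _⟩) ⟨?_, ?_⟩)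
    · have h := q.2.2.2.2
      show ((q.1.1 : C) : G) * ((q.1.2.1 : C) : G) * ((q.1.2.2 : C) : G) = z
      rw [← hzL]
      exact congrArg (fun x : L => ((x : C) : G)) h
    · intro x y hxy
      exact Subtype.ext (Prod.ext (hcoe _ _ (congrArg (fun q => q.1.1) hxy))
        (Prod.ext (hcoe _ _ (congrArg (fun q => q.1.2.1) hxy)) (hcoe _ _ (congrArg (fun q => q.1.2.2) hxy))))
    · rintro ⟨⟨x, y, w⟩, ⟨hx, hy, hw, hm'⟩, hc, hc2, hc3⟩
      obtain ⟨x', hx'⟩ := hlift x hx hc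
      obtain ⟨y', hy'⟩ := hlift y hy hc2
      obtain ⟨w', hw'⟩ := hlift w hw hc3
      refine ⟨⟨(x', y', w'), (hiff x').2 (by rw [hx']; exact hx), (hiff y').2 (by rw [hy']; exact hy),
        (hiff w').2 (by rw [hw']; exact hw), ?_⟩, Subtype.ext ?_⟩
      · apply hcoe
        rw [hzL]
        show ((x' : C) : G) * ((y' : C) : G) * ((w' : C) : G) = z
        rw [hx', hy', hw']
        exact hm'
      · exact Prod.ext hx' (Prod.ext hy' hw')
  have hmain := Cfsg.Agent.H856.HT.FiveA.main (L := L) (p := 5) (l := l) (by norm_num) hL hl hzo e1 e2 e3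
  norm_num only [] at hmain
  exact hmain

end Cfsg.Agent.H856.HT.FiveD
end

-- part: H856/HT/FiveE
section
/-!
# S4933, `|P| = 5 ^ 3` (helper856)

**`exists_mem`** : `R` a nonabelian Sylow 5-subgroup of order 125 and exponent 5 of `G`, `z` rational of order 5 in the
centre of `R`, the noncentral elements of `R` are not conjugate to `z`, `C(z)` has one 5-block: the principal 5-block of
`G` contains a character of degree divisible by 5.
-/

set_option autoImplicit false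
set_option linter.unusedSectionVars false

namespace Cfsg.Agent.H856.HT.FiveE

open Cfsg Subgroup Cfsg.Agent.H856.HT.FiveB Cfsg.Agent.H856.HT.FiveC Cfsg.Agent.H856.HT.FiveD
open Cfsg.Agent.H702.E4 (Loc)

universe u

variable {G : Type u} [Group G] [Finite G] {z : G} {R : Subgroup G} (H : Loc 5 z R)
  (hF : ∀ r ∈ R, IsConj z r → r ∈ zpowers z)

theorem com_of_mem {b z' : G} (hb : b ∈ zpowers z') {q : G × G × G} (h : com q z') : com q b := by
  obtain ⟨k, rfl⟩ := mem_zpowers_iff.1 hb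
  exact ⟨((show Commute q.1 z' from h.1).zpow_right k).eq, ((show Commute q.2.1 z' from h.2.1).zpow_right k).eq,
    ((show Commute q.2.2 z' from h.2.2).zpow_right k).eq⟩

include H

theorem zpowers_eq {b : G} (hb : b ∈ zpowers z) (hb1 : b ≠ 1) : zpowers z = zpowers b := by
  have : Fact (Nat.Prime 5) := ⟨by norm_num⟩
  refine (Subgroup.eq_of_le_of_card_ge (zpowers_le.2 hb) ?_).symm
  rw [Nat.card_zpowers, Nat.card_zpowers, H.oz, order_R H ((zpowers_le.2 H.zR) hb) hb1]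

theorem cnt_mem (T : Set (G × G × G)) {b : G} (hb : b ∈ zpowers z) (hb1 : b ≠ 1) : cnt T b = cnt T z := by
  unfold cnt
  refine Nat.card_congr (Equiv.subtypeEquivRight fun q => and_congr_right fun _ => ⟨fun h => ?_, fun h => ?_⟩)
  · exact com_of_mem (zpowers_eq H hb hb1 ▸ mem_zpowers z) h
  · exact com_of_mem hb h

/-- modulo 5 -/
theorem cnt_mod (T : Set (G × G × G)) (hT : ∀ g : G, g * z = z * g → ∀ q, cnj g q ∈ T ↔ q ∈ T)
    (hTz : ∀ q ∈ T, com q z → ∀ b : G, b * z = z * b → com q b) {a : G} (ha : a * z = z * a) :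
    5 ∣ cnt T a + 4 * cnt T z := by
  classical
  have _ := Fintype.ofFinite (zpowers z)
  have hzz : ∀ b ∈ zpowers z, b * z = z * b := by
    intro b hb
    obtain ⟨k, rfl⟩ := mem_zpowers_iff.1 hb
    exact ((Commute.refl z).zpow_left k).eq
  have haz : ∀ b ∈ zpowers z, b * a = a * b := by
    intro b hb
    obtain ⟨k, rfl⟩ := mem_zpowers_iff.1 hb
    exact ((show Commute z a from ha.symm).zpow_left k).eq
  have h := burn (zpowers z) {q | q ∈ T ∧ com q a} (by
    rintro u hu q ⟨hq, hqa⟩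
    refine ⟨(hT u (hzz u hu) q).2 hq, ?_⟩
    have h1 := (cnj_eq_iff _ _).2 hqa
    rw [← cnj_eq_iff, ← cnj_mul, ← haz u hu, cnj_mul, h1])
  rw [Nat.card_zpowers, H.oz] at h
  have h0 : cnt {q : G × G × G | q ∈ T ∧ com q a} ((1 : zpowers z) : G) = cnt T a := by
    unfold cnt
    refine Nat.card_congr (Equiv.subtypeEquivRight fun q => ⟨fun h => ⟨h.1.1, h.1.2⟩, fun h => ⟨⟨h.1, h.2⟩, ?_⟩⟩)
    exact ⟨by simp, by simp, by simp⟩
  have h1 : ∀ b ∈ (Finset.univ : Finset (zpowers z)).erase 1, cnt {q : G × G × G | q ∈ T ∧ com q a} (b : G) = cnt T z := by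
    intro b hb
    have hb1 : (b : G) ≠ 1 := fun h => (Finset.ne_of_mem_erase hb) (Subtype.ext h)
    rw [cnt_mem H _ b.2 hb1]
    unfold cnt
    refine Nat.card_congr (Equiv.subtypeEquivRight fun q => ⟨fun h => ⟨h.1.1, h.2⟩, fun h => ⟨⟨h.1, ?_⟩, h.2⟩⟩)
    exact hTz q h.1 h.2 a ha
  rw [← Finset.add_sum_erase _ _ (Finset.mem_univ (1 : zpowers z)), h0, Finset.sum_congr rfl h1, Finset.sum_const,
    Finset.card_erase_of_mem (Finset.mem_univ _), Finset.card_univ, ← Nat.card_eq_fintype_card, Nat.card_zpowers,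
    H.oz, smul_eq_mul] at h
  exact h

include hF

theorem com_z {x : G} (hx : IsConj z x) (hxz : x * z = z * x) {b : G} (hb : b * z = z * b) : x * b = b * x := by
  have : Fact (Nat.Prime 5) := ⟨by norm_num⟩
  obtain ⟨k, rfl⟩ := mem_zpowers_iff.1 (mem_of_comm H hF hx hxz)
  exact ((show Commute b z from hb).zpow_right k).symm.eq

theorem hT1 (q : G × G × G) (hq : q ∈ T1 z) (hc : com q z) (b : G) (hb : b * z = z * b) : com q b := by
  obtain ⟨h1, h2, h3⟩ := hq
  exact ⟨com_z H hF h1 hc.1 hb, by rw [h2]; simp, by rw [h3]; simp⟩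

theorem hT2 (q : G × G × G) (hq : q ∈ T2 z) (hc : com q z) (b : G) (hb : b * z = z * b) : com q b := by
  obtain ⟨h1, h2, h3, -⟩ := hq
  exact ⟨com_z H hF h1 hc.1 hb, com_z H hF h2 hc.2.1 hb, by rw [h3]; simp⟩

theorem dvd_T1 {a : G} (ha : a * z = z * a) : 5 ∣ cnt (T1 z) a + 1 := by
  have h := cnt_mod H (T1 z) (fun g _ q => cnj_T1 z g q) (hT1 H hF) ha
  rw [cnt_T1 H hF] at h
  omega

theorem dvd_T2 {a : G} (ha : a * z = z * a) : 5 ∣ cnt (T2 z) a + 2 := by
  have h := cnt_mod H (T2 z) (fun g hg q => cnj_T2 hg q) (hT2 H hF) ha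
  rw [cnt_T2 H hF] at h
  omega

/-- the summand -/
noncomputable def tau (z b : G) : ℤ :=
  (cnt (T3 z) b : ℤ) - 3 * (cnt (T1 z) 1 : ℤ) * (cnt (T2 z) b : ℤ) + 3 * (cnt (T1 z) 1 : ℤ) ^ 2

theorem dvd_tau {a : G} (ha : a ∈ R) (haz : a ∉ zpowers z) : (25 : ℤ) ∣ tau z a := by
  have hc : a * z = z * a := mem_centralizer_singleton_iff.1 (H.Rz ha)
  obtain ⟨k, hk⟩ := dvd_twentyfive H hF ha haz
  obtain ⟨e, he⟩ := dvd_T1 H hF hc
  obtain ⟨d, hd⟩ := dvd_T1 H hF (a := 1) (by simp)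
  obtain ⟨f, hf⟩ := dvd_T2 H hF hc
  unfold tau
  have he' : (cnt (T1 z) a : ℤ) = 5 * e - 1 := by omega
  have hd' : (cnt (T1 z) 1 : ℤ) = 5 * d - 1 := by omega
  have hf' : (cnt (T2 z) a : ℤ) = 5 * f - 2 := by omega
  rw [he', hf'] at hk
  rw [hd', hf']
  refine ⟨k + 3 * (e : ℤ) * f - 3 * d * f + 3 * d ^ 2 - 3 * e ^ 2, ?_⟩
  linear_combination hk

theorem tau_z (b : G) (hb : b ∈ zpowers z) (hb1 : b ≠ 1) :
    tau z b = 13 - 9 * (cnt (T1 z) 1 : ℤ) + 3 * (cnt (T1 z) 1 : ℤ) ^ 2 := by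
  unfold tau
  rw [cnt_mem H _ hb hb1, cnt_mem H _ hb hb1, cnt_T2 H hF, cnt_T3 H hF]
  push_cast
  ring

omit hF in
theorem tau_conj {s b : G} (hs : s ∈ R) : tau z (s * b * s⁻¹) = tau z b := by
  have hsz : s * z = z * s := mem_centralizer_singleton_iff.1 (H.Rz hs)
  unfold tau
  rw [cnt_conj (T3 z) s b fun q => cnj_T3 hsz q, cnt_conj (T2 z) s b fun q => cnj_T2 hsz q]

omit hF in
theorem sum_tau [Fintype R] : (125 : ℤ) ∣ ∑ b : R, tau z (b : G) := by
  have h2 := burn R (T2 z) fun u hu q hq => (cnj_T2 (mem_centralizer_singleton_iff.1 (H.Rz hu)) q).2 hq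
  have h3 := burn R (T3 z) fun u hu q hq => (cnj_T3 (mem_centralizer_singleton_iff.1 (H.Rz hu)) q).2 hq
  rw [H.cR] at h2 h3
  obtain ⟨k2, hk2⟩ := h2
  obtain ⟨k3, hk3⟩ := h3
  unfold tau
  rw [Finset.sum_add_distrib, Finset.sum_sub_distrib, ← Finset.mul_sum, Finset.sum_const, Finset.card_univ,
    ← Nat.card_eq_fintype_card, H.cR, ← Nat.cast_sum, ← Nat.cast_sum, hk2, hk3]
  refine ⟨(k3 : ℤ) - 3 * (cnt (T1 z) 1 : ℤ) * k2 + 3 * (cnt (T1 z) 1 : ℤ) ^ 2, ?_⟩
  push_cast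
  ring

theorem sum_nc [Fintype R] [DecidablePred fun b : R => (b : G) ∈ zpowers z] :
    (125 : ℤ) ∣ ∑ b : R, if (b : G) ∈ zpowers z then 0 else tau z (b : G) := by
  have : Fact (Nat.Prime 5) := ⟨by norm_num⟩
  have h := dvd_sum_of_coset ((zpowers z).subgroupOf R)
    (fun b : R => if (b : G) ∈ zpowers z then 0 else tau z (b : G)) 25 (by
      intro b s hs
      have hs' : (s : G) ∈ zpowers z := Subgroup.mem_subgroupOf.1 hs
      have hiff : ((b * s : R) : G) ∈ zpowers z ↔ (b : G) ∈ zpowers z := by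
        rw [Subgroup.coe_mul]
        exact Subgroup.mul_mem_cancel_right _ hs'
      simp only [hiff]
      split_ifs with hb
      · rfl
      · obtain ⟨t, ht, h2⟩ := H.conj_mul b.2 hb hs'
        rw [Subgroup.coe_mul, ← h2, tau_conj H ht]) (by
      intro b
      split_ifs with hb
      · exact dvd_zero _
      · exact dvd_tau H hF b.2 hb)
  have h5 : Nat.card ((zpowers z).subgroupOf R) = 5 := by
    rw [Nat.card_congr (Subgroup.subgroupOfEquivOfLe (zpowers_le.2 H.zR)).toEquiv, Nat.card_zpowers, H.oz]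
  rw [h5] at h
  norm_num only [] at h
  exact h

theorem tau_one : ¬ (125 : ℤ) ∣ tau z 1 := by
  classical
  have _ := Fintype.ofFinite R
  intro h1
  have hs := sum_tau H
  have hn := sum_nc H hF
  have hsplit : ∑ b : R, tau z (b : G) = (∑ b : R, if (b : G) ∈ zpowers z then 0 else tau z (b : G)) +
      ∑ b : R, if (b : G) ∈ zpowers z then tau z (b : G) else 0 := by
    rw [← Finset.sum_add_distrib]
    refine Finset.sum_congr rfl fun b _ => ?_
    split_ifs <;> simp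
  rw [hsplit] at hs
  have hz := (Int.dvd_add_right hn).1 hs
  rw [← Finset.sum_filter] at hz
  have hmem1 : (1 : R) ∈ Finset.univ.filter fun b : R => (b : G) ∈ zpowers z := by
    simp only [_root_.Finset.mem_filter, _root_.Finset.mem_univ, _root_.OneMemClass.coe_one, _root_.OneMemClass.one_mem, _root_.and_self]
  have hcard : (Finset.univ.filter fun b : R => (b : G) ∈ zpowers z).card = 5 := by
    rw [← Fintype.card_subtype, ← Nat.card_eq_fintype_card]
    have h5 : Nat.card ((zpowers z).subgroupOf R) = 5 := by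
      rw [Nat.card_congr (Subgroup.subgroupOfEquivOfLe (zpowers_le.2 H.zR)).toEquiv, Nat.card_zpowers, H.oz]
    exact h5
  rw [← Finset.add_sum_erase _ _ hmem1, Finset.sum_congr rfl (g := fun _ =>
    13 - 9 * (cnt (T1 z) 1 : ℤ) + 3 * (cnt (T1 z) 1 : ℤ) ^ 2), Finset.sum_const, Finset.card_erase_of_mem hmem1,
    hcard] at hz
  · obtain ⟨d, hd⟩ := dvd_T1 H hF (a := 1) (by simp)
    have hd' : (cnt (T1 z) 1 : ℤ) = 5 * d - 1 := by omega
    have hz' := (Int.dvd_add_right h1).1 hz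
    rw [hd'] at hz'
    obtain ⟨k, hk⟩ := hz'
    rw [nsmul_eq_mul] at hk
    push_cast at hk
    have h5 : 4 * (3 * (d : ℤ) ^ 2 - 3 * d + 1) = 5 * k := by linarith only [hk]
    have h6 : (4 * (3 * (d : ℤ) ^ 2 - 3 * d + 1)) % 5 = 0 := by (clear * - h5; omega)
    have h7 : (d : ℤ) % 5 = 0 ∨ (d : ℤ) % 5 = 1 ∨ (d : ℤ) % 5 = 2 ∨ (d : ℤ) % 5 = 3 ∨ (d : ℤ) % 5 = 4 := by (clear * -; omega)
    rcases h7 with h | h | h | h | h <;>
      simp only [pow_two, Int.mul_emod, Int.add_emod, Int.sub_emod, h, _root_.Int.reduceMod, _root_.MulZeroClass.mul_zero, _root_.EuclideanDomain.zero_mod, _root_.sub_self, _root_.zero_add, _root_.mul_one, _root_.OfNat.ofNat_ne_zero, _root_.Int.reduceMul, _root_.Int.reduceSub, _root_.Int.reduceAdd, _root_.one_ne_zero] at h6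
  · intro b hb
    obtain ⟨hb1, hb2⟩ := Finset.mem_erase.1 hb
    exact tau_z H hF (b : G) (Finset.mem_filter.1 hb2).2 fun h => hb1 (Subtype.ext h)

omit H hF [Finite G] in
theorem com_one (q : G × G × G) : com q 1 := ⟨by simp, by simp, by simp⟩

omit H hF in
theorem index_eq (z : G) : (centralizer ({z} : Set G)).index = cnt (T1 z) 1 := by
  classical
  have _ := Fintype.ofFinite G
  rw [← Cfsg.Agent.Characters.ClassMul.card_filter_isConj z, ← Fintype.card_subtype, ← Nat.card_eq_fintype_card]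
  unfold cnt
  exact Nat.card_congr
    { toFun := fun x => ⟨(x.1, 1, 1), ⟨x.2, rfl, rfl⟩, com_one _⟩
      invFun := fun q => ⟨q.1.1, q.2.1.1⟩
      left_inv := fun x => rfl
      right_inv := fun q => Subtype.ext (Prod.ext rfl (Prod.ext q.2.1.2.1.symm q.2.1.2.2.symm)) }

/-- **S4933, `|P| = 5 ^ 3`** -/
theorem exists_mem {M : Ideal AlgInt} (hM : IsPModular 5 M)
    (hC : H104.EB.COne.OneBlock M (centralizer ({z} : Set G))) :
    ∃ χ : IrrCharacter G, χ ∈ principalBlock M G ∧ 5 ∣ charDegree (χ : G → ℂ) := by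
  have : Fact (Nat.Prime 5) := ⟨by norm_num⟩
  refine Cfsg.Agent.H702.E4.test hM H hC (D := cnt (T1 z) 1) (N2 := cnt (T2 z) 1) (N3 := cnt (T3 z) 1)
    (index_eq z) ?_ ?_ ?_
  · unfold cnt
    exact Nat.card_congr
      { toFun := fun x => ⟨(x.1.1, x.1.2, 1), ⟨x.2.1, x.2.2.1, rfl, x.2.2.2⟩, com_one _⟩
        invFun := fun q => ⟨(q.1.1, q.1.2.1), q.2.1.1, q.2.1.2.1, q.2.1.2.2.2⟩
        left_inv := fun x => rfl
        right_inv := fun q => Subtype.ext (Prod.ext rfl (Prod.ext rfl q.2.1.2.2.1.symm)) }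
  · unfold cnt
    exact Nat.card_congr
      { toFun := fun x => ⟨x.1, x.2, com_one _⟩
        invFun := fun q => ⟨q.1, q.2.1⟩
        left_inv := fun x => rfl
        right_inv := fun q => rfl }
  · intro h
    apply tau_one H hF
    unfold tau
    norm_num only [] at h
    obtain ⟨k, hk⟩ := h
    exact ⟨k, by linear_combination hk⟩

end Cfsg.Agent.H856.HT.FiveE
end

-- part: H505/HT/CoTwoRow
section
/-!
# S4933, box s.Co2.5 (helper505, helper856, helper91)
-/

set_option autoImplicit false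

open Cfsg Subgroup

namespace Cfsg.Agent.H505.HT.CoTwo

open Cfsg.Agent.H316.HT

universe u

/-- All automorphisms of `Co2` are inner. -/
theorem inner_co2 {S : Type u} [Group S] (h : Spor.IsoCo2 S) (α : S ≃* S) : ∃ s : S, ∀ x : S, α x = s * x * s⁻¹ := by
  obtain ⟨e⟩ := h
  obtain ⟨g, hg⟩ := KFacts.CoTwo.Main.allInner_iso e α
  exact ⟨g, fun x => by rw [hg]; rfl⟩

theorem card_eq : Nat.card Spor.Co2 = 5 ^ 3 * 338443370496 := by
  rw [Cfsg.Agent.Schreier.CoTwoStab.card]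
  norm_num

theorem exists_pos {M : Ideal AlgInt} (hM : IsPModular 5 M) :
    ∃ χ ∈ principalBlock M Spor.Co2, 5 ∣ charDegree (χ : Spor.Co2 → ℂ) := by
  have := Cfsg.Agent.H149.Sp.CopCo.finite_co2
  obtain ⟨f, hf⟩ := exists_emb
  have h1 := loc hf
  obtain ⟨χ, h2, h3⟩ := H856.HT.FiveE.exists_mem h1 (hF hf) hM (H91.HT.Co2.oneBlock hM h1.oz (d_z hf))
  exact ⟨χ, h2, h3⟩

theorem exists_co2 {S : Type u} [Group S] (h : Spor.IsoCo2 S) {M : Ideal AlgInt} (hM : IsPModular 5 M) :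
    ∃ χ : IrrCharacter S, χ ∈ principalBlock M S ∧ vd 5 (χ : S → ℂ) = 1 := by
  have : Fact (Nat.Prime 5) := ⟨Nat.prime_five⟩
  have := Cfsg.Agent.H149.Sp.CopCo.finite_co2
  obtain ⟨e⟩ := h
  have : Finite S := Finite.of_equiv _ e.symm.toEquiv
  refine exists_comp e ?_
  obtain ⟨χ, h1, h2, h3⟩ := H307.HT.good_of_dvd hM card_eq (by norm_num) (exists_pos hM) (a := 1) one_pos
  exact ⟨χ, h1, by omega⟩

/-- **Board box s.Co2.5.** -/
theorem row_co2_five {S : Type u} [Group S] (h : Spor.IsoCo2 S) : Row 5 S :=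
  row_of_inner (inner_co2 h) fun _ hM => exists_co2 h hM

end Cfsg.Agent.H505.HT.CoTwo
end

private theorem dce_39f461981035 : _root_.True := by
  try have : _root_.True := by simp only [_root_.Cfsg.Agent.H188.HT.M24.pC.eq_1]
  try have : _root_.True := by simp only [_root_.Cfsg.Agent.H856.HT.FiveB.cnj.eq_1]
  exact _root_.True.intro
end

-- part: H384/HT/TwoRows_mg
section
prune_inst 0x4300011400ca200000000050010202200700004b0000480008800024002008200058008000400100a1228a20100010020004400f000000000000004000001000008800200a0080008000010000000410000000000020000000000000000000004004010000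
set_option linter.all false
open scoped Cfsg.Agent.FastGrp

-- part: H384/HT/HexRow
section
/-!
# S4933, the rows `p = 2` of `G₂(q)` and `³D₄(q)`, `q` odd (helper384)

In a group `HexGrp` of odd characteristic the subgroup `⟨pb i, pb j, p4 i, p4 j, g⟩` (`i`, `j` generators of a
quaternion subgroup of `SL₂`, `g` acting on both factors as `1 + i`) is a `2`-group of order `64`, of class at least
three, and contains two commuting quaternion groups.
-/

set_option autoImplicit false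

namespace Cfsg.Agent.H384.HT

open Cfsg.Agent.SplitTwo Cfsg.Agent.Lib.SL2Mat Cfsg.Agent.Cit.HexBase Cfsg.Agent.Cit.HexBase.HexGrp
open scoped commutatorElement

section sl

variable {K : Type*} [Field K]

/-- `i` -/
def qi (K : Type*) [Field K] : SL2 K := wm 1 one_ne_zero

/-- `j` -/
def qj (a b : K) (h : a ^ 2 + b ^ 2 = -1) : SL2 K := _root_.Cfsg.Agent.Lib.SL2Mat.mk a b b (-a) (by linear_combination -h)

/-- `(1 + i) diag(1/2, 1)` -/
def qs (h2 : (2 : K) ≠ 0) : SL2 K := _root_.Cfsg.Agent.Lib.SL2Mat.mk (1 / 2) 1 (-(1 / 2)) 1 (by field_simp; norm_num)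

theorem qi_sq : qi K * qi K = dg (-1) (neg_ne_zero.2 one_ne_zero) := by
  unfold qi
  refine ext_ent ?_ ?_ ?_ ?_ <;> simp [ent_mul]

theorem qj_sq {a b : K} (h : a ^ 2 + b ^ 2 = -1) : qj a b h * qj a b h = dg (-1) (neg_ne_zero.2 one_ne_zero) := by
  unfold qj
  refine ext_ent ?_ ?_ ?_ ?_ <;> simp only [ent_mul, _root_.Fin.isValue, _root_.Cfsg.Agent.Lib.SL2Mat.mk_00, _root_.Cfsg.Agent.Lib.SL2Mat.mk_01, _root_.Cfsg.Agent.Lib.SL2Mat.mk_10, _root_.Cfsg.Agent.Lib.SL2Mat.dg_00, _root_.Cfsg.Agent.Lib.SL2Mat.mk_11, _root_.mul_neg, _root_.Cfsg.Agent.Lib.SL2Mat.dg_01, _root_.neg_mul, _root_.Cfsg.Agent.Lib.SL2Mat.dg_10, _root_.neg_neg, _root_.Cfsg.Agent.Lib.SL2Mat.dg_11, _root_.inv_neg, _root_.inv_one]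
  · linear_combination h
  · ring
  · ring
  · linear_combination h

theorem dgm_sq : dg (-1 : K) (neg_ne_zero.2 one_ne_zero) * dg (-1) (neg_ne_zero.2 one_ne_zero) = 1 := by
  refine ext_ent ?_ ?_ ?_ ?_ <;> simp [ent_mul]

theorem dgm_ne (h2 : (2 : K) ≠ 0) : dg (-1 : K) (neg_ne_zero.2 one_ne_zero) ≠ 1 := by
  intro h
  have h1 := congrArg (fun x => ent x 0 0) h
  simp at h1
  exact h2 (by linear_combination -h1)

theorem qj_conj {a b : K} (h : a ^ 2 + b ^ 2 = -1) :
    qj a b h * qi K * (qj a b h)⁻¹ = (qi K)⁻¹ := by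
  rw [mul_inv_eq_iff_eq_mul, eq_inv_mul_iff_mul_eq]
  unfold qj qi
  refine ext_ent ?_ ?_ ?_ ?_ <;> simp [ent_mul]

theorem qi_four : qi K ^ 4 = 1 := by
  have h1 : qi K ^ 4 = (qi K * qi K) * (qi K * qi K) := by
    rw [pow_succ, pow_succ, pow_succ, pow_one]
    simp only [mul_assoc]
  rw [h1, qi_sq, dgm_sq]

theorem qj_four {a b : K} (h : a ^ 2 + b ^ 2 = -1) : qj a b h ^ 4 = 1 := by
  have h1 : qj a b h ^ 4 = (qj a b h * qj a b h) * (qj a b h * qj a b h) := by
    rw [pow_succ, pow_succ, pow_succ, pow_one]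
    simp only [mul_assoc]
  rw [h1, qj_sq, dgm_sq]

theorem qij_ne (h2 : (2 : K) ≠ 0) {a b : K} (h : a ^ 2 + b ^ 2 = -1) :
    qi K * qj a b h ≠ qj a b h * qi K := by
  intro h3
  have h4 := qj_conj h
  rw [← h3, mul_inv_cancel_right, eq_inv_iff_mul_eq_one, qi_sq] at h4
  exact dgm_ne h2 h4

/-- the action of `1 + i` -/
noncomputable def τ (h2 : (2 : K) ≠ 0) (x : SL2 K) : SL2 K :=
  qs h2 * conjGL (dgl 2 h2) x * (qs h2)⁻¹

theorem τ_qi (h2 : (2 : K) ≠ 0) : τ h2 (qi K) = qi K := by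
  unfold τ
  rw [mul_inv_eq_iff_eq_mul, conjGL_dgl_ent]
  unfold qi qs
  refine ext_ent ?_ ?_ ?_ ?_ <;> simp only [ent_mul, _root_.one_div, _root_.Fin.isValue, _root_.Cfsg.Agent.Lib.SL2Mat.wm_00, _root_.Cfsg.Agent.Lib.SL2Mat.wm_01, _root_.mul_one, _root_.Cfsg.Agent.Lib.SL2Mat.wm_10, _root_.inv_one, _root_.Cfsg.Agent.Lib.SL2Mat.wm_11, _root_.Cfsg.Agent.Lib.SL2Mat.mk_00, _root_.MulZeroClass.mul_zero, _root_.Cfsg.Agent.Lib.SL2Mat.mk_01, _root_.Cfsg.Agent.Lib.SL2Mat.mk_10, _root_.one_mul, _root_.zero_add, _root_.MulZeroClass.zero_mul, _root_.mul_neg, _root_.Cfsg.Agent.Lib.SL2Mat.mk_11, _root_.add_zero, _root_.neg_mul, _root_.neg_zero, _root_.neg_inj] <;> field_simp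

theorem τ_qj (h2 : (2 : K) ≠ 0) {a b : K} (h : a ^ 2 + b ^ 2 = -1) :
    τ h2 (qj a b h) = qi K * qj a b h := by
  unfold τ
  rw [mul_inv_eq_iff_eq_mul, conjGL_dgl_ent]
  unfold qi qj qs
  refine ext_ent ?_ ?_ ?_ ?_ <;> simp only [ent_mul, _root_.one_div, _root_.Fin.isValue, _root_.Cfsg.Agent.Lib.SL2Mat.mk_00, _root_.Cfsg.Agent.Lib.SL2Mat.mk_01, _root_.Cfsg.Agent.Lib.SL2Mat.mk_10, _root_.Cfsg.Agent.Lib.SL2Mat.mk_11, _root_.one_mul, _root_.Cfsg.Agent.Lib.SL2Mat.wm_00, _root_.MulZeroClass.zero_mul, _root_.Cfsg.Agent.Lib.SL2Mat.wm_01, _root_.zero_add, _root_.mul_neg, _root_.neg_mul, _root_.neg_neg, _root_.mul_one, _root_.add_left_inj, _root_.Cfsg.Agent.Lib.SL2Mat.wm_10, _root_.inv_one, _root_.Cfsg.Agent.Lib.SL2Mat.wm_11, _root_.add_zero, _root_.neg_zero] <;> field_simp <;> ring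

theorem τ_ent (h2 : (2 : K) ≠ 0) (x : SL2 K) :
    ent (τ h2 x) 0 0 = (ent x 0 0 + ent x 1 0 + ent x 0 1 + ent x 1 1) / 2 ∧
    ent (τ h2 x) 0 1 = (-ent x 0 0 - ent x 1 0 + ent x 0 1 + ent x 1 1) / 2 ∧
    ent (τ h2 x) 1 0 = (-ent x 0 0 + ent x 1 0 - ent x 0 1 + ent x 1 1) / 2 ∧
    ent (τ h2 x) 1 1 = (ent x 0 0 - ent x 1 0 - ent x 0 1 + ent x 1 1) / 2 := by
  unfold τ
  rw [conjGL_dgl_ent, ent_inv (qs h2)]
  unfold qs
  refine ⟨?_, ?_, ?_, ?_⟩ <;> simp only [ent_mul, _root_.one_div, _root_.Fin.isValue, _root_.Cfsg.Agent.Lib.SL2Mat.mk_11, _root_.Cfsg.Agent.Lib.SL2Mat.mk_01, _root_.Cfsg.Agent.Lib.SL2Mat.mk_10, _root_.neg_neg, _root_.Cfsg.Agent.Lib.SL2Mat.mk_00, _root_.one_mul, _root_.mul_one, _root_.mul_neg, _root_.neg_add_rev, _root_.neg_mul] <;> field_simp <;> ring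

theorem τ_τ (h2 : (2 : K) ≠ 0) (x : SL2 K) : τ h2 (τ h2 x) = qi K * x * (qi K)⁻¹ := by
  obtain ⟨a1, a2, a3, a4⟩ := τ_ent h2 x
  obtain ⟨b1, b2, b3, b4⟩ := τ_ent h2 (τ h2 x)
  rw [eq_mul_inv_iff_mul_eq]
  unfold qi
  refine ext_ent ?_ ?_ ?_ ?_ <;> simp only [ent_mul, b1, b2, b3, b4, a1, a2, a3, a4, _root_.Fin.isValue, _root_.Cfsg.Agent.Lib.SL2Mat.wm_00, _root_.MulZeroClass.mul_zero, _root_.Cfsg.Agent.Lib.SL2Mat.wm_10, _root_.inv_one, _root_.mul_neg, _root_.mul_one, _root_.zero_add, _root_.MulZeroClass.zero_mul, _root_.Cfsg.Agent.Lib.SL2Mat.wm_01, _root_.one_mul, _root_.Cfsg.Agent.Lib.SL2Mat.wm_11, _root_.add_zero, _root_.neg_mul, _root_.neg_inj] <;> field_simp <;> ring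

end sl

section grp

variable {G : Type*} [Group G] {p : ℕ}

theorem isPGroup_zpowers {x : G} {k : ℕ} (h : x ^ p ^ k = 1) : IsPGroup p (Subgroup.zpowers x) := by
  rintro ⟨y, hy⟩
  obtain ⟨m, rfl⟩ := Subgroup.mem_zpowers_iff.1 hy
  refine ⟨k, Subtype.ext ?_⟩
  change (x ^ m) ^ p ^ k = 1
  rw [← zpow_natCast, ← zpow_mul, mul_comm, zpow_mul, zpow_natCast, h, one_zpow]

theorem conj_pow_mem {N : Subgroup G} {g : G} (hc : ∀ n ∈ N, g * n * g⁻¹ ∈ N) (m : ℕ) {n : G} (hn : n ∈ N) :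
    g ^ m * n * (g ^ m)⁻¹ ∈ N := by
  induction m with
  | zero => simpa using hn
  | succ m ih =>
    have h := hc _ ih
    have e : g * (g ^ m * n * (g ^ m)⁻¹) * g⁻¹ = g ^ (m + 1) * n * (g ^ (m + 1))⁻¹ := by
      rw [pow_succ', mul_inv_rev]
      simp only [mul_assoc]
    rwa [e] at h

theorem isPGroup_sup (hp : p.Prime) {N : Subgroup G} (hN : IsPGroup p N) {g : G} {k : ℕ} (hg : g ^ p ^ k = 1)
    (hc : N ≤ N.comap (MulAut.conj g).toMonoidHom) : IsPGroup p (N ⊔ Subgroup.zpowers g : Subgroup G) := by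
  refine IsPGroup.to_sup_of_normal_left' hN (isPGroup_zpowers hg) ?_
  rw [Subgroup.zpowers_le, Subgroup.mem_normalizer_iff]
  have h1 : ∀ n ∈ N, g * n * g⁻¹ ∈ N := fun n hn => hc hn
  intro n
  refine ⟨h1 n, fun hn => ?_⟩
  have h2 := conj_pow_mem h1 (p ^ k - 1) hn
  have h3 : g ^ (p ^ k - 1) = g⁻¹ := by
    rw [eq_inv_iff_mul_eq_one, ← pow_succ, Nat.sub_add_cancel (Nat.pos_of_ne_zero (pow_ne_zero _ hp.ne_zero)), hg]
  rw [h3] at h2
  have e : g⁻¹ * (g * n * g⁻¹) * g⁻¹⁻¹ = n := by group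
  rwa [e] at h2

end grp

section hex

universe u

variable {E : Type*} [Field E] {σ : E ≃+* E} {L : Type u} [Group L] (c : HexGrp σ L)

theorem exists_outer [Finite E] (h2 : (2 : E) ≠ 0) : ∃ g : L,
    (∀ x, g * c.pb x * g⁻¹ = c.pb (τ h2 x)) ∧ (∀ x, g * c.p4 x * g⁻¹ = c.p4 (τ (two_ne h2) x)) := by
  have h0 : (1 / 2 : E) ≠ 0 := one_div_ne_zero h2
  obtain ⟨t, ht⟩ := c.exists_act' h2 (c1 := 2) (c6 := 1 / 2) h2 h0 (by
    rw [map_div₀, map_one, map_ofNat])
  have hn : nrm σ (2 : E) = 8 := by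
    rw [nrm_of_fix (map_ofNat σ 2)]
    norm_num
  have e2 : (⟨(1 / 2 : E) ^ 2 * nrm σ 2, ht.fix4⟩ : ↥(fx σ)) = 2 := by
    apply Subtype.ext
    change (1 / 2 : E) ^ 2 * nrm σ 2 = 2
    rw [hn]
    field_simp
    norm_num
  refine ⟨c.pb (qs h2) * c.p4 (qs (two_ne h2)) * t, fun x => ?_, fun x => ?_⟩
  · have h3 := ht.pb x
    have h4 := c.comm_pb_p4 (conjGL (dgl 2 ht.ne1) x) (qs (two_ne h2))
    calc c.pb (qs h2) * c.p4 (qs (two_ne h2)) * t * c.pb x * (c.pb (qs h2) * c.p4 (qs (two_ne h2)) * t)⁻¹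
        = c.pb (qs h2) * (c.p4 (qs (two_ne h2)) * (t * c.pb x * t⁻¹) * (c.p4 (qs (two_ne h2)))⁻¹) *
          (c.pb (qs h2))⁻¹ := by group
      _ = c.pb (qs h2) * c.pb (conjGL (dgl 2 ht.ne1) x) * (c.pb (qs h2))⁻¹ := by
        rw [h3, ← h4]
        group
      _ = _ := by rw [← map_inv, ← map_mul, ← map_mul]; rfl
  · have h3 := ht.p4 h2 x
    have h5 : conjGL (dgl (⟨(1 / 2 : E) ^ 2 * nrm σ 2, ht.fix4⟩ : ↥(fx σ)) (sub_ne _ ht.ne4)) x =
        conjGL (dgl (2 : ↥(fx σ)) (two_ne h2)) x := by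
      congr 2
      exact Units.ext (by simp only [dgl, e2])
    rw [h5] at h3
    have h4 := c.comm_pb_p4 (qs h2) (qs ((two_ne h2 :)) * conjGL (dgl (2 : ↥(fx σ)) (two_ne h2)) x * (qs ((two_ne h2 :)))⁻¹)
    calc c.pb (qs h2) * c.p4 (qs (two_ne h2)) * t * c.p4 x * (c.pb (qs h2) * c.p4 (qs (two_ne h2)) * t)⁻¹
        = c.pb (qs h2) * (c.p4 (qs (two_ne h2)) * (t * c.p4 x * t⁻¹) * (c.p4 (qs (two_ne h2)))⁻¹) *
          (c.pb (qs h2))⁻¹ := by group
      _ = c.pb (qs h2) * c.p4 (qs ((two_ne h2 :)) * conjGL (dgl (2 : ↥(fx σ)) (two_ne h2)) x * (qs ((two_ne h2 :)))⁻¹) *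
          (c.pb (qs h2))⁻¹ := by
        rw [h3, ← map_inv, ← map_mul, ← map_mul]
      _ = c.p4 (qs ((two_ne h2 :)) * conjGL (dgl (2 : ↥(fx σ)) (two_ne h2)) x * (qs ((two_ne h2 :)))⁻¹) := by
        rw [h4, mul_inv_cancel_right]

include c in
theorem row_hex [Finite E] (hIP : Cfsg.Agent.H681.IP.IPTwo) (h2 : (2 : E) ≠ 0) :
    Cfsg.Agent.H316.HT.Row 2 L := by
  obtain ⟨g, hg1, hg4⟩ := exists_outer c h2
  have : Finite ↥(fx σ) := inferInstance
  obtain ⟨a1, b1, h1⟩ := exists_quad h2 (s := (1 : E)) one_ne_zero (-1)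
  obtain ⟨a4, b4, h4⟩ := exists_quad ((two_ne h2 :)) (s := (1 : ↥(fx σ))) one_ne_zero (-1)
  rw [one_mul] at h1 h4
  obtain ⟨I, hI⟩ : ∃ I, I = c.pb (qi E) := ⟨_, rfl⟩
  obtain ⟨J, hJ⟩ : ∃ J, J = c.pb (qj a1 b1 h1) := ⟨_, rfl⟩
  obtain ⟨I', hI'⟩ : ∃ I', I' = c.p4 (qi ↥(fx σ)) := ⟨_, rfl⟩
  obtain ⟨J', hJ'⟩ : ∃ J', J' = c.p4 (qj a4 b4 h4) := ⟨_, rfl⟩
  have I4 : I ^ 4 = 1 := by rw [hI, ← map_pow, qi_four, map_one]
  have J4 : J ^ 4 = 1 := by rw [hJ, ← map_pow, qj_four, map_one]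
  have I4' : I' ^ 4 = 1 := by rw [hI', ← map_pow, qi_four, map_one]
  have J4' : J' ^ 4 = 1 := by rw [hJ', ← map_pow, qj_four, map_one]
  have cII : Commute I I' := by rw [hI, hI']; exact c.comm_pb_p4 _ _
  have cIJ : Commute I J' := by rw [hI, hJ']; exact c.comm_pb_p4 _ _
  have cJI : Commute J I' := by rw [hJ, hI']; exact c.comm_pb_p4 _ _
  have cJJ : Commute J J' := by rw [hJ, hJ']; exact c.comm_pb_p4 _ _
  have n1 : I * J ≠ J * I := by
    rw [hI, hJ, ← map_mul, ← map_mul]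
    exact fun h => qij_ne h2 h1 (c.pb_inj h2 h)
  have n4 : I' * J' ≠ J' * I' := by
    rw [hI', hJ', ← map_mul, ← map_mul]
    exact fun h => qij_ne ((two_ne h2 :)) h4 (c.p4_inj h)
  have k1 : J * I * J⁻¹ = I⁻¹ := by rw [hI, hJ, ← map_inv, ← map_mul, ← map_mul, qj_conj, map_inv]
  have k4 : J' * I' * J'⁻¹ = I'⁻¹ := by rw [hI', hJ', ← map_inv, ← map_mul, ← map_mul, qj_conj, map_inv]
  have gI : g * I * g⁻¹ = I := by rw [hI, hg1, τ_qi]
  have gJ : g * J * g⁻¹ = I * J := by rw [hI, hJ, hg1, τ_qj, map_mul]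
  have gI' : g * I' * g⁻¹ = I' := by rw [hI', hg4, τ_qi]
  have gJ' : g * J' * g⁻¹ = I' * J' := by rw [hI', hJ', hg4, τ_qj, map_mul]
  -- the square of `g`
  have hz : c.z = I * I := by rw [hI, ← map_mul, qi_sq]; rfl
  obtain ⟨w, hw⟩ : ∃ w, w = (I * I')⁻¹ * (g * g) := ⟨_, rfl⟩
  have hw2 : w = 1 ∨ w = c.z := by
    refine c.centralizer_K1K4 h2 (fun x => ?_) fun y => ?_
    · have e1 : g * g * c.pb x * (g * g)⁻¹ = I * c.pb x * I⁻¹ := by
        calc g * g * c.pb x * (g * g)⁻¹ = g * (g * c.pb x * g⁻¹) * g⁻¹ := by group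
          _ = _ := by rw [hg1, hg1, τ_τ, map_mul, map_mul, map_inv, hI]
      have e2 : I'⁻¹ * c.pb x = c.pb x * I'⁻¹ := by
        rw [hI', ← map_inv]
        exact (c.comm_pb_p4 _ _).symm
      calc w * c.pb x = (I * I')⁻¹ * (g * g * c.pb x * (g * g)⁻¹) * (g * g) := by rw [hw]; group
        _ = I'⁻¹ * c.pb x * I⁻¹ * (g * g) := by rw [e1]; group
        _ = c.pb x * (I'⁻¹ * I⁻¹) * (g * g) := by rw [e2]; group
        _ = c.pb x * w := by rw [hw]; group
    · have e1 : g * g * c.p4 y * (g * g)⁻¹ = I' * c.p4 y * I'⁻¹ := by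
        calc g * g * c.p4 y * (g * g)⁻¹ = g * (g * c.p4 y * g⁻¹) * g⁻¹ := by group
          _ = _ := by rw [hg4, hg4, τ_τ, map_mul, map_mul, map_inv, hI']
      have e2 : I⁻¹ * c.p4 y = c.p4 y * I⁻¹ := by
        rw [hI, ← map_inv]
        exact c.comm_pb_p4 _ _
      have e3 : (I * I')⁻¹ = I⁻¹ * I'⁻¹ := by rw [cII.eq, mul_inv_rev]
      calc w * c.p4 y = (I * I')⁻¹ * (g * g * c.p4 y * (g * g)⁻¹) * (g * g) := by rw [hw]; group
        _ = I⁻¹ * c.p4 y * I'⁻¹ * (g * g) := by rw [e1, e3]; group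
        _ = c.p4 y * (I⁻¹ * I'⁻¹) * (g * g) := by rw [e2]; group
        _ = c.p4 y * w := by rw [hw, e3]; group
  have zz := c.z_sq
  have wc : ∀ v : L, c.z * v = v * c.z → w * v = v * w := by
    intro v hv
    rcases hw2 with h | h
    · rw [h, one_mul, mul_one]
    · rw [h, hv]
  have g2 : g * g = I * I' * w := by rw [hw]; group
  have g8 : g ^ 2 ^ 3 = 1 := by
    have cw1 : Commute (I * I') w := by
      have e : c.z * (I * I') = I * I' * c.z := by
        rw [hI, hI', ← mul_assoc, c.z_pb, mul_assoc, c.z_p4, mul_assoc]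
      exact (wc _ e).symm
    have w4 : w ^ 4 = 1 := by
      rcases hw2 with h | h
      · rw [h, one_pow]
      · have e : c.z ^ 4 = (c.z * c.z) * (c.z * c.z) := by
          rw [pow_succ, pow_succ, pow_succ, pow_one]
          simp only [mul_assoc]
        rw [h, e, zz, one_mul]
    have e : g ^ 2 ^ 3 = (g * g) ^ 4 := by
      rw [← pow_two, ← pow_mul]
      norm_num
    rw [e, g2, cw1.mul_pow, cII.mul_pow, I4, I4', w4, one_mul, one_mul]
  -- the `2`-group
  have hp := Nat.prime_two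
  have p1 : IsPGroup 2 (Subgroup.zpowers I) := isPGroup_zpowers (k := 2) I4
  have mc : ∀ (N : Subgroup L) (a b : L), a * b * a⁻¹ ∈ N → b ∈ N.comap (MulAut.conj a).toMonoidHom :=
    fun N a b h => h
  have cm : ∀ {a b : L}, Commute b a → a * b * a⁻¹ = b := fun {a b} h => by
    rw [← h.eq, mul_inv_cancel_right]
  have p2 := isPGroup_sup hp p1 (g := J) (k := 2) J4 (Subgroup.zpowers_le.2 (mc _ _ _ (by
    rw [k1]
    exact inv_mem (Subgroup.mem_zpowers I))))
  obtain ⟨N2, hN2⟩ : ∃ N2, N2 = Subgroup.zpowers I ⊔ Subgroup.zpowers J := ⟨_, rfl⟩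
  rw [← hN2] at p2
  have mI2 : I ∈ N2 := by rw [hN2]; exact Subgroup.mem_sup_left (Subgroup.mem_zpowers I)
  have mJ2 : J ∈ N2 := by rw [hN2]; exact Subgroup.mem_sup_right (Subgroup.mem_zpowers J)
  have le2 : ∀ {H : Subgroup L}, I ∈ H → J ∈ H → N2 ≤ H := fun hi hj => by
    rw [hN2]
    exact sup_le (Subgroup.zpowers_le.2 hi) (Subgroup.zpowers_le.2 hj)
  have p3 := isPGroup_sup hp p2 (g := I') (k := 2) I4' (le2 (mc _ _ _ (by rw [cm cII]; exact mI2))
    (mc _ _ _ (by rw [cm cJI]; exact mJ2)))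
  obtain ⟨N3, hN3⟩ : ∃ N3, N3 = N2 ⊔ Subgroup.zpowers I' := ⟨_, rfl⟩
  rw [← hN3] at p3
  have l23 : N2 ≤ N3 := by rw [hN3]; exact le_sup_left
  have mI3 : I' ∈ N3 := by rw [hN3]; exact Subgroup.mem_sup_right (Subgroup.mem_zpowers I')
  have le3 : ∀ {H : Subgroup L}, I ∈ H → J ∈ H → I' ∈ H → N3 ≤ H := fun hi hj hi' => by
    rw [hN3]
    exact sup_le (le2 hi hj) (Subgroup.zpowers_le.2 hi')
  have p4 := isPGroup_sup hp p3 (g := J') (k := 2) J4' (le3 (mc _ _ _ (by rw [cm cIJ]; exact l23 mI2))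
    (mc _ _ _ (by rw [cm cJJ]; exact l23 mJ2)) (mc _ _ _ (by rw [k4]; exact inv_mem mI3)))
  obtain ⟨N4, hN4⟩ : ∃ N4, N4 = N3 ⊔ Subgroup.zpowers J' := ⟨_, rfl⟩
  rw [← hN4] at p4
  have l34 : N3 ≤ N4 := by rw [hN4]; exact le_sup_left
  have mJ4 : J' ∈ N4 := by rw [hN4]; exact Subgroup.mem_sup_right (Subgroup.mem_zpowers J')
  have le4 : ∀ {H : Subgroup L}, I ∈ H → J ∈ H → I' ∈ H → J' ∈ H → N4 ≤ H := fun hi hj hi' hj' => by
    rw [hN4]
    exact sup_le (le3 hi hj hi') (Subgroup.zpowers_le.2 hj')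
  have mI := l34 (l23 mI2)
  have mJ := l34 (l23 mJ2)
  have mI' := l34 mI3
  have p5 := isPGroup_sup hp p4 (g := g) (k := 3) g8 (le4 (mc _ _ _ (by rw [gI]; exact mI))
    (mc _ _ _ (by rw [gJ]; exact mul_mem mI mJ)) (mc _ _ _ (by rw [gI']; exact mI'))
    (mc _ _ _ (by rw [gJ']; exact mul_mem mI' mJ4)))
  have mg : g ∈ N4 ⊔ Subgroup.zpowers g := Subgroup.mem_sup_right (Subgroup.mem_zpowers g)
  have mJ5 : J ∈ N4 ⊔ Subgroup.zpowers g := Subgroup.mem_sup_left mJ
  refine Cfsg.Agent.H681.IP.row_two hIP (N4 ⊔ Subgroup.zpowers g) p5 (x := g) (y := J) (z := J) mg mJ5 mJ5 ?_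
    N4 p4 mI mJ mI' mJ4 n1 n4 cII cIJ cJI cJJ
  have e1 : ⁅g, J⁆ = I := by rw [commutatorElement_def, gJ, mul_inv_cancel_right]
  rw [e1]
  intro h
  exact n1 (commutatorElement_eq_one_iff_commute.1 h).eq

end hex

end Cfsg.Agent.H384.HT
end

-- part: H681/IP/Plug
section
/-!
# The rows with the theorem of Isaacs and Passman plugged in (helper681; `ip_two` : helper709)
-/

set_option autoImplicit false

namespace Cfsg.Agent.H681.IP

open Cfsg Subgroup Cfsg.Agent.H316.HT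
open scoped commutatorElement

universe u v w

/-- `IPTwo` holds (helper709) -/
theorem ipTwo : IPTwo := fun _ _ _ h2 _ ha hcd => Cfsg.Agent.H709.HT.ip_two h2 ha hcd

end Cfsg.Agent.H681.IP
end

-- part: H384/HT/TwoRows
section
/-!
# S4933, boxes 2.g2 and 2.d4t (helper384): the fields `g2` and `d4t` of `TwoRows`
-/

set_option autoImplicit false

namespace Cfsg.Agent.H384.HT

open Cfsg

theorem two_ne_zero_of_odd {F : Type*} [Field F] [Fintype F] (h : Odd (Fintype.card F)) : (2 : F) ≠ 0 := by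
  intro h2
  obtain ⟨k, hk⟩ := h
  have h1 : ((Fintype.card F : ℕ) : F) = 0 := FiniteField.cast_card_eq_zero F
  rw [hk] at h1
  push_cast at h1
  rw [h2, zero_mul, zero_add] at h1
  exact one_ne_zero h1

/-- box 2.g2 -/
theorem row_g2 (F : Type) [Field F] [Fintype F] (h : Odd (Fintype.card F)) :
    Cfsg.Agent.H316.HT.Row 2 (Lie.chevG2.group F) :=
  row_hex (Cfsg.Agent.Cit.HexG2.g2 F (two_ne_zero_of_odd h)) Cfsg.Agent.H681.IP.ipTwo (two_ne_zero_of_odd h)

/-- box 2.d4t -/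
theorem row_d4t (F : Type) [Field F] [Fintype F] (q : ℕ) (hF : Fintype.card F = q ^ 3) (h : Odd q) :
    Cfsg.Agent.H316.HT.Row 2 (Lie.twistedD4 F q) := by
  obtain ⟨σ, -, ⟨c⟩⟩ := Cfsg.Agent.Cit.HexD4.exists_d4 hF
  exact row_hex c Cfsg.Agent.H681.IP.ipTwo (two_ne_zero_of_odd (by rw [hF]; exact h.pow))

end Cfsg.Agent.H384.HT
end

-- part: H872/HT/Two
section
/-!
# 2-transitive permutation characters: invariance, extension and the principal block (helper872, S4933)

* `perm_eq` : two 2-transitive actions of `G` such that `G` is not transitive on the product have the same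
  permutation character;
* `perm_inv` : if `|X| ^ 2 ∤ |G|`, the permutation character of a 2-transitive action on `X` is invariant under
  all automorphisms;
* `mackey_of_two` : Mackey's criterion for a linear character of a point stabiliser;
* `perm_mem` : `π - 1` is in the principal block if the point stabiliser has a linear character of `p`-power order
  which induces irreducibly.
-/

set_option autoImplicit false

open Cfsg Cfsg.Agent.Characters.Core MulAction
open scoped ComplexConjugate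

namespace Cfsg.Agent.H872.HT

universe u v w

section Perm

variable {G : Type u} [Group G] [Finite G]

omit [Finite G] in
theorem pret_of_card_orbits {X : Type v} [MulAction G X]
    (h : Nat.card (Quotient (orbitRel G X)) = 1) : IsPretransitive G X := by
  rw [Nat.card_eq_one_iff_unique] at h
  obtain ⟨h1, -⟩ := h
  refine ⟨fun x y => ?_⟩
  have h2 : (Quotient.mk (orbitRel G X) y) = Quotient.mk (orbitRel G X) x := Subsingleton.elim _ _
  exact Quotient.exact h2

/-- Two 2-transitive actions with the group not transitive on the product. -/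
theorem perm_eq {X : Type v} {Y : Type w} [MulAction G X] [MulAction G Y] [Finite X] [Finite Y]
    [IsPretransitive G X] [IsPretransitive G Y] (hX2 : 2 ≤ Nat.card X) (hY2 : 2 ≤ Nat.card Y)
    (hX : IsMultiplyPretransitive G X 2) (hY : IsMultiplyPretransitive G Y 2)
    (h : ¬ IsPretransitive G (X × Y)) (g : G) : Nat.card (fixedBy X g) = Nat.card (fixedBy Y g) := by
  classical
  have := Fintype.ofFinite G
  have hneX : Nonempty X := by
    rw [← Finite.card_pos_iff]; omega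
  have hneY : Nonempty Y := by
    rw [← Finite.card_pos_iff]; omega
  obtain ⟨πX, hπX⟩ : ∃ π : G → ℂ, π = fun g : G => (Nat.card (fixedBy X g) : ℂ) := ⟨_, rfl⟩
  obtain ⟨πY, hπY⟩ : ∃ π : G → ℂ, π = fun g : G => (Nat.card (fixedBy Y g) : ℂ) := ⟨_, rfl⟩
  have hiX : IsIrrCharacter G (πX - 1) := by
    rw [hπX]; exact (S0157.result X hX2).2 hX
  have hiY : IsIrrCharacter G (πY - 1) := by
    rw [hπY]; exact (S0157.result Y hY2).2 hY
  by_cases he : πX - 1 = πY - 1
  · have h1 : πX = πY := sub_left_inj.1 he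
    have h2 := congrFun h1 g
    rw [hπX, hπY] at h2
    dsimp only at h2
    exact_mod_cast h2
  · exfalso
    apply h
    apply pret_of_card_orbits
    have h0 := classInner_irr_ne hiX hiY he
    have h11 : classInner (1 : G → ℂ) 1 = 1 := classInner_irr_self isIrr_one
    have hX1 : classInner πX 1 = 1 := by
      have := S0157.avg_fixedBy (G := G) X
      rw [S0157.card_orbits_of_pretransitive G X] at this
      rw [hπX]
      simpa only [classInner, _root_.Nat.card_eq_fintype_card, _root_.Nat.card_coe_set_eq, _root_.Pi.one_apply, _root_.map_one, _root_.mul_one, _root_.Nat.cast_one] using this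
    have hY1 : classInner πY 1 = 1 := by
      have := S0157.avg_fixedBy (G := G) Y
      rw [S0157.card_orbits_of_pretransitive G Y] at this
      rw [hπY]
      simpa only [classInner, _root_.Nat.card_eq_fintype_card, _root_.Nat.card_coe_set_eq, _root_.Pi.one_apply, _root_.map_one, _root_.mul_one, _root_.Nat.cast_one] using this
    have h1Y : classInner 1 πY = 1 := by
      rw [← classInner_conj_symm, hY1, map_one]
    have hXY : classInner πX πY = (Nat.card (Quotient (orbitRel G (X × Y))) : ℂ) := by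
      rw [← S0157.avg_fixedBy (G := G) (X × Y), hπX, hπY]
      simp only [classInner, S0157.card_fixedBy_prod, Nat.cast_mul, Complex.conj_natCast]
    rw [classInner_sub_left, classInner_sub_right, classInner_sub_right, hXY, hX1, h1Y, h11] at h0
    have h2 : (Nat.card (Quotient (orbitRel G (X × Y))) : ℂ) = 1 := by linear_combination h0
    exact_mod_cast h2

omit [Finite G] in
/-- If `G` is transitive on `X` then `|X|` divides `|G|`. -/
theorem card_dvd_of_pret {X : Type v} [MulAction G X] [Nonempty X] (h : IsPretransitive G X) :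
    Nat.card X ∣ Nat.card G := by
  obtain ⟨x⟩ := ‹Nonempty X›
  rw [← index_stabilizer_of_transitive G x]
  exact Subgroup.index_dvd_card _

/-- Two 2-transitive actions of degree `m` have the same permutation character if `m ^ 2 ∤ |G|`. -/
theorem perm_eq' {X : Type v} {Y : Type w} [MulAction G X] [MulAction G Y] [Finite X] [Finite Y]
    [IsPretransitive G X] [IsPretransitive G Y] {m : ℕ} (hm : 2 ≤ m) (hX2 : Nat.card X = m)
    (hY2 : Nat.card Y = m) (hX : IsMultiplyPretransitive G X 2) (hY : IsMultiplyPretransitive G Y 2)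
    (h : ¬ m ^ 2 ∣ Nat.card G) (g : G) : Nat.card (fixedBy X g) = Nat.card (fixedBy Y g) := by
  have hneX : Nonempty X := by
    rw [← Finite.card_pos_iff]; omega
  have hneY : Nonempty Y := by
    rw [← Finite.card_pos_iff]; omega
  refine perm_eq (by omega) (by omega) hX hY (fun h1 => h ?_) g
  have h2 := card_dvd_of_pret h1
  rwa [Nat.card_prod, hX2, hY2, ← sq] at h2

/-- `X` with the action twisted by an automorphism -/
def Tw (X : Type v) (_c : MulAut G) : Type v := X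

/-- the same point -/
def Tw.mk {X : Type v} (c : MulAut G) (x : X) : Tw X c := x

instance (X : Type v) [MulAction G X] (c : MulAut G) : MulAction G (Tw X c) :=
  MulAction.compHom X (c : G ≃* G).toMonoidHom

instance (X : Type v) [Finite X] (c : MulAut G) : Finite (Tw X c) := inferInstanceAs (Finite X)

/-- Invariance of a 2-transitive permutation character under automorphisms. -/
theorem perm_inv {X : Type v} [MulAction G X] [Finite X]
    [IsPretransitive G X] {m : ℕ} (hm : 2 ≤ m) (hX2 : Nat.card X = m)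
    (hX : IsMultiplyPretransitive G X 2)
    (h : ¬ m ^ 2 ∣ Nat.card G) (c : MulAut G) (g : G) :
    Nat.card (fixedBy X (c g)) = Nat.card (fixedBy X g) := by
  have hs : ∀ (g : G) (y : X), g • Tw.mk c y = Tw.mk c (c g • y) := fun _ _ => rfl
  have hYp : IsPretransitive G (Tw X c) := ⟨fun (x y : X) => by
    obtain ⟨g, hg⟩ := exists_smul_eq G x y
    refine ⟨c⁻¹ g, ?_⟩
    show c⁻¹ g • Tw.mk c x = Tw.mk c y
    rw [hs, MulAut.apply_inv_self G c g, hg]⟩
  have hY : IsMultiplyPretransitive G (Tw X c) 2 := by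
    rw [is_two_pretransitive_iff] at hX ⊢
    have key : ∀ a b a' b' : X, a ≠ b → a' ≠ b' →
        ∃ g : G, g • Tw.mk c a = Tw.mk c a' ∧ g • Tw.mk c b = Tw.mk c b' := by
      intro a b a' b' h1 h2
      obtain ⟨g, hg1, hg2⟩ := hX h1 h2
      refine ⟨c⁻¹ g, ?_, ?_⟩
      · rw [hs, MulAut.apply_inv_self G c g, hg1]
      · rw [hs, MulAut.apply_inv_self G c g, hg2]
    intro a b a' b' h1 h2
    exact key a b a' b' h1 h2
  exact perm_eq' (X := Tw X c) (Y := X) hm hX2 hX2 hY hX h g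

end Perm

section Mackey

variable {G : Type u} [Group G] {X : Type v} [MulAction G X]

/-- Mackey's criterion for a linear character of the stabiliser of a point in a 2-transitive action. -/
theorem mackey_of_two (hX : IsMultiplyPretransitive G X 2) (x : X) (l : stabilizer G x →* ℂˣ) (s d : G)
    (hs : s • x ≠ x) (hd : d ∈ stabilizer G x) (hd' : s⁻¹ * d * s ∈ stabilizer G x)
    (hne : l ⟨d, hd⟩ ≠ l ⟨_, hd'⟩) (g : G)
    (h : ∀ a b : stabilizer G x, (b : G) = g * a * g⁻¹ → l a = l b) : g ∈ stabilizer G x := by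
  by_contra hg
  have hg' : g⁻¹ • x ≠ x := by
    intro h1
    apply hg
    rw [mem_stabilizer_iff]
    exact (inv_smul_eq_iff.1 h1).symm
  rw [is_two_pretransitive_iff] at hX
  obtain ⟨k, hk1, hk2⟩ := hX hs.symm hg'.symm
  have hk : k ∈ stabilizer G x := hk1
  have hgk : g * k * s ∈ stabilizer G x := by
    rw [mem_stabilizer_iff, mul_smul, mul_smul, hk2, smul_inv_smul]
  set K : stabilizer G x := ⟨k, hk⟩
  set D : stabilizer G x := ⟨d, hd⟩
  set L : stabilizer G x := ⟨g * k * s, hgk⟩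
  set D' : stabilizer G x := ⟨_, hd'⟩
  have h1 := h (K * D * K⁻¹) (L * D' * L⁻¹) (by
    show g * k * s * (s⁻¹ * d * s) * (g * k * s)⁻¹ = g * (k * d * k⁻¹) * g⁻¹
    group)
  apply hne
  rw [map_mul, map_mul, map_mul, map_mul, map_inv, map_inv, mul_comm (l K), mul_comm (l L),
    mul_inv_cancel_right, mul_inv_cancel_right] at h1
  exact h1

end Mackey

section Block

variable {G : Type u} [Group G] [Finite G] {p : ℕ} [Fact p.Prime] {M : Ideal AlgInt}

/-- `π - 1` in the principal block. -/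
theorem perm_mem (hM : IsPModular p M) {X : Type v} [MulAction G X] [Finite X] [IsPretransitive G X] (x : X)
    (l : stabilizer G x →* ℂˣ) (hl : ∃ k : ℕ, l ^ p ^ k = 1)
    (hmack : ∀ g : G, (∀ a b : stabilizer G x, (b : G) = g * a * g⁻¹ → l a = l b) → g ∈ stabilizer G x)
    (ψ : IrrCharacter G) (hψ : ∀ g, (ψ : G → ℂ) g = (Nat.card (fixedBy X g) : ℂ) - 1) :
    ψ ∈ principalBlock M G := by
  classical
  have := Fintype.ofFinite G
  have := Fintype.ofFinite (stabilizer G x)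
  obtain ⟨R, hR, hRv, -⟩ := H112.HT.exists_mackey hM (stabilizer G x) l hl hmack
  have hreg : ∀ g : G, ¬ p ∣ orderOf g → (R : G → ℂ) g = (ψ : G → ℂ) g + 1 := by
    intro g hg
    rw [hRv, hψ, sub_add_cancel]
    have h1 : (Nat.card (fixedBy X g) : ℂ) = indFun (stabilizer G x) (fun _ => 1) g :=
      congrFun (S0190.result (G := G) X x) g
    rw [h1, S0150.indFun_apply, S0150.indFun_apply]
    congr 1
    refine Finset.sum_congr rfl fun y _ => ?_
    by_cases hy : y⁻¹ * g * y ∈ stabilizer G x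
    · rw [show y⁻¹ * g * y = ((⟨_, hy⟩ : stabilizer G x) : G) from rfl, S0150.extendByZero_coe,
        S0150.extendByZero_coe]
      have h2 : ¬ p ∣ orderOf (⟨_, hy⟩ : stabilizer G x) := by
        rw [← Subgroup.orderOf_coe]
        have h3 : orderOf (y⁻¹ * g * y) = orderOf g := by
          have := (MulAut.conj y⁻¹).orderOf_eq g
          simpa only [_root_.map_inv, _root_.MulAut.inv_apply, _root_.MulAut.conj_symm_apply] using this
        show ¬ p ∣ orderOf (y⁻¹ * g * y)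
        rw [h3]
        exact hg
      rw [H112.HT.lin_regular l hl h2, Units.val_one]
    · unfold extendByZero
      rw [Function.extend_apply', Function.extend_apply']
      · rintro ⟨a, ha⟩
        exact hy (ha ▸ a.2)
      · rintro ⟨a, ha⟩
        exact hy (ha ▸ a.2)
  by_contra hcon
  have h1 := Blocks.Orthogonality.orthogonal_on_p_regular hM (principalBlock M G) (H892.EP.coeff_ring hM)
    R ψ hR hcon
  have h2 := Blocks.Orthogonality.orthogonal_on_p_regular hM (principalBlock M G) (H892.EP.coeff_ring hM)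
    (H892.EP.oneChar G) ψ (H892.EP.one_mem_block hM) hcon
  rw [finsum_mem_eq_finite_toFinset_sum _ (Set.toFinite _)] at h1 h2
  have h3 : ∑ x ∈ (Set.toFinite {x : G | ¬ p ∣ orderOf x}).toFinset, Complex.normSq ((ψ : G → ℂ) x) = 0 := by
    have h4 : (∑ x ∈ (Set.toFinite {x : G | ¬ p ∣ orderOf x}).toFinset, Complex.normSq ((ψ : G → ℂ) x) : ℂ) = 0 := by
      rw [← sub_self (0 : ℂ)]
      nth_rewrite 1 [← h1]
      rw [← h2, ← Finset.sum_sub_distrib]
      refine Finset.sum_congr rfl fun y hy => ?_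
      have hy' : ¬ p ∣ orderOf y := by
        rw [Set.Finite.mem_toFinset] at hy
        exact hy
      rw [hreg y hy', Complex.normSq_eq_conj_mul_self]
      have h5 : ((H892.EP.oneChar G : IrrCharacter G) : G → ℂ) y = 1 := rfl
      rw [h5]
      ring
    exact_mod_cast h4
  have h4 : (1 : G) ∈ (Set.toFinite {x : G | ¬ p ∣ orderOf x}).toFinset := by
    rw [Set.Finite.mem_toFinset]
    show ¬ p ∣ orderOf (1 : G)
    rw [orderOf_one]
    exact (Fact.out : p.Prime).one_lt.ne' ∘ Nat.dvd_one.1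
  have h5 := (Finset.sum_eq_zero_iff_of_nonneg (fun x _ => Complex.normSq_nonneg _)).1 h3 1 h4
  rw [Complex.normSq_eq_zero] at h5
  exact isIrr_apply_one_ne_zero ψ.2 h5

end Block

end Cfsg.Agent.H872.HT
end

-- part: H872/HT/Ext
section
/-!
# Extension of a 2-transitive permutation character (helper872, S4933)

`exists_ext`: `N` normal in `G` of 2-power index, all transitive actions of `N` of degree `m` are 2-transitive, `m` odd,
`m ^ 2 ∤ |N|`, and `K ≤ G` with `|N : N ∩ K| = m` and `|G : N K| ≤ 2`. Then `π - 1` extends to `G`, where `π` is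
the permutation character of degree `m`.
-/

set_option autoImplicit false

open Cfsg Cfsg.Agent.Characters.Core MulAction Subgroup

namespace Cfsg.Agent.H872.HT

universe u w

section Coset

variable {G : Type u} [Group G]

/-- the action of `N` on the cosets of `K` in `H = N K` -/
def CosN (N H K : Subgroup G) (_hN : N ≤ H) : Type u := H ⧸ K.subgroupOf H

/-- the coset -/
def CosN.mk (N H K : Subgroup G) (hN : N ≤ H) (h : H) : CosN N H K hN := (QuotientGroup.mk h : H ⧸ K.subgroupOf H)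

instance (N H K : Subgroup G) (hN : N ≤ H) : MulAction N (CosN N H K hN) :=
  MulAction.compHom (H ⧸ K.subgroupOf H) (Subgroup.inclusion hN)

instance [Finite G] (N H K : Subgroup G) (hN : N ≤ H) : Finite (CosN N H K hN) :=
  inferInstanceAs (Finite (H ⧸ K.subgroupOf H))

theorem CosN.smul_mk (N H K : Subgroup G) (hN : N ≤ H) (n : N) (h : H) :
    n • CosN.mk N H K hN h = CosN.mk N H K hN (Subgroup.inclusion hN n * h) := rfl

theorem CosN.mk_eq (N H K : Subgroup G) (hN : N ≤ H) (a b : H) :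
    CosN.mk N H K hN a = CosN.mk N H K hN b ↔ (a : G)⁻¹ * b ∈ K := by
  have h : ((QuotientGroup.mk a : H ⧸ K.subgroupOf H) = QuotientGroup.mk b) ↔ (a : G)⁻¹ * b ∈ K := by
    rw [QuotientGroup.eq, mem_subgroupOf]
    rfl
  exact h

theorem CosN.exists_mk (N H K : Subgroup G) (hN : N ≤ H) (x : CosN N H K hN) :
    ∃ h : H, x = CosN.mk N H K hN h := by
  obtain ⟨h, hh⟩ := QuotientGroup.mk_surjective (s := K.subgroupOf H) x
  exact ⟨h, hh.symm⟩

theorem CosN.pret (N H K : Subgroup G) (hN : N ≤ H) (hNn : N.Normal) (hH : H = N ⊔ K) :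
    IsPretransitive N (CosN N H K hN) := by
  have key : ∀ h : H, ∃ n : N, n • CosN.mk N H K hN 1 = CosN.mk N H K hN h := by
    intro h
    have h1 : (h : G) ∈ N ⊔ K := hH ▸ h.2
    obtain ⟨n, hn, k, hk, h2⟩ := Subgroup.mem_sup_of_normal_left.1 h1
    refine ⟨⟨n, hn⟩, ?_⟩
    rw [CosN.smul_mk, CosN.mk_eq]
    show (n * 1)⁻¹ * (h : G) ∈ K
    rw [← h2, mul_one, inv_mul_cancel_left]
    exact hk
  constructor
  intro x y
  obtain ⟨a, rfl⟩ := CosN.exists_mk N H K hN x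
  obtain ⟨b, rfl⟩ := CosN.exists_mk N H K hN y
  obtain ⟨n, hn⟩ := key a
  obtain ⟨n', hn'⟩ := key b
  refine ⟨n' * n⁻¹, ?_⟩
  rw [mul_smul, ← hn, inv_smul_smul, hn']

theorem CosN.card (N H K : Subgroup G) (hN : N ≤ H) (hNn : N.Normal) (hH : H = N ⊔ K) :
    Nat.card (CosN N H K hN) = K.relIndex N := by
  have := CosN.pret N H K hN hNn hH
  rw [← index_stabilizer_of_transitive N (CosN.mk N H K hN 1)]
  have h1 : stabilizer N (CosN.mk N H K hN 1) = K.subgroupOf N := by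
    ext n
    rw [mem_stabilizer_iff, CosN.smul_mk, CosN.mk_eq, mem_subgroupOf]
    show ((n : G) * 1)⁻¹ * 1 ∈ K ↔ _
    rw [mul_one, mul_one, inv_mem_iff]
  rw [h1]
  rfl

end Coset

variable {G : Type u} [Group G] [Finite G]

theorem exists_ext (N : Subgroup G) [hNn : N.Normal] {m : ℕ} (hm : 2 ≤ m)
    (hidx : ∃ j : ℕ, N.index = 2 ^ j) (hmodd : Odd m) (hdvd : ¬ m ^ 2 ∣ Nat.card N)
    (h2t : ∀ (X : Type u) [MulAction N X] [Finite X] [IsPretransitive N X], Nat.card X = m →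
      IsMultiplyPretransitive N X 2)
    (K : Subgroup G) (hK : K.relIndex N = m) (h2 : (N ⊔ K).index ≤ 2)
    (Y : Type w) [MulAction N Y] [Finite Y] [IsPretransitive N Y] (hYm : Nat.card Y = m)
    (hY2 : IsMultiplyPretransitive N Y 2) :
    ∃ χ : IrrCharacter G, ∀ n : N, (χ : G → ℂ) n = (Nat.card (fixedBy Y n) : ℂ) - 1 := by
  classical
  set H : Subgroup G := N ⊔ K with hH
  have hN : N ≤ H := le_sup_left
  have hKH : K ≤ H := le_sup_right
  have hH0 : H.index ≠ 0 := Subgroup.index_ne_zero_of_finite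
  have hHn : H.Normal := by
    rcases Nat.lt_or_ge H.index 2 with h | h
    · have h3 : H = ⊤ := Subgroup.index_eq_one.1 (by omega)
      rw [h3]; infer_instance
    · exact Subgroup.normal_of_index_eq_two (by omega)
  have hcyc : IsCyclic (G ⧸ H) := by
    have h3 : Nat.card (G ⧸ H) = H.index := rfl
    rcases Nat.lt_or_ge H.index 2 with h | h
    · have h4 : Nat.card (G ⧸ H) = 1 := by omega
      have := (Nat.card_eq_one_iff_unique.1 h4).1
      infer_instance
    · have : Fact (Nat.Prime 2) := ⟨Nat.prime_two⟩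
      exact isCyclic_of_prime_card (p := 2) (by omega)
  -- the order of H
  have hHcard : ¬ m ^ 2 ∣ Nat.card H := by
    intro h
    apply hdvd
    obtain ⟨j, hj⟩ := hidx
    have h3 : Nat.card N * N.relIndex H = Nat.card H := by
      rw [← Subgroup.relIndex_bot_left N, ← Subgroup.relIndex_bot_left H]
      exact Subgroup.relIndex_mul_relIndex _ _ _ bot_le hN
    have h4 : N.relIndex H ∣ 2 ^ j := by
      rw [← hj]
      exact Subgroup.relIndex_dvd_index_of_normal N H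
    have h5 : (m ^ 2).Coprime (N.relIndex H) := by
      apply Nat.Coprime.coprime_dvd_right h4
      apply Nat.Coprime.pow
      exact Nat.coprime_two_right.2 hmodd
    rw [← h3] at h
    exact h5.dvd_of_dvd_mul_right h
  -- the action of H on the cosets of K
  have hpN := CosN.pret N H K hN hNn hH
  have hcN : Nat.card (CosN N H K hN) = m := (CosN.card N H K hN hNn hH).trans hK
  have h2N : IsMultiplyPretransitive N (CosN N H K hN) 2 := h2t _ hcN
  have hcH : Nat.card (H ⧸ K.subgroupOf H) = m := hcN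
  have h2H : IsMultiplyPretransitive H (H ⧸ K.subgroupOf H) 2 := by
    rw [is_two_pretransitive_iff] at h2N ⊢
    intro a b c d hab hcd
    obtain ⟨n, hn1, hn2⟩ := @h2N a b c d hab hcd
    exact ⟨Subgroup.inclusion hN n, hn1, hn2⟩
  have hirr : IsIrrCharacter H (fun h : H => (Nat.card (fixedBy (H ⧸ K.subgroupOf H) h) : ℂ) - 1) :=
    (S0157.result (H ⧸ K.subgroupOf H) (by omega)).2 h2H
  obtain ⟨χ, hχ, hχv⟩ := S0886.result H hcyc _ hirr (fun g t => by
    have h3 := perm_inv hm hcH h2H hHcard (MulAut.conjNormal g) t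
    have h4 : (⟨g * t * g⁻¹, hHn.conj_mem (t : G) t.2 g⟩ : H) = MulAut.conjNormal g t := by
      apply Subtype.ext
      rw [MulAut.conjNormal_apply]
    rw [h4, h3])
  refine ⟨⟨χ, hχ⟩, fun n => ?_⟩
  have h3 := hχv (Subgroup.inclusion hN n)
  show χ (n : G) = _
  rw [show (n : G) = ((Subgroup.inclusion hN n : H) : G) from rfl, h3]
  have h5 := perm_eq' (X := CosN N H K hN) (Y := Y) hm hcN hYm h2N hY2 hdvd n
  rw [← h5]
  rfl

end Cfsg.Agent.H872.HT
end

-- part: H872/HT/L3Geo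
section
/-!
# Subgroups of `PSL_3(q)` of index `q^2 + q + 1` (helper872, S4933)

* `cls` : such a subgroup of `SL_3(q)` is the stabiliser of a point or of a line;
* `three` : among three such subgroups of a quotient of `SL_3(q)` two are conjugate;
* `index_le_two` : `|G : N N_G(P)| ≤ 2` for `P ≤ N` of index `q^2 + q + 1`;
* `not_sq_dvd` : `(q^2 + q + 1)^2` does not divide the order.
-/

set_option autoImplicit false

namespace Cfsg.Agent.H872.HT

open Matrix MulAction Cfsg.Agent.H937.SL3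
open Cfsg.Agent.ClassicalGeometry.AutPSL.Auto

section SL

variable {F : Type*} [Field F] [Finite F]

local notation "SL3" => Matrix.SpecialLinearGroup (Fin 3) F

theorem cls {K : Subgroup SL3} (hK : K.index = Nat.card F ^ 2 + Nat.card F + 1) :
    (∃ x : Projectivization F (Fin 3 → F), K = stabilizer SL3 x) ∨
      (∃ x : Projectivization F (Fin 3 → F), K.map (itr : MulAut SL3).toMonoidHom = stabilizer SL3 x) := by
  have := Fintype.ofFinite F
  obtain ⟨p, hchar⟩ := CharP.exists F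
  obtain ⟨a, hp, ha⟩ := FiniteField.card F p
  have hfp : Fact p.Prime := ⟨hp⟩
  have hpq : p ∣ Nat.card F := by
    rw [Nat.card_eq_fintype_card, ha]
    exact dvd_pow_self p a.pos.ne'
  have h1 : ¬ p ∣ K.index := by
    intro h
    rw [hK] at h
    have h2 : p ∣ Nat.card F ^ 2 + Nat.card F := by
      rw [sq]; exact Dvd.dvd.add (hpq.mul_right _) hpq
    exact hp.one_lt.ne' (Nat.dvd_one.1 ((Nat.dvd_add_right h2).1 h))
  have h2 : K ≠ ⊤ := by
    rintro rfl
    rw [Subgroup.index_top] at hK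
    have : 0 < Nat.card F := Nat.card_pos
    have : 0 < Nat.card F ^ 2 := by positivity
    omega
  obtain ⟨W, hW0, hW1, hW⟩ := exists_invariant (p := p) h1 h2
  rcases point_or_line hW0 hW1 hW with ⟨x, hx⟩ | ⟨x, hx⟩
  · left
    refine ⟨x, stab_eq_of_le hx ?_⟩
    rw [sum_three, hK]
  · right
    refine ⟨x, stab_eq_of_le hx ?_⟩
    rw [sum_three, ← hK]
    exact (Subgroup.index_map_equiv K (itr : SL3 ≃* SL3)).le

omit [Finite F] in
theorem conj_stab (x y : Projectivization F (Fin 3 → F)) :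
    ∃ g : SL3, stabilizer SL3 y = (stabilizer SL3 x).map (MulAut.conj g).toMonoidHom := by
  obtain ⟨g, hg⟩ := (pretrans (ι := Fin 3) (F := F)).exists_smul_eq x y
  exact ⟨g, by rw [← hg, stabilizer_smul_eq_stabilizer_map_conj]⟩

omit [Finite F] in
theorem conj_itr {K L : Subgroup SL3} {g : SL3}
    (h : L.map (itr : MulAut SL3).toMonoidHom =
      (K.map (itr : MulAut SL3).toMonoidHom).map (MulAut.conj g).toMonoidHom) :
    ∃ k : SL3, L = K.map (MulAut.conj k).toMonoidHom := by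
  obtain ⟨k, rfl⟩ := (itr : MulAut SL3).surjective g
  refine ⟨k, ?_⟩
  apply Subgroup.map_injective (itr : MulAut SL3).injective (f := (itr : MulAut SL3).toMonoidHom)
  rw [h, Subgroup.map_map, Subgroup.map_map]
  congr 1
  ext1 x
  show (itr : MulAut SL3) k * (itr : MulAut SL3) x * ((itr : MulAut SL3) k)⁻¹ = (itr : MulAut SL3) (k * x * k⁻¹)
  rw [map_mul, map_mul, map_inv]

/-- among three subgroups of index `q^2 + q + 1` two are conjugate -/
theorem three_SL (K1 K2 K3 : Subgroup SL3) (h1 : K1.index = Nat.card F ^ 2 + Nat.card F + 1)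
    (h2 : K2.index = Nat.card F ^ 2 + Nat.card F + 1) (h3 : K3.index = Nat.card F ^ 2 + Nat.card F + 1) :
    ∃ g : SL3, K2 = K1.map (MulAut.conj g).toMonoidHom ∨ K3 = K1.map (MulAut.conj g).toMonoidHom ∨
      K3 = K2.map (MulAut.conj g).toMonoidHom := by
  have A : ∀ K L : Subgroup SL3, (∃ x : Projectivization F (Fin 3 → F), K = stabilizer SL3 x) →
      (∃ x : Projectivization F (Fin 3 → F), L = stabilizer SL3 x) →
      ∃ g : SL3, L = K.map (MulAut.conj g).toMonoidHom := by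
    rintro _ _ ⟨x, rfl⟩ ⟨y, rfl⟩
    exact conj_stab x y
  have B : ∀ K L : Subgroup SL3,
      (∃ x : Projectivization F (Fin 3 → F), K.map (itr : MulAut SL3).toMonoidHom = stabilizer SL3 x) →
      (∃ x : Projectivization F (Fin 3 → F), L.map (itr : MulAut SL3).toMonoidHom = stabilizer SL3 x) →
      ∃ g : SL3, L = K.map (MulAut.conj g).toMonoidHom := by
    rintro K L ⟨x, hx⟩ ⟨y, hy⟩
    obtain ⟨g, hg⟩ := conj_stab x y
    exact conj_itr (g := g) (by rw [hx, hy, hg])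
  rcases cls h1 with a1 | a1 <;> rcases cls h2 with a2 | a2 <;> rcases cls h3 with a3 | a3
  · obtain ⟨g, hg⟩ := A _ _ a1 a2; exact ⟨g, Or.inl hg⟩
  · obtain ⟨g, hg⟩ := A _ _ a1 a2; exact ⟨g, Or.inl hg⟩
  · obtain ⟨g, hg⟩ := A _ _ a1 a3; exact ⟨g, Or.inr (Or.inl hg)⟩
  · obtain ⟨g, hg⟩ := B _ _ a2 a3; exact ⟨g, Or.inr (Or.inr hg)⟩
  · obtain ⟨g, hg⟩ := A _ _ a2 a3; exact ⟨g, Or.inr (Or.inr hg)⟩
  · obtain ⟨g, hg⟩ := B _ _ a1 a3; exact ⟨g, Or.inr (Or.inl hg)⟩
  · obtain ⟨g, hg⟩ := B _ _ a1 a2; exact ⟨g, Or.inl hg⟩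
  · obtain ⟨g, hg⟩ := B _ _ a1 a2; exact ⟨g, Or.inl hg⟩

/-- the same for a quotient of `SL_3(q)` -/
theorem three {N : Type*} [Group N] (f : SL3 →* N) (hf : Function.Surjective f) (K1 K2 K3 : Subgroup N)
    (h1 : K1.index = Nat.card F ^ 2 + Nat.card F + 1)
    (h2 : K2.index = Nat.card F ^ 2 + Nat.card F + 1) (h3 : K3.index = Nat.card F ^ 2 + Nat.card F + 1) :
    ∃ g : N, K2 = K1.map (MulAut.conj g).toMonoidHom ∨ K3 = K1.map (MulAut.conj g).toMonoidHom ∨
      K3 = K2.map (MulAut.conj g).toMonoidHom := by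
  have key : ∀ (K L : Subgroup N) (g : SL3), L.comap f = (K.comap f).map (MulAut.conj g).toMonoidHom →
      L = K.map (MulAut.conj (f g)).toMonoidHom := by
    intro K L g h
    have e : ((K.comap f).map (MulAut.conj g).toMonoidHom).map f =
        ((K.comap f).map f).map (MulAut.conj (f g)).toMonoidHom := by
      rw [Subgroup.map_map, Subgroup.map_map]
      congr 1
      ext1 x
      show f (g * x * g⁻¹) = f g * f x * (f g)⁻¹
      rw [map_mul, map_mul, map_inv]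
    rw [← h, Subgroup.map_comap_eq_self_of_surjective hf, Subgroup.map_comap_eq_self_of_surjective hf] at e
    exact e
  obtain ⟨g, hg⟩ := three_SL (K1.comap f) (K2.comap f) (K3.comap f)
    (by rw [Subgroup.index_comap_of_surjective _ hf, h1]) (by rw [Subgroup.index_comap_of_surjective _ hf, h2])
    (by rw [Subgroup.index_comap_of_surjective _ hf, h3])
  refine ⟨f g, ?_⟩
  rcases hg with h | h | h
  · exact Or.inl (key _ _ g h)
  · exact Or.inr (Or.inl (key _ _ g h))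
  · exact Or.inr (Or.inr (key _ _ g h))

theorem not_dvd_index : ¬ Nat.card F ^ 2 + Nat.card F + 1 ∣ Nat.card F ^ 3 * (Nat.card F ^ 2 - 1) * (Nat.card F - 1) := by
  intro h
  have hq : 1 < Nat.card F := Finite.one_lt_card
  obtain ⟨r, hr, h3, hd⟩ := exists_prime hq
  exact prime_facts hr h3 (by omega) hd (hd.trans h)

theorem not_sq_dvd {N : Type*} [Group N] (f : SL3 →* N) (hf : Function.Surjective f) :
    ¬ (Nat.card F ^ 2 + Nat.card F + 1) ^ 2 ∣ Nat.card N := by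
  intro h
  have h1 : Nat.card N ∣ Nat.card SL3 := Subgroup.card_dvd_of_surjective f hf
  rw [card_SL3] at h1
  have h2 := h.trans h1
  rw [sq] at h2
  exact not_dvd_index (F := F) (Nat.dvd_of_mul_dvd_mul_right (by positivity) h2)

end SL

section Ind

variable {G : Type*} [Group G]

theorem index_le_two_of (H : Subgroup G) [Finite G] (h : ∀ a b : G, a ∈ H ∨ b ∈ H ∨ a⁻¹ * b ∈ H) : H.index ≤ 2 := by
  classical
  have := Fintype.ofFinite (G ⧸ H)
  by_contra hcon
  have h1 : 2 < Fintype.card (G ⧸ H) := by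
    rw [← Nat.card_eq_fintype_card]
    have : Nat.card (G ⧸ H) = H.index := rfl
    omega
  obtain ⟨x, y, z, hxy, hxz, hyz⟩ := Fintype.two_lt_card_iff.1 h1
  induction x using QuotientGroup.induction_on with | H x =>
  induction y using QuotientGroup.induction_on with | H y =>
  induction z using QuotientGroup.induction_on with | H z =>
  rw [ne_eq, QuotientGroup.eq] at hxy hxz hyz
  rcases h (x⁻¹ * y) (x⁻¹ * z) with h2 | h2 | h2
  · exact hxy h2
  · exact hxz h2
  · apply hyz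
    rw [_root_.mul_inv_rev, inv_inv, mul_assoc, mul_inv_cancel_left] at h2
    exact h2

/-- `|G : N N_G(P)| ≤ 2` if among three subgroups of `N` of the index of `P` two are `N`-conjugate -/
theorem index_le_two [Finite G] (N : Subgroup G) [hN : N.Normal] (P : Subgroup N) {m : ℕ} (hm : P.index = m)
    (h3 : ∀ K1 K2 K3 : Subgroup N, K1.index = m → K2.index = m → K3.index = m →
      ∃ g : N, K2 = K1.map (MulAut.conj g).toMonoidHom ∨ K3 = K1.map (MulAut.conj g).toMonoidHom ∨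
        K3 = K2.map (MulAut.conj g).toMonoidHom)
    (K : Subgroup G) (hK : ∀ g : G, P.map (MulAut.conjNormal g : MulAut N).toMonoidHom = P → g ∈ K) :
    (N ⊔ K).index ≤ 2 := by
  have hc : ∀ n : N, (MulAut.conj n : MulAut N) = MulAut.conjNormal (n : G) := by
    intro n
    ext x
    rw [MulAut.conjNormal_apply]
    rfl
  have hmm : ∀ (Q : Subgroup N) (a b : G), (Q.map (MulAut.conjNormal a : MulAut N).toMonoidHom).map
      (MulAut.conjNormal b : MulAut N).toMonoidHom = Q.map (MulAut.conjNormal (b * a) : MulAut N).toMonoidHom := by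
    intro Q a b
    rw [Subgroup.map_map]
    congr 1
    ext1 x
    show (MulAut.conjNormal b : MulAut N) ((MulAut.conjNormal a : MulAut N) x) = (MulAut.conjNormal (b * a) : MulAut N) x
    rw [map_mul]
    rfl
  have h1m : ∀ (Q : Subgroup N), Q.map (MulAut.conjNormal (1 : G) : MulAut N).toMonoidHom = Q := by
    intro Q
    rw [map_one]
    exact Subgroup.map_id Q
  have hidx : ∀ a : G, (P.map (MulAut.conjNormal a : MulAut N).toMonoidHom).index = m := by
    intro a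
    rw [← hm]
    exact Subgroup.index_map_equiv P (MulAut.conjNormal a : N ≃* N)
  have key : ∀ (a b : G) (n : N), P.map (MulAut.conjNormal b : MulAut N).toMonoidHom =
      (P.map (MulAut.conjNormal a : MulAut N).toMonoidHom).map (MulAut.conj n : MulAut N).toMonoidHom →
      a⁻¹ * b ∈ N ⊔ K := by
    intro a b n h
    rw [hc, hmm] at h
    have h2 := congrArg (fun Q : Subgroup N => Q.map (MulAut.conjNormal (n * a)⁻¹ : MulAut N).toMonoidHom) h
    rw [hmm, hmm, inv_mul_cancel, h1m] at h2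
    have h4 : a⁻¹ * b = (a⁻¹ * n * a) * (((n : G) * a)⁻¹ * b) := by group
    rw [h4]
    have h5 : a⁻¹ * n * a ∈ N := by
      have := hN.conj_mem (n : G) n.2 a⁻¹
      rwa [inv_inv] at this
    exact mul_mem (Subgroup.mem_sup_left h5) (Subgroup.mem_sup_right (hK _ h2))
  apply index_le_two_of
  intro a b
  obtain ⟨n, h | h | h⟩ := h3 (P.map (MulAut.conjNormal (1 : G) : MulAut N).toMonoidHom)
    (P.map (MulAut.conjNormal a : MulAut N).toMonoidHom) (P.map (MulAut.conjNormal b : MulAut N).toMonoidHom)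
    (hidx 1) (hidx a) (hidx b)
  · left
    have := key 1 a n h
    rwa [inv_one, one_mul] at this
  · right; left
    have := key 1 b n h
    rwa [inv_one, one_mul] at this
  · right; right
    exact key a b n h

end Ind

end Cfsg.Agent.H872.HT
end

-- part: H872/HT/L3Lin
section
/-!
# The character of degree `q (q + 1)` of `PSL_3(q)`, `q` odd, is in the principal 2-block (helper872, S4933)
-/

set_option autoImplicit false

namespace Cfsg.Agent.H872.HT

open Matrix MulAction Cfsg Cfsg.Agent.H937.SL3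

section Lin

variable {F : Type*} [Field F] [Fintype F]

local notation "SL3" => Matrix.SpecialLinearGroup (Fin 3) F

/-- the quadratic character with complex values -/
noncomputable def chi2 (F : Type*) [Field F] [Fintype F] [DecidableEq F] : Fˣ →* ℂˣ :=
  (Units.map (Int.castRingHom ℂ : ℤ →* ℂ)).comp (quadraticChar F).toUnitHom

theorem chi2_apply [DecidableEq F] (c : Fˣ) : ((chi2 F c : ℂˣ) : ℂ) = (quadraticChar F (c : F) : ℤ) := rfl

theorem chi2_sq [DecidableEq F] (c : Fˣ) : chi2 F c ^ 2 = 1 := by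
  apply Units.ext
  rw [Units.val_pow_eq_pow_val, chi2_apply, Units.val_one]
  have h := quadraticChar_sq_one (F := F) (a := (c : F)) c.ne_zero
  exact_mod_cast h

theorem chi2_of_cube [DecidableEq F] {c : Fˣ} (h : c ^ 3 = 1) : chi2 F c = 1 := by
  have h1 : chi2 F c ^ 3 = 1 := by rw [← map_pow, h, map_one]
  have h2 := chi2_sq c
  rw [pow_succ, h2, one_mul] at h1
  exact h1

theorem exists_chi2 [DecidableEq F] (hodd : Odd (Fintype.card F)) : ∃ c : Fˣ, chi2 F c ≠ 1 := by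
  have h2 : ringChar F ≠ 2 := by
    intro h
    have := FiniteField.even_card_iff_char_two.1 h
    rw [Nat.odd_iff] at hodd
    omega
  obtain ⟨a, ha⟩ := quadraticChar_exists_neg_one h2
  have ha0 : a ≠ 0 := by
    rintro rfl
    rw [quadraticChar_zero] at ha
    norm_num at ha
  refine ⟨Units.mk0 a ha0, fun h => ?_⟩
  have h1 := congrArg (fun u : ℂˣ => (u : ℂ)) h
  rw [chi2_apply, Units.val_mk0, ha, Units.val_one] at h1
  norm_num at h1

/-- the first basis vector -/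
def e0 : Fin 3 → F := Pi.single 0 1

omit [Fintype F] in
theorem e0_ne : (e0 : Fin 3 → F) ≠ 0 := by
  intro h
  have := congrFun h 0
  rw [e0, Pi.single_eq_same] at this
  exact one_ne_zero this

/-- the first point -/
def x0 : Projectivization F (Fin 3 → F) := Projectivization.mk F e0 e0_ne

omit [Fintype F] in
theorem mem_st {g : SL3} : g ∈ stabilizer SL3 (x0 : Projectivization F (Fin 3 → F)) ↔
    (g : Matrix (Fin 3) (Fin 3) F) 1 0 = 0 ∧ (g : Matrix (Fin 3) (Fin 3) F) 2 0 = 0 := by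
  rw [x0, mem_stab_mk]
  have h1 : (g : Matrix (Fin 3) (Fin 3) F) *ᵥ e0 = fun i => (g : Matrix (Fin 3) (Fin 3) F) i 0 := by
    funext i
    rw [e0, mulVec_single_one]
    rfl
  rw [h1]
  constructor
  · rintro ⟨c, hc⟩
    have e1 := congrFun hc 1
    have e2 := congrFun hc 2
    simp [e0] at e1 e2
    exact ⟨e1, e2⟩
  · rintro ⟨e1, e2⟩
    refine ⟨(g : Matrix (Fin 3) (Fin 3) F) 0 0, ?_⟩
    funext i
    (revert i; simp only [e0, e1, e2, _root_.Fin.forall_fin_succ, Fin.isValue, _root_.Pi.smul_apply, _root_.smul_eq_mul, _root_.Pi.single_eq_same, _root_.mul_one, _root_.ne_eq, _root_.Fin.succ_ne_zero, _root_.not_false_eq_true, _root_.Pi.single_eq_of_ne, _root_.MulZeroClass.mul_zero, _root_.Fin.succ_zero_eq_one, _root_.Fin.succ_one_eq_two, _root_.IsEmpty.forall_iff, _root_.and_self])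

/-- the eigenvalue on the first point -/
def eig : stabilizer SL3 (x0 : Projectivization F (Fin 3 → F)) →* F where
  toFun g := ((g : SL3) : Matrix (Fin 3) (Fin 3) F) 0 0
  map_one' := by
    show ((1 : SL3) : Matrix (Fin 3) (Fin 3) F) 0 0 = 1
    rw [Matrix.SpecialLinearGroup.coe_one, one_apply_eq]
  map_mul' a b := by
    have hb := mem_st.1 b.2
    show ((((a : SL3) * (b : SL3) : SL3)) : Matrix (Fin 3) (Fin 3) F) 0 0 = _
    rw [Matrix.SpecialLinearGroup.coe_mul, mul_apply, Fin.sum_univ_three, hb.1, hb.2, mul_zero, mul_zero, add_zero,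
      add_zero]

/-- the linear character of order two of the stabiliser -/
noncomputable def lamS [DecidableEq F] : stabilizer SL3 (x0 : Projectivization F (Fin 3 → F)) →* ℂˣ :=
  (chi2 F).comp (eig (F := F)).toHomUnits

variable {N : Type*} [Group N]

/-- the action of `N` on the points, through an isomorphism with `PSL_3` -/
def Pts (_e : N ≃* Matrix.ProjectiveSpecialLinearGroup (Fin 3) F) : Type _ := Projectivization F (Fin 3 → F)

/-- a point -/
def Pts.mk (e : N ≃* Matrix.ProjectiveSpecialLinearGroup (Fin 3) F) (x : Projectivization F (Fin 3 → F)) :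
    Pts e := x

/-- the projection -/
def prj (e : N ≃* Matrix.ProjectiveSpecialLinearGroup (Fin 3) F) : SL3 →* N :=
  (e.symm : Matrix.ProjectiveSpecialLinearGroup (Fin 3) F ≃* N).toMonoidHom.comp (QuotientGroup.mk' _)

omit [Fintype F] in
theorem prj_surj (e : N ≃* Matrix.ProjectiveSpecialLinearGroup (Fin 3) F) : Function.Surjective (prj e) :=
  e.symm.surjective.comp (QuotientGroup.mk'_surjective _)

omit [Fintype F] in
theorem prj_ker (e : N ≃* Matrix.ProjectiveSpecialLinearGroup (Fin 3) F) {g : SL3} (h : prj e g = 1) :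
    g ∈ Subgroup.center SL3 := by
  have h1 : e.symm (QuotientGroup.mk g : Matrix.ProjectiveSpecialLinearGroup (Fin 3) F) = 1 := h
  rw [EmbeddingLike.map_eq_one_iff] at h1
  exact (QuotientGroup.eq_one_iff g).1 h1

noncomputable instance (e : N ≃* Matrix.ProjectiveSpecialLinearGroup (Fin 3) F) : MulAction N (Pts e) :=
  MulAction.compHom (Projectivization F (Fin 3 → F)) e.toMonoidHom

instance (e : N ≃* Matrix.ProjectiveSpecialLinearGroup (Fin 3) F) : Finite (Pts e) := by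
  have : Finite (Projectivization F (Fin 3 → F)) := by
    unfold Projectivization
    infer_instance
  exact inferInstanceAs (Finite (Projectivization F (Fin 3 → F)))

omit [Fintype F] in
theorem smul_mk (e : N ≃* Matrix.ProjectiveSpecialLinearGroup (Fin 3) F) (g : SL3)
    (x : Projectivization F (Fin 3 → F)) : prj e g • Pts.mk e x = Pts.mk e (g • x) := by
  have h : e (prj e g) = (QuotientGroup.mk g : Matrix.ProjectiveSpecialLinearGroup (Fin 3) F) := by
    show e (e.symm _) = _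
    rw [MulEquiv.apply_symm_apply]
    rfl
  have h2 : prj e g • Pts.mk e x = (e (prj e g) • x : Projectivization F (Fin 3 → F)) := rfl
  rw [h2, h]
  rfl

instance (e : N ≃* Matrix.ProjectiveSpecialLinearGroup (Fin 3) F) : IsPretransitive N (Pts e) := by
  have h := pretrans (ι := Fin 3) (F := F)
  refine ⟨fun (x y : Projectivization F (Fin 3 → F)) => ?_⟩
  obtain ⟨g, hg⟩ := exists_smul_eq SL3 x y
  refine ⟨prj e g, ?_⟩
  show prj e g • Pts.mk e x = Pts.mk e y
  rw [smul_mk, hg]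

omit [Fintype F] in
theorem pts_two (e : N ≃* Matrix.ProjectiveSpecialLinearGroup (Fin 3) F) :
    IsMultiplyPretransitive N (Pts e) 2 := by
  have h : IsMultiplyPretransitive SL3 (Projectivization F (Fin 3 → F)) 2 := inferInstance
  rw [is_two_pretransitive_iff] at h ⊢
  have key : ∀ a b c d : Projectivization F (Fin 3 → F), a ≠ b → c ≠ d →
      ∃ n : N, n • Pts.mk e a = Pts.mk e c ∧ n • Pts.mk e b = Pts.mk e d := by
    intro a b c d h1 h2
    obtain ⟨g, hg1, hg2⟩ := h h1 h2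
    exact ⟨prj e g, by rw [smul_mk, hg1], by rw [smul_mk, hg2]⟩
  intro a b c d h1 h2
  exact key a b c d h1 h2

theorem card_pts (e : N ≃* Matrix.ProjectiveSpecialLinearGroup (Fin 3) F) :
    Nat.card (Pts e) = Nat.card F ^ 2 + Nat.card F + 1 := by
  have h := Projectivization.card_of_finrank F (Fin 3 → F) (Module.finrank_fin_fun F (n := 3))
  rw [sum_three] at h
  exact h

/-- the projection of the stabiliser -/
def prjS (e : N ≃* Matrix.ProjectiveSpecialLinearGroup (Fin 3) F) :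
    stabilizer SL3 (x0 : Projectivization F (Fin 3 → F)) →* stabilizer N (Pts.mk e x0) where
  toFun g := ⟨prj e (g : SL3), by
    rw [mem_stabilizer_iff, smul_mk, mem_stabilizer_iff.1 g.2]⟩
  map_one' := Subtype.ext (map_one (prj e))
  map_mul' a b := Subtype.ext (map_mul (prj e) (a : SL3) (b : SL3))

omit [Fintype F] in
theorem mem_st_iff (e : N ≃* Matrix.ProjectiveSpecialLinearGroup (Fin 3) F) (g : SL3) :
    prj e g ∈ stabilizer N (Pts.mk e x0) ↔ g ∈ stabilizer SL3 (x0 : Projectivization F (Fin 3 → F)) := by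
  rw [mem_stabilizer_iff, smul_mk, mem_stabilizer_iff]
  rfl

omit [Fintype F] in
theorem prjS_surj (e : N ≃* Matrix.ProjectiveSpecialLinearGroup (Fin 3) F) : Function.Surjective (prjS e) := by
  rintro ⟨n, hn⟩
  obtain ⟨g, rfl⟩ := prj_surj e n
  exact ⟨⟨g, (mem_st_iff e g).1 hn⟩, rfl⟩

theorem ker_le [DecidableEq F] (e : N ≃* Matrix.ProjectiveSpecialLinearGroup (Fin 3) F) :
    (prjS e).ker ≤ (lamS (F := F)).ker := by
  intro g hg
  rw [MonoidHom.mem_ker] at hg ⊢
  have h1 : prj e (g : SL3) = 1 := congrArg Subtype.val hg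
  have h2 := prj_ker e h1
  rw [Matrix.SpecialLinearGroup.mem_center_iff] at h2
  obtain ⟨r, hr, hr2⟩ := h2
  have h3 : eig g = r := by
    show ((g : SL3) : Matrix (Fin 3) (Fin 3) F) 0 0 = r
    rw [← hr2, scalar_apply, diagonal_apply_eq]
  have h4 : (eig (F := F)).toHomUnits g ^ 3 = 1 := by
    apply Units.ext
    rw [Units.val_pow_eq_pow_val, MonoidHom.coe_toHomUnits, h3, Units.val_one]
    simpa only [_root_.Fintype.card_fin] using hr
  exact chi2_of_cube h4

/-- the linear character of order two of the stabiliser in `N` -/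
noncomputable def lam [DecidableEq F] (e : N ≃* Matrix.ProjectiveSpecialLinearGroup (Fin 3) F) :
    stabilizer N (Pts.mk e x0) →* ℂˣ :=
  (prjS e).liftOfRightInverse (Function.surjInv (prjS_surj e)) (Function.rightInverse_surjInv _)
    ⟨lamS (F := F), ker_le e⟩

theorem lam_apply [DecidableEq F] (e : N ≃* Matrix.ProjectiveSpecialLinearGroup (Fin 3) F)
    (g : stabilizer SL3 (x0 : Projectivization F (Fin 3 → F))) : lam e (prjS e g) = lamS g :=
  (prjS e).liftOfRightInverse_comp_apply _ _ _ g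

theorem lam_sq [DecidableEq F] (e : N ≃* Matrix.ProjectiveSpecialLinearGroup (Fin 3) F) :
    (lam e) ^ 2 ^ 1 = 1 := by
  ext1 n
  obtain ⟨g, rfl⟩ := prjS_surj e n
  rw [pow_one, MonoidHom.pow_apply, lam_apply, MonoidHom.one_apply]
  exact chi2_sq _

/-- the cyclic permutation -/
def cyM : SL3 := ⟨!![0, 0, 1; 1, 0, 0; 0, 1, 0], by rw [det_fin_three]; simp⟩

/-- a diagonal matrix -/
def dgM (c : Fˣ) : SL3 := ⟨!![(c : F), 0, 0; 0, 1, 0; 0, 0, ((c⁻¹ : Fˣ) : F)], by
  rw [det_fin_three]; simp⟩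

/-- the conjugate diagonal matrix -/
def dgM' (c : Fˣ) : SL3 := ⟨!![1, 0, 0; 0, ((c⁻¹ : Fˣ) : F), 0; 0, 0, (c : F)], by
  rw [det_fin_three]; simp⟩

omit [Fintype F] in
theorem cyM_mul (c : Fˣ) : (cyM : SL3)⁻¹ * dgM c * cyM = dgM' c := by
  rw [mul_assoc, inv_mul_eq_iff_eq_mul]
  apply Subtype.ext
  rw [Matrix.SpecialLinearGroup.coe_mul, Matrix.SpecialLinearGroup.coe_mul]
  show !![(c : F), 0, 0; 0, 1, 0; 0, 0, ((c⁻¹ : Fˣ) : F)] * !![(0 : F), 0, 1; 1, 0, 0; 0, 1, 0] =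
    !![(0 : F), 0, 1; 1, 0, 0; 0, 1, 0] * !![(1 : F), 0, 0; 0, ((c⁻¹ : Fˣ) : F), 0; 0, 0, (c : F)]
  ext i j
  (revert i j; simp only [mul_apply, Fin.sum_univ_three, _root_.Fin.forall_fin_succ, _root_.Units.val_inv_eq_inv_val, _root_.Matrix.of_apply, _root_.Matrix.cons_val', _root_.Matrix.cons_val_fin_one, Fin.isValue, _root_.Matrix.cons_val_zero, _root_.Matrix.cons_val_one, _root_.Matrix.cons_val, _root_.MulZeroClass.mul_zero, _root_.mul_one, _root_.zero_add, _root_.add_zero, _root_.Matrix.cons_val_succ, _root_.forall_const, _root_.true_and, _root_.MulZeroClass.zero_mul, _root_.one_mul, _root_.and_self, _root_.implies_true])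

theorem mackey_lam [DecidableEq F] (hodd : Odd (Fintype.card F))
    (e : N ≃* Matrix.ProjectiveSpecialLinearGroup (Fin 3) F) (g : N)
    (h : ∀ a b : stabilizer N (Pts.mk e x0), (b : N) = g * a * g⁻¹ → lam e a = lam e b) :
    g ∈ stabilizer N (Pts.mk e x0) := by
  obtain ⟨c, hc⟩ := exists_chi2 hodd
  have hd : dgM c ∈ stabilizer SL3 (x0 : Projectivization F (Fin 3 → F)) := mem_st.2 ⟨rfl, rfl⟩
  have hd' : dgM' c ∈ stabilizer SL3 (x0 : Projectivization F (Fin 3 → F)) := mem_st.2 ⟨rfl, rfl⟩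
  have hcy : cyM ∉ stabilizer SL3 (x0 : Projectivization F (Fin 3 → F)) := by
    intro h1
    have h2 := (mem_st.1 h1).1
    exact one_ne_zero (α := F) h2
  have hconj : (prj e cyM)⁻¹ * prj e (dgM c) * prj e cyM = prj e (dgM' c) := by
    rw [← map_inv, ← map_mul, ← map_mul, cyM_mul]
  have h1 : prj e (dgM c) ∈ stabilizer N (Pts.mk e x0) := (mem_st_iff e _).2 hd
  have h2 : (prj e cyM)⁻¹ * prj e (dgM c) * prj e cyM ∈ stabilizer N (Pts.mk e x0) := by
    rw [hconj]; exact (mem_st_iff e _).2 hd'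
  refine mackey_of_two (pts_two e) (Pts.mk e x0) (lam e) (prj e cyM) (prj e (dgM c)) ?_ h1 h2 ?_ g h
  · intro h3
    exact hcy ((mem_st_iff e _).1 (mem_stabilizer_iff.2 h3))
  · have e1 : (⟨_, h1⟩ : stabilizer N (Pts.mk e x0)) = prjS e ⟨dgM c, hd⟩ := rfl
    have e2 : (⟨_, h2⟩ : stabilizer N (Pts.mk e x0)) = prjS e ⟨dgM' c, hd'⟩ := Subtype.ext hconj
    rw [e1, e2, lam_apply, lam_apply]
    have e3 : (eig (F := F)).toHomUnits ⟨dgM c, hd⟩ = c := Units.ext rfl
    have e4 : (eig (F := F)).toHomUnits ⟨dgM' c, hd'⟩ = 1 := Units.ext rfl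
    show chi2 F ((eig (F := F)).toHomUnits ⟨dgM c, hd⟩) ≠ chi2 F ((eig (F := F)).toHomUnits ⟨dgM' c, hd'⟩)
    rw [e3, e4, map_one]
    exact hc

end Lin

section Mem

variable {F : Type*} [Field F] [Fintype F] {N : Type*} [Group N] [Finite N] {M : Ideal AlgInt}

/-- the character `π - 1` of degree `q (q + 1)` -/
theorem irr_pts (e : N ≃* Matrix.ProjectiveSpecialLinearGroup (Fin 3) F) :
    IsIrrCharacter N (fun n => (Nat.card (fixedBy (Pts e) n) : ℂ) - 1) := by
  have h := card_pts e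
  have hq : 1 < Nat.card F := Finite.one_lt_card
  exact (S0157.result (Pts e) (by omega)).2 (pts_two e)

theorem pts_mem (hM : IsPModular 2 M) (hodd : Odd (Fintype.card F))
    (e : N ≃* Matrix.ProjectiveSpecialLinearGroup (Fin 3) F) :
    (⟨_, irr_pts e⟩ : IrrCharacter N) ∈ principalBlock M N := by
  classical
  have : Fact (Nat.Prime 2) := ⟨Nat.prime_two⟩
  exact perm_mem hM (Pts.mk e x0) (lam e) ⟨1, lam_sq e⟩ (mackey_lam hodd e) _ fun _ => rfl

end Mem

end Cfsg.Agent.H872.HT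
end

-- part: H872/HT/L3Wr
section
/-!
# S4933, box 2.L3.wr: the row of `PSL_3(q)`, `q = 1 mod 4`, at `p = 2` (helper872)
-/

set_option autoImplicit false

namespace Cfsg.Agent.H872.HT

open Matrix MulAction Cfsg Cfsg.Agent.H316.HT

universe u

section Nrm

variable {G : Type u} [Group G] (N : Subgroup G) [hN : N.Normal]

theorem map_conj_conj (Q : Subgroup N) (a b : G) : (Q.map (MulAut.conjNormal a : MulAut N).toMonoidHom).map
      (MulAut.conjNormal b : MulAut N).toMonoidHom = Q.map (MulAut.conjNormal (b * a) : MulAut N).toMonoidHom := by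
  rw [Subgroup.map_map]
  congr 1
  ext1 x
  show (MulAut.conjNormal b : MulAut N) ((MulAut.conjNormal a : MulAut N) x) = (MulAut.conjNormal (b * a) : MulAut N) x
  rw [map_mul]
  rfl

/-- the normalizer in `G` of a subgroup of `N` -/
def nrm (P : Subgroup N) : Subgroup G where
  carrier := {g | P.map (MulAut.conjNormal g : MulAut N).toMonoidHom = P}
  one_mem' := by
    show P.map (MulAut.conjNormal (1 : G) : MulAut N).toMonoidHom = P
    rw [map_one]
    exact Subgroup.map_id P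
  mul_mem' := by
    intro a b ha hb
    show P.map (MulAut.conjNormal (a * b) : MulAut N).toMonoidHom = P
    rw [← map_conj_conj, show P.map (MulAut.conjNormal b : MulAut N).toMonoidHom = P from hb]
    exact ha
  inv_mem' := by
    intro a ha
    show P.map (MulAut.conjNormal a⁻¹ : MulAut N).toMonoidHom = P
    conv_lhs => rw [← show P.map (MulAut.conjNormal a : MulAut N).toMonoidHom = P from ha]
    rw [map_conj_conj, inv_mul_cancel, map_one]
    exact Subgroup.map_id P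

theorem mem_nrm (P : Subgroup N) (g : G) :
    g ∈ nrm N P ↔ P.map (MulAut.conjNormal g : MulAut N).toMonoidHom = P := Iff.rfl

/-- the stabiliser of a point in a 2-transitive group of degree at least three is self-normalizing -/
theorem nrm_relIndex {X : Type*} [MulAction N X] [Finite X] [IsPretransitive N X]
    (h2 : IsMultiplyPretransitive N X 2) (h3 : 3 ≤ Nat.card X) (x : X) :
    (nrm N (stabilizer N x)).relIndex N = Nat.card X := by
  have h : (nrm N (stabilizer N x)).subgroupOf N = stabilizer N x := by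
    ext n
    rw [Subgroup.mem_subgroupOf, mem_nrm]
    have hc : (MulAut.conjNormal (n : G) : MulAut N) = MulAut.conj n := by
      ext y
      rw [MulAut.conjNormal_apply]
      rfl
    rw [hc, ← stabilizer_smul_eq_stabilizer_map_conj]
    constructor
    · intro h4
      by_contra hn
      rw [mem_stabilizer_iff] at hn
      obtain ⟨z, hz1, hz2⟩ : ∃ z : X, z ≠ x ∧ z ≠ n • x := by
        by_contra hcon
        push Not at hcon
        have h5 : (Set.univ : Set X) ⊆ {x, n • x} := by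
          intro z _
          by_cases hz : z = x
          · exact Or.inl hz
          · exact Or.inr (hcon z hz)
        have h6 := Set.ncard_le_ncard h5 (Set.toFinite _)
        rw [Set.ncard_univ] at h6
        have h7 := Set.ncard_insert_le x ({n • x} : Set X)
        rw [Set.ncard_singleton] at h7
        omega
      rw [is_two_pretransitive_iff] at h2
      obtain ⟨k, hk1, hk2⟩ := h2 (Ne.symm hn) (Ne.symm hz1)
      have hk3 : k ∈ stabilizer N (n • x) := by
        rw [h4]; exact hk1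
      rw [mem_stabilizer_iff, hk2] at hk3
      exact hz2 hk3
    · intro h4
      rw [mem_stabilizer_iff.1 h4]
  show ((nrm N (stabilizer N x)).subgroupOf N).index = _
  rw [h, index_stabilizer_of_transitive]

end Nrm

section Ext

variable {F : Type*} [Field F] [Fintype F]

theorem ext_pts {G : Type u} [Group G] [Finite G] (N : Subgroup G) [hN : N.Normal]
    (e : N ≃* Matrix.ProjectiveSpecialLinearGroup (Fin 3) F)
    (hidx : ∃ j : ℕ, N.index = 2 ^ j) :
    ∃ χ : IrrCharacter G, ∀ n : N, (χ : G → ℂ) n = (Nat.card (fixedBy (Pts e) n) : ℂ) - 1 := by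
  have hq : 1 < Nat.card F := Finite.one_lt_card
  have hq2 : Nat.card F ^ 2 = Nat.card F * Nat.card F := sq _
  have hm : 3 ≤ Nat.card F ^ 2 + Nat.card F + 1 := by linarith only [hq, _root_.mul_self_nonneg (↑(Nat.card F) : ℤ)]
  have hc := card_pts e
  have hmodd : Odd (Nat.card F ^ 2 + Nat.card F + 1) := by
    have h : Even (Nat.card F ^ 2 + Nat.card F) := by
      rw [sq, ← Nat.mul_succ]
      exact Nat.even_mul_succ_self _
    exact h.add_one
  refine exists_ext N (m := Nat.card F ^ 2 + Nat.card F + 1) (by omega) hidx hmodd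
    (not_sq_dvd (prj e) (prj_surj e)) ?_ (nrm N (stabilizer N (Pts.mk e x0))) ?_ ?_ (Pts e) hc (pts_two e)
  · intro X _ _ _ hX
    refine H386.PslPts.psl_two (n := 3) (by norm_num) e ?_
    rw [hX, ← Nat.card_eq_fintype_card]
    obtain ⟨k, hk⟩ := Nat.exists_eq_add_of_lt hq
    rw [hk]
    have : (1 + k + 1) ^ 3 = ((1 + k + 1) ^ 2 + (1 + k + 1) + 1) * (1 + k + 1 - 1) + 1 := by
      rw [Nat.add_sub_cancel]; ring
    omega
  · rw [nrm_relIndex N (pts_two e) (by omega), hc]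
  · refine index_le_two N (stabilizer N (Pts.mk e x0)) (m := Nat.card F ^ 2 + Nat.card F + 1) ?_ ?_ _
      fun g hg => hg
    · rw [index_stabilizer_of_transitive, hc]
    · intro K1 K2 K3 h1 h2 h3
      exact three (prj e) (prj_surj e) K1 K2 K3 h1 h2 h3

end Ext

/-- **the field `psl3_wr` of the dispatcher** -/
theorem psl3_wr (F : Type) [Field F] [Fintype F] (hF : Fintype.card F % 4 = 1) :
    Row 2 (ProjectiveSpecialLinearGroup (Fin 3) F) := by
  classical
  intro A _ _ N hN ⟨e⟩ _ M hM P a ha _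
  have h2f : Fact (Nat.Prime 2) := ⟨Nat.prime_two⟩
  have := Fintype.ofFinite A
  have := Fintype.ofFinite N
  have hodd : Odd (Fintype.card F) := by rw [Nat.odd_iff]; omega
  set H : Subgroup A := N ⊔ (P : Subgroup A) with hH
  have hNH : N ≤ H := le_sup_left
  let e1 : N.subgroupOf H ≃* N := Subgroup.subgroupOfEquivOfLe hNH
  obtain ⟨ξ, hξ⟩ := ext_pts (N.subgroupOf H) (e1.trans e) (H624.HT.index_subgroupOf_sup N P P.isPGroup')
  let ψ : IrrCharacter N := ⟨_, irr_pts e⟩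
  have hval : ∀ n : N, (ξ : H → ℂ) ⟨n, hNH n.2⟩ = (ψ : N → ℂ) n := by
    intro n
    have h1 := hξ (e1.symm n)
    have h2 : ((e1.symm n : N.subgroupOf H) : H) = ⟨n, hNH n.2⟩ := rfl
    rw [h2] at h1
    rw [h1]
    show (Nat.card (fixedBy (Pts (e1.trans e)) (e1.symm n)) : ℂ) - 1 = (Nat.card (fixedBy (Pts e) n) : ℂ) - 1
    rfl
  have hdeg1 : (ψ : N → ℂ) 1 = (Fintype.card F * (Fintype.card F + 1) : ℕ) := by
    show (Nat.card (fixedBy (Pts e) (1 : N)) : ℂ) - 1 = _
    have h3 : fixedBy (Pts e) (1 : N) = Set.univ := by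
      ext i
      simp
    rw [h3, Nat.card_univ, card_pts, Nat.card_eq_fintype_card]
    push_cast
    ring
  have hdψ : charDegree (ψ : N → ℂ) = Fintype.card F * (Fintype.card F + 1) := by
    unfold charDegree
    rw [hdeg1, Complex.natCast_re, Nat.floor_natCast]
  have hdξ : charDegree (ξ : H → ℂ) = Fintype.card F * (Fintype.card F + 1) := by
    unfold charDegree
    have h1 := hval 1
    have h2 : (⟨((1 : N) : A), hNH (1 : N).2⟩ : H) = 1 := rfl
    rw [h2] at h1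
    rw [h1, hdeg1, Complex.natCast_re, Nat.floor_natCast]
  have hv : (Fintype.card F * (Fintype.card F + 1)).factorization 2 = 1 := by
    have h1 : ¬ 2 ∣ Fintype.card F := by omega
    obtain ⟨k, hk, hk2⟩ : ∃ k, Fintype.card F + 1 = 2 * k ∧ ¬ 2 ∣ k :=
      ⟨(Fintype.card F + 1) / 2, by omega, by omega⟩
    have hk0 : k ≠ 0 := by rintro rfl; exact hk2 (dvd_zero 2)
    have hF0 : Fintype.card F ≠ 0 := Fintype.card_ne_zero
    rw [hk, Nat.factorization_mul hF0 (by omega), Nat.factorization_mul (by norm_num) hk0]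
    simp only [Finsupp.coe_add, Pi.add_apply]
    rw [Nat.factorization_eq_zero_of_not_dvd h1, Nat.factorization_eq_zero_of_not_dvd hk2,
      Nat.Prime.factorization_self Nat.prime_two, zero_add, add_zero]
  refine H624.HT.goodOn_of hM N P ψ (pts_mem hM hodd e) H hH ξ ?_ ?_ (Or.inl ?_) ?_
  · intro _
    have h1 : (fun n : N => (ξ : H → ℂ) ⟨n, hH ▸ Subgroup.mem_sup_left n.2⟩) = (ψ : N → ℂ) := funext hval
    rw [h1, Cfsg.Agent.Characters.Core.classInner_irr_self ψ.2]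
    exact one_ne_zero
  · rw [vd, hdξ, hv]
    exact ha
  · rw [hdψ]
    exact (Nat.even_mul_succ_self _).two_dvd
  · intro h
    have h1 := congrFun h 1
    rw [hdeg1] at h1
    have h2 : Fintype.card F * (Fintype.card F + 1) = 1 := by exact_mod_cast h1
    have h3 : 1 < Fintype.card F := Fintype.one_lt_card
    nlinarith only [h2, h3]

end Cfsg.Agent.H872.HT
end

private theorem dce_77302fb083bc : _root_.True := by
  try have : _root_.True := by simp only [_root_.Cfsg.Agent.H872.HT.x0.eq_1]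
  try have : _root_.True := by simp only [_root_.Cfsg.Agent.H384.HT.qj.congr_simp]
  try have : _root_.True := by simp only [_root_.Cfsg.Agent.H384.HT.qs.congr_simp]
  try have : _root_.True := by simp only [_root_.Cfsg.Agent.H384.HT.τ.congr_simp]
  try have : _root_.True := by simp only [_root_.Cfsg.Agent.H872.HT.e0.eq_1]
  exact _root_.True.intro
end
end
end
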